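import Cfsg.Agent.H0.TRP
import Cfsg.Agent.H15.CS
import Cfsg.Agent.H15.M.McL
import Cfsg.Agent.H15.M.McLC
import Cfsg.Agent.H15.M.A8

/-! Generated by tools/h0/tr.py. -/

set_option maxRecDepth 100000
set_option maxHeartbeats 0

namespace H15.XTMcL
open H16 H0.TR

noncomputable def p2t_W : List (List ℕ) := [[nat_lit 4, nat_lit 0, nat_lit 2, nat_lit 0, nat_lit 1, nat_lit 0, nat_lit 1, nat_lit 3, nat_lit 1, nat_lit 2, nat_lit 0, nat_lit 1, nat_lit 2, nat_lit 3, nat_lit 4, nat_lit 3, nat_lit 2, nat_lit 0],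
  [nat_lit 1, nat_lit 0, nat_lit 2, nat_lit 1, nat_lit 0, nat_lit 2, nat_lit 3, nat_lit 4, nat_lit 3, nat_lit 2, nat_lit 0, nat_lit 1, nat_lit 2, nat_lit 0, nat_lit 1],
  [nat_lit 3, nat_lit 4, nat_lit 1, nat_lit 2, nat_lit 0, nat_lit 1, nat_lit 0, nat_lit 1, nat_lit 3, nat_lit 1, nat_lit 2, nat_lit 0, nat_lit 1, nat_lit 4, nat_lit 3, nat_lit 2, nat_lit 0, nat_lit 1, nat_lit 3],
  [nat_lit 0, nat_lit 2, nat_lit 3, nat_lit 0, nat_lit 1, nat_lit 0, nat_lit 2, nat_lit 1, nat_lit 4, nat_lit 3, nat_lit 1, nat_lit 2, nat_lit 0, nat_lit 1, nat_lit 0, nat_lit 2, nat_lit 0, nat_lit 4],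
  [nat_lit 0, nat_lit 3, nat_lit 4, nat_lit 2, nat_lit 0, nat_lit 1, nat_lit 2, nat_lit 0, nat_lit 3, nat_lit 2, nat_lit 0, nat_lit 4, nat_lit 3, nat_lit 2, nat_lit 1, nat_lit 3],
  [nat_lit 3, nat_lit 4, nat_lit 0, nat_lit 1, nat_lit 2, nat_lit 1, nat_lit 0, nat_lit 2, nat_lit 1, nat_lit 0, nat_lit 3],
  [nat_lit 2, nat_lit 1, nat_lit 0, nat_lit 1, nat_lit 3, nat_lit 2, nat_lit 0, nat_lit 1, nat_lit 2, nat_lit 3, nat_lit 1, nat_lit 4, nat_lit 3, nat_lit 2, nat_lit 0, nat_lit 1, nat_lit 0, nat_lit 3, nat_lit 4, nat_lit 1, nat_lit 4]]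
noncomputable def p2t_P : ℕ → ℕ → ℕ := wdsP H15.McL.P p2t_W
noncomputable def p2Pd : List ℕ := [nat_lit 0x5ea982e5dab4e951ad5eddfb566c45930624b991e7c2950e84d8d22711342d98d2c91c393838f037a08a0f546c20c12bd39252882ba2e98a8820d40b75cfc30746ed0b114a201f60d9e2c7c4d5a030652ad68c8e80,
  nat_lit 0x5ebf82e5dab4ecd8af5add4b54a8cd8326842910e74b8d1e245953278a7cfc4bb7808e81588419e56918310a10db7669431f321d5321061b1750d1c8c5a2d3a2403470f22409922854b1c3501ea34ca57ae6ae9c00,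
  nat_lit 0x5ca57705ea76efd7a362d59ab52b4a852e1ce831644fa1363c6892662d6490e994ef95894ac11a00268a8e58288aa7031da62c48e0b3ca18830e5d985260869f6aa4a215c882186c3c32f746dcb420f1bc010fde80,
  nat_lit 0x60a97ae5dab6acd1af5addfa74ac458326248852a74c8f1a84d872e7a53ae59343cadf0b5a60b3c04f49102631b9b7428b9446560094e851061eedf84580443652d53285ec42b03e1c1ae70a92191c8089c1accd00,
  nat_lit 0x52bb66a5fa35b05bb54ec5caf7aac4990a8499f0e5ce8d2a6c58f0640a7075d2932cdf9a187d01748ad3184a1173704146a1785153d68c491e1c205ac5ae4b0f061942280549b60e4139c024593560ed79b4625f00,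
  nat_lit 0x5aa34edd5bb82bd4b34ae58bd5afcd9d3e84b992a0c28f1a24587224896eb05260e14dae7ed5b1526a918804e0ebe22c942924f1225623418f0c3969a72708162861a17669d599407910b18f6030767dd0142bc200,
  nat_lit 0x56a75e8d8bf66ddebb72a5aa557042a1365c687262c79f3a44c832a22342388255ec132278ea00a3ec4d3e4ed0f1624a463958acc8f5a2591b0244c0d0654e3308a813f10e0b9d16902bb6c8142e7adc3352650380]
noncomputable def p2P (k u : ℕ) : ℕ := Nat.land (Nat.shiftRight (nth (nat_lit 0) p2Pd k) (Nat.mul u (nat_lit 7))) (nat_lit 127)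
noncomputable def p2Ed : ℕ := nat_lit 0xfa7aba5bacb5ea78ca622b958aa491407020f775b79acb759aad1488401d8e2611a080170f8743619027fbf9e6f2773b5d4e771371b4d56933994c86230982bb5aac15aac552a54ea14da5124904622d0c83409fcf46f3719ccc522690c783917864301407834180a048140400
noncomputable def p2E (u : ℕ) : ℕ := Nat.land (Nat.shiftRight p2Ed (Nat.mul u (nat_lit 9))) (nat_lit 511)
noncomputable def p2Id : ℕ := nat_lit 0x80fdf3d0000000000000000f000076e80000180000a002f8072e000000ddb009ed6f00680000000cc000013aeb200c4000013580000bc00000b8000b8b402c000002b00a94800002d8050000009801380960002600012a4948d1004200000000100001680003e00000000001e007401c000001b352404800640003000bc72c00000005400001180000002280284c00000000002446c80016220000000000000000af5aa80004000000007800002a0000000001c00000000000d000060000000430000000160000000000530000000000004200000520000509000000800000510e00305821018000001000004000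
noncomputable def p2I (u : ℕ) : ℕ := Nat.land (Nat.shiftRight p2Id (Nat.mul u (nat_lit 7))) (nat_lit 127)
noncomputable def p2B : List ℕ := [nat_lit 0, nat_lit 65, nat_lit 81, nat_lit 3, nat_lit 66]
noncomputable def p2C : List (List (List ℕ)) := [[[],
  [],
  [],
  [],
  [],
  [],
  []], [[],
  [],
  [],
  [],
  [nat_lit 0],
  [],
  [nat_lit 0]], [[],
  [],
  [nat_lit 0],
  [nat_lit 0],
  [nat_lit 0],
  [nat_lit 1],
  []], [[],
  [],
  [],
  [],
  [],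
  [],
  [nat_lit 1]], [[],
  [],
  [],
  [],
  [nat_lit 0],
  [nat_lit 3],
  [nat_lit 2]], [[],
  [],
  [],
  [],
  [],
  [],
  [nat_lit 0, nat_lit 3]], [[],
  [],
  [],
  [],
  [],
  [],
  [nat_lit 2]]]
noncomputable def p2e : List (List ℕ) := [[],
  [],
  [],
  [],
  [],
  [],
  [],
  [],
  [],
  [],
  [],
  [],
  [],
  [],
  [],
  [],
  [],
  [],
  [],
  [],
  [],
  [],
  [],
  [],
  [],
  [],
  [nat_lit 1, nat_lit 3, nat_lit 4],
  [nat_lit 1, nat_lit 4],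
  [nat_lit 1, nat_lit 5],
  [nat_lit 3, nat_lit 5, nat_lit 6]]
noncomputable def p2l0Dd : ℕ := nat_lit 0xca12b9fdc5386aca5932b177ae81b2346650c9d762ce524a452ba54436860ef9dc3829591ba1a3bc700df9a330860cb314928c4ac9410d2143bc688ce28e4a8858ee19e2cc590770e81d83a8590ac0ec2b83a03a0700d800
noncomputable def p2l0D (u : ℕ) : ℕ := Nat.land (Nat.shiftRight p2l0Dd (Nat.mul u (nat_lit 11))) (nat_lit 2047)
noncomputable def p2l0Pd : ℕ := nat_lit 0x12e96971e6458a0b015b46ee123b2208e2808c1ca35ef091e44a50884af4c131cf832a4cc59b50ed8abf2c7ceb21a50190589cd8c40b8d01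
noncomputable def p2l0P (u : ℕ) : ℕ := Nat.land (Nat.shiftRight p2l0Pd (Nat.mul u (nat_lit 7))) (nat_lit 127)
noncomputable def p2l0Qd : ℕ := nat_lit 0x3641a7a6c3ea72cd253454c5aa9c2f47d588ac1977f1a238433a436d141e9df0f44a725bc8edb2c4e78fe04d9deb26e000
noncomputable def p2l0Q (u : ℕ) : ℕ := Nat.land (Nat.shiftRight p2l0Qd (Nat.mul u (nat_lit 6))) (nat_lit 63)
noncomputable def p2l0 : H16.Lev := ⟨64, 30, p2l0D, p2l0P, p2l0Q⟩
noncomputable def p2l1Dd : ℕ := nat_lit 0x340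
noncomputable def p2l1D (u : ℕ) : ℕ := Nat.land (Nat.shiftRight p2l1Dd (Nat.mul u (nat_lit 5))) (nat_lit 31)
noncomputable def p2l1Pd : ℕ := nat_lit 0x33
noncomputable def p2l1P (u : ℕ) : ℕ := Nat.land (Nat.shiftRight p2l1Pd (Nat.mul u (nat_lit 3))) (nat_lit 7)
noncomputable def p2l1Qd : ℕ := nat_lit 0x40
noncomputable def p2l1Q (u : ℕ) : ℕ := Nat.land (Nat.shiftRight p2l1Qd (Nat.mul u (nat_lit 1))) (nat_lit 1)
noncomputable def p2l1 : H16.Lev := ⟨2, 27, p2l1D, p2l1P, p2l1Q⟩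
noncomputable def cov2r_W : List (List ℕ) := [[nat_lit 0, nat_lit 4, nat_lit 2, nat_lit 0, nat_lit 1, nat_lit 0, nat_lit 1, nat_lit 3, nat_lit 1, nat_lit 2, nat_lit 0, nat_lit 1, nat_lit 2, nat_lit 3, nat_lit 4, nat_lit 3, nat_lit 2, nat_lit 0]]
noncomputable def cov2r_P : ℕ → ℕ → ℕ := wdsP H15.McL.P cov2r_W
noncomputable def cov2T0 : CT := (.split (.more (.split (.more (.split (.more (.split (.more (.split (.more (.split (.more (.split (.more .one (.more (.leaf (nat_lit 0) []) .one))) (.more (.fuse [nat_lit 4] [] (.leaf (nat_lit 0) [nat_lit 3, nat_lit 1, nat_lit 0, nat_lit 3, nat_lit 1, nat_lit 2, nat_lit 0, nat_lit 4, nat_lit 5, nat_lit 0, nat_lit 1, nat_lit 2, nat_lit 1, nat_lit 3, nat_lit 1, nat_lit 5, nat_lit 4, nat_lit 0])) .one))) (.more (.fuse [nat_lit 5] [] (.fuse [nat_lit 3] [] (.prune (nat_lit 0) (nat_lit 1) []))) .one))) (.more (.split (.more (.fuse [nat_lit 6] [] (.fuse [nat_lit 2]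 [] (.leaf (nat_lit 0) [nat_lit 0, nat_lit 1, nat_lit 0, nat_lit 2, nat_lit 0, nat_lit 1, nat_lit 3, nat_lit 1, nat_lit 2, nat_lit 0, nat_lit 3, nat_lit 1, nat_lit 0, nat_lit 4, nat_lit 3, nat_lit 1, nat_lit 2, nat_lit 1, nat_lit 0, nat_lit 1]))) (.more (.fuse [nat_lit 5] [] (.fuse [nat_lit 2] [] (.leaf (nat_lit 0) [nat_lit 0, nat_lit 1, nat_lit 2, nat_lit 0, nat_lit 4, nat_lit 3, nat_lit 2, nat_lit 1, nat_lit 0, nat_lit 2, nat_lit 3, nat_lit 2, nat_lit 4, nat_lit 5, nat_lit 2, nat_lit 3, nat_lit 1, nat_lit 2, nat_lit 5, nat_lit 0, nat_lit 2]))) .one))) .one))) (.more (.fuse [nat_lit 5] [] (.fuse [nat_lit 6] [nat_lit 0] (.split (.more (.fuse [nat_lit 1] [] (.prune (nat_lit 0) (nat_lit 1) [])) (.more (.fuse [nat_lit 1] [] (.leaf (nat_lit 0) [nat_lit 3, nat_lit 0, nat_lit 1, nat_lit 0, nat_lit 1, nat_lit 2, nat_lit 1, nat_lit 0, nat_lit 2, nat_lit 3, nat_lit 2, nat_lit 1, nat_lit 0, nat_lit 2, nat_lit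 4, nat_lit 3, nat_lit 2, nat_lit 0, nat_lit 1, nat_lit 3])) .one))))) .one))) (.more (.split (.more (.fuse [nat_lit 4] [] (.split (.more (.fuse [nat_lit 2] [] (.fuse [nat_lit 2, nat_lit 4, nat_lit 6] [] (.leaf (nat_lit 0) [nat_lit 0, nat_lit 1, nat_lit 0, nat_lit 1, nat_lit 2, nat_lit 3, nat_lit 2, nat_lit 0, nat_lit 1, nat_lit 2, nat_lit 3, nat_lit 1, nat_lit 4, nat_lit 3, nat_lit 2, nat_lit 1, nat_lit 0, nat_lit 2, nat_lit 5, nat_lit 4, nat_lit 1, nat_lit 0]))) (.more (.fuse [nat_lit 2] [] (.prune (nat_lit 1) (nat_lit 1) [nat_lit 0])) .one)))) (.more (.fuse [nat_lit 4] [] (.prune (nat_lit 3) (nat_lit 1) [nat_lit 0])) .one))) .one))) (.more (.split (.more (.split (.more (.fuse [nat_lit 5] [nat_lit 1] (.fuse [nat_lit 4] [nat_lit 0] (.prune (nat_lit 2) (nat_lit 1) []))) (.more (.split (.more (.fuse [nat_lit 4] [] (.fuse [nat_lit 3] [] (.fuse [nat_lit 2] [] (.prune (nat_lit 0) (nat_lit 1) []))))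 (.more (.fuse [nat_lit 4] [nat_lit 0] (.fuse [nat_lit 3] [] (.prune (nat_lit 1) (nat_lit 1) [nat_lit 0]))) .one))) .one))) (.more (.split (.more (.fuse [nat_lit 4] [nat_lit 1, nat_lit 2] (.prune (nat_lit 3) (nat_lit 1) [nat_lit 0, nat_lit 1, nat_lit 2])) (.more (.fuse [nat_lit 4] [nat_lit 1, nat_lit 2] (.split (.more (.fuse [nat_lit 2] [] (.fuse [nat_lit 2, nat_lit 5] [] (.leaf (nat_lit 0) [nat_lit 1, nat_lit 2, nat_lit 1, nat_lit 0, nat_lit 2, nat_lit 1, nat_lit 0, nat_lit 3, nat_lit 1, nat_lit 2, nat_lit 0, nat_lit 3, nat_lit 1, nat_lit 0, nat_lit 4, nat_lit 3, nat_lit 2, nat_lit 1, nat_lit 0, nat_lit 2]))) (.more (.fuse [nat_lit 2] [] (.prune (nat_lit 1) (nat_lit 1) [nat_lit 0])) .one)))) .one))) .one))) .one)))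
noncomputable def x_W : List (List ℕ) := [[nat_lit 0, nat_lit 4, nat_lit 2, nat_lit 0, nat_lit 1, nat_lit 0, nat_lit 1, nat_lit 3, nat_lit 1, nat_lit 2, nat_lit 0, nat_lit 1, nat_lit 2, nat_lit 3, nat_lit 4, nat_lit 3, nat_lit 2, nat_lit 0]]
noncomputable def x_P : ℕ → ℕ → ℕ := wdsP H15.McL.P x_W
noncomputable def ah_W : List (List ℕ) := [[nat_lit 1, nat_lit 0, nat_lit 1, nat_lit 2, nat_lit 3, nat_lit 4, nat_lit 3, nat_lit 2, nat_lit 0, nat_lit 1, nat_lit 0, nat_lit 1],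
  [nat_lit 2],
  [nat_lit 3, nat_lit 0, nat_lit 3, nat_lit 1, nat_lit 2, nat_lit 4, nat_lit 3, nat_lit 2, nat_lit 1, nat_lit 4, nat_lit 0],
  [nat_lit 0, nat_lit 2, nat_lit 0, nat_lit 1, nat_lit 0, nat_lit 4, nat_lit 3, nat_lit 1, nat_lit 2, nat_lit 0, nat_lit 4],
  [nat_lit 0],
  [nat_lit 3],
  [nat_lit 1],
  [nat_lit 4],
  [nat_lit 3, nat_lit 0, nat_lit 2, nat_lit 1, nat_lit 0, nat_lit 3, nat_lit 2, nat_lit 0, nat_lit 1, nat_lit 0, nat_lit 3, nat_lit 4, nat_lit 3, nat_lit 1],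
  [nat_lit 5],
  [nat_lit 1, nat_lit 2, nat_lit 0, nat_lit 1, nat_lit 0, nat_lit 2, nat_lit 1, nat_lit 3, nat_lit 2, nat_lit 1, nat_lit 0, nat_lit 1, nat_lit 4, nat_lit 3, nat_lit 1, nat_lit 2, nat_lit 3, nat_lit 5, nat_lit 2]]
noncomputable def ah_P : ℕ → ℕ → ℕ := wdsP H15.McL.P ah_W
noncomputable def al0Dd : ℕ := nat_lit 0x7049dea3f896ae08807db42d42ba5c9789018ca87394c9363b29158f48bd87183b8259b77f99548247766c87a191d83982e7807a08e68c58ba8af5d677f7336a589969a86d73269952651b51080a73c5a84d94ce4c34b87c86984a26ad6a246b79c77b7706606556346293fd3d14ab38451872370d5a536e36343d4326aa69f3b930b2ea2df68952110a0d42c94462b32a84a83813ee43a2660a75603ed3755345293ab34931e22f33327a0914fd3284b02b01e21d74a51cc07c49a08443742c2a42381c11b61ab4162991eb1a03df3d43c90792212161743922981ca35b33a24b22b1b41e915e13d05b32418806330e3032f817d1721e81de11c0582ab1a727f15c1511461301250fb0f01c719104f0e52532481bc17b1701660da0cf23d19003911a20616f0131f01040b90e302c1da15914312d1220d80cd0c21181980f70b718d0a108d1171010d60cb0ab02314b14011f0d50bf07709f09509e0800191090fe0750890180160c70bc0a609b07d06905f04b04000e05d05304903e00d07a05c04804703c03203102802703801d01c01b02201a01200f00c009000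
noncomputable def al0D (u : ℕ) : ℕ := Nat.land (Nat.shiftRight al0Dd (Nat.mul u (nat_lit 12))) (nat_lit 4095)
noncomputable def al0Pd : ℕ := nat_lit 0x2cf6cf3411578105997450b25bb6d5112138ec3a783518caad11ab9080134297ca8f7158c1bc1b52a6084b84e200449e19a357afa16a2922621c3ac38ab1b8807a4f238844907571d5985661ba504dd43994b6344b8a8cc485b1687e792b8b0d8f42232e16c871864a26920b98c21712bd46c7403b51e24e132816ae00abb43e931e2c5aefb3b16494d6794410cc9388a583033026864ba218f8cec70c42502950b2c19ca23f23148be72a4092fc691f1847d2928d72d384435fe88878258aad80015c25c6314074d878210dc99851c154115a131ded57b3b872bf4fa0c1cf92f1fc9afe79b88c86f82a85be9281446181a6ca2ca60d6e1b42802831191c724e961b4af01b414e2e030061cca6026dd077092ece7014492c141e53311ce0f823f410cd17ab152047c1e92c2335831d894750c51e00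
noncomputable def al0P (u : ℕ) : ℕ := Nat.land (Nat.shiftRight al0Pd (Nat.mul u (nat_lit 9))) (nat_lit 511)
noncomputable def al0Qd : ℕ := nat_lit 0x4107c9635894dc3d5c96d0c6f6a0cc8613480fc38673692024784e390980b7a14d5cbc23a5d525f2a94944056f00d9c210aac8f6fa5b918caa420bc59837830b476604ea60a8aa381ddf82a8820420d15d09128b84418cd216679d52223281f1cb0d0f230e2ec83b0d4a5785c213c821634cd00e6e1641b051485dde7d3920084a627ba05eeb11238b8ee63825080450101c27a008c5cc7e1d388366c65a55ee5e273350aea251fce8768882981001026da4ac0e8c1265a221746cbd03bfd690f44b1594457f381628f7b12e146464b09342e5fb41faf51c9cd6a626c2a092560d264f2c46b8ca1cbb45bb566f960a29b29f81184a2df6dab5f6c873a3404f2078a1c6be79b19250981a9d5ed5043a5acda5086202dd780f16c875820d46357c07cb10c0a134700689064d4115589ccc0c158d04c00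
noncomputable def al0Q (u : ℕ) : ℕ := Nat.land (Nat.shiftRight al0Qd (Nat.mul u (nat_lit 9))) (nat_lit 511)
noncomputable def al0 : H16.Lev := ⟨275, 11, al0D, al0P, al0Q⟩
noncomputable def al1Dd : ℕ := nat_lit 0x8df263d78586b10c1e34bfaf58861883e06bb0801f9c97446f6b9e1996386b59b5b953129381203f7c17e4790c0c036568f1521b14b5244710a404f039d966357b46d00331692e8a95153334d063f49f3ace22bc9e36484054083407b1cc14030121c86928c791805724470158450f0341302b1902a14829124220dc2e0802507c18040170380d0280701800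
noncomputable def al1D (u : ℕ) : ℕ := Nat.land (Nat.shiftRight al1Dd (Nat.mul u (nat_lit 10))) (nat_lit 1023)
noncomputable def al1Pd : ℕ := nat_lit 0x584178d681b79003b2d324990b159b09cc352bbd22337bb911455143ac7e5024bd1ea41501e104161a3e8bb073b1ed56350ab44aecc22874be3674acc2640151e444263432d0aa813aba243024158403d32b6cb22431bf1646238980385410adc36bd5c0b10e42278e8ea374e16dba9e288e0c26a46a608e444433c942d
noncomputable def al1P (u : ℕ) : ℕ := Nat.land (Nat.shiftRight al1Pd (Nat.mul u (nat_lit 9))) (nat_lit 511)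
noncomputable def al1Qd : ℕ := nat_lit 0xb40000000000c8000009000000d60000000000220128000b6028d20000000bc00000ac01d80000005a000000001a86804c0000001b00000002100040004064033000000000c0000000000c6d00000173400000748400000b80008a000300002f80000004f003000f000000600000000002e80000038001640032a01880013406900000008c01b4e011c8800000f80000006200200330001380468049e7a024801d9d28082aac1c00005d4278406500069ab0a01f840052838aa01400d04800a20f224bb80002c0000016c6dc0575ed002400d4da90001f1d32000000132180720006e0000000de0000000000000000000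
noncomputable def al1Q (u : ℕ) : ℕ := Nat.land (Nat.shiftRight al1Qd (Nat.mul u (nat_lit 7))) (nat_lit 127)
noncomputable def al1 : H16.Lev := ⟨112, 9, al1D, al1P, al1Q⟩
noncomputable def al2Dd : ℕ := nat_lit 0x60854a71763e703c27301b1e46493d2f292325221c0f190e090810070500
noncomputable def al2D (u : ℕ) : ℕ := Nat.land (Nat.shiftRight al2Dd (Nat.mul u (nat_lit 8))) (nat_lit 255)
noncomputable def al2Pd : ℕ := nat_lit 0x14acc7a30c8249273d4a0c9403ad645b4e244d88d559aa06423c84d0e82310d51410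
noncomputable def al2P (u : ℕ) : ℕ := Nat.land (Nat.shiftRight al2Pd (Nat.mul u (nat_lit 9))) (nat_lit 511)
noncomputable def al2Qd : ℕ := nat_lit 0x480000000000000002db0000000000900000000000000000000000000000000000001c0028000000d0000000000000000000044000000058000003a0000000000f0000000000001c00018000400280000101300000000e000000000000000d028000000000c000000080000000000001505c0000300000000232000000000000004000000000000000000000000000000000000000003000000000000000000000000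
noncomputable def al2Q (u : ℕ) : ℕ := Nat.land (Nat.shiftRight al2Qd (Nat.mul u (nat_lit 5))) (nat_lit 31)
noncomputable def al2 : H16.Lev := ⟨30, 6, al2D, al2P, al2Q⟩
noncomputable def al3Dd : ℕ := nat_lit 0x1bdf59835154f507119228f54a74474d181a406080e18200
noncomputable def al3D (u : ℕ) : ℕ := Nat.land (Nat.shiftRight al3Dd (Nat.mul u (nat_lit 7))) (nat_lit 127)
noncomputable def al3Pd : ℕ := nat_lit 0x330924e52bd5e8c320a01d65064a70b66a5940cf28d43aad044209a286a62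
noncomputable def al3P (u : ℕ) : ℕ := Nat.land (Nat.shiftRight al3Pd (Nat.mul u (nat_lit 9))) (nat_lit 511)
noncomputable def al3Qd : ℕ := nat_lit 0x500000000000000002d50000000000880000000000000000000000000000000000001a001e000000a000000000000000000002c000000030000002e0000000000e000000000000000001000080038000014120000000120000000000000000030000000000000000006800000000000100600000320000000126000000000000002000000000000000000000000000000000000000001800000000000000000000000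
noncomputable def al3Q (u : ℕ) : ℕ := Nat.land (Nat.shiftRight al3Qd (Nat.mul u (nat_lit 5))) (nat_lit 31)
noncomputable def al3 : H16.Lev := ⟨27, 5, al3D, al3P, al3Q⟩
noncomputable def al4Dd : ℕ := nat_lit 0xc
noncomputable def al4D (u : ℕ) : ℕ := Nat.land (Nat.shiftRight al4Dd (Nat.mul u (nat_lit 2))) (nat_lit 3)
noncomputable def al4Pd : ℕ := nat_lit 0x916c
noncomputable def al4P (u : ℕ) : ℕ := Nat.land (Nat.shiftRight al4Pd (Nat.mul u (nat_lit 8))) (nat_lit 255)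
noncomputable def al4Qd : ℕ := nat_lit 0x2000000000000000000000000000000000000
noncomputable def al4Q (u : ℕ) : ℕ := Nat.land (Nat.shiftRight al4Qd (Nat.mul u (nat_lit 1))) (nat_lit 1)
noncomputable def al4 : H16.Lev := ⟨2, 4, al4D, al4P, al4Q⟩
noncomputable def al5Dd : ℕ := nat_lit 0xa75210
noncomputable def al5D (u : ℕ) : ℕ := Nat.land (Nat.shiftRight al5Dd (Nat.mul u (nat_lit 4))) (nat_lit 15)
noncomputable def al5Pd : ℕ := nat_lit 0x828a7935ab13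
noncomputable def al5P (u : ℕ) : ℕ := Nat.land (Nat.shiftRight al5Pd (Nat.mul u (nat_lit 8))) (nat_lit 255)
noncomputable def al5Qd : ℕ := nat_lit 0x200000000000000000000000100000140000018000000000000000000000000000000000000000000000000010000000000000000000000000000000000000000
noncomputable def al5Q (u : ℕ) : ℕ := Nat.land (Nat.shiftRight al5Qd (Nat.mul u (nat_lit 3))) (nat_lit 7)
noncomputable def al5 : H16.Lev := ⟨6, 3, al5D, al5P, al5Q⟩
noncomputable def al6Dd : ℕ := nat_lit 4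
noncomputable def al6D (u : ℕ) : ℕ := Nat.land (Nat.shiftRight al6Dd (Nat.mul u (nat_lit 1))) (nat_lit 1)
noncomputable def al6Pd : ℕ := nat_lit 0x50eb87
noncomputable def al6P (u : ℕ) : ℕ := Nat.land (Nat.shiftRight al6Pd (Nat.mul u (nat_lit 8))) (nat_lit 255)
noncomputable def al6Qd : ℕ := nat_lit 0x4000000000000000000000000000000000000000000000000000000000000000000000000000020000000000000000000000000000000000000000
noncomputable def al6Q (u : ℕ) : ℕ := Nat.land (Nat.shiftRight al6Qd (Nat.mul u (nat_lit 2))) (nat_lit 3)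
noncomputable def al6 : H16.Lev := ⟨3, 1, al6D, al6P, al6Q⟩
noncomputable def ce_W : List (List ℕ) := [[nat_lit 2, nat_lit 1, nat_lit 0, nat_lit 1, nat_lit 2, nat_lit 4, nat_lit 3, nat_lit 2, nat_lit 1, nat_lit 0, nat_lit 1, nat_lit 4],
  [nat_lit 2, nat_lit 0, nat_lit 1, nat_lit 2, nat_lit 4, nat_lit 3, nat_lit 2, nat_lit 1, nat_lit 0, nat_lit 2, nat_lit 4],
  [nat_lit 0, nat_lit 4, nat_lit 2, nat_lit 3, nat_lit 2, nat_lit 0, nat_lit 1, nat_lit 2, nat_lit 3, nat_lit 2, nat_lit 4, nat_lit 3, nat_lit 1, nat_lit 2, nat_lit 0, nat_lit 3, nat_lit 2, nat_lit 4, nat_lit 3, nat_lit 4],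
  [nat_lit 4, nat_lit 1, nat_lit 2, nat_lit 1, nat_lit 0, nat_lit 3, nat_lit 1, nat_lit 2, nat_lit 0, nat_lit 3, nat_lit 1, nat_lit 0, nat_lit 4, nat_lit 3, nat_lit 1, nat_lit 2, nat_lit 0, nat_lit 1],
  [nat_lit 3, nat_lit 2, nat_lit 0, nat_lit 1, nat_lit 0, nat_lit 4, nat_lit 3, nat_lit 1, nat_lit 2, nat_lit 0, nat_lit 1, nat_lit 2, nat_lit 0],
  [nat_lit 4, nat_lit 0, nat_lit 2, nat_lit 3, nat_lit 2, nat_lit 1, nat_lit 0, nat_lit 3, nat_lit 2, nat_lit 4, nat_lit 3, nat_lit 1, nat_lit 2, nat_lit 0, nat_lit 3, nat_lit 2, nat_lit 5, nat_lit 0, nat_lit 2, nat_lit 0, nat_lit 5]]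
noncomputable def ce_P : ℕ → ℕ → ℕ := wdsP H15.McL.P ce_W
noncomputable def cc5Dd : ℕ := nat_lit 0x3d408
noncomputable def cc5D (u : ℕ) : ℕ := Nat.land (Nat.shiftRight cc5Dd (Nat.mul u (nat_lit 3))) (nat_lit 7)
noncomputable def cc5Pd : ℕ := nat_lit 0x358a79ab8213
noncomputable def cc5P (u : ℕ) : ℕ := Nat.land (Nat.shiftRight cc5Pd (Nat.mul u (nat_lit 8))) (nat_lit 255)
noncomputable def cc5Qd : ℕ := nat_lit 0x400000000000000000000000100000040000018000000000000000000000000000000000000000000000000028000000000000000000000000000000000000000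
noncomputable def cc5Q (u : ℕ) : ℕ := Nat.land (Nat.shiftRight cc5Qd (Nat.mul u (nat_lit 3))) (nat_lit 7)
noncomputable def cc5 : H16.Lev := ⟨6, 2, cc5D, cc5P, cc5Q⟩
noncomputable def an0Fd : ℕ := nat_lit 0
noncomputable def an0F (u : ℕ) : ℕ := Nat.land (Nat.shiftRight an0Fd (Nat.mul u (nat_lit 1))) (nat_lit 1)
noncomputable def an0 : Nd := ⟨an0F, (nat_lit 2), (nat_lit 2), [], [((nat_lit 0), [])], []⟩
noncomputable def an1y145_W : List (List ℕ) := [[nat_lit 4, nat_lit 2, nat_lit 0, nat_lit 1, nat_lit 2, nat_lit 0, nat_lit 1, nat_lit 0, nat_lit 2, nat_lit 3, nat_lit 2, nat_lit 0, nat_lit 1, nat_lit 2, nat_lit 0, nat_lit 3, nat_lit 1, nat_lit 4, nat_lit 3, nat_lit 2, nat_lit 0, nat_lit 3]]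
noncomputable def an1y145_P : ℕ → ℕ → ℕ := wdsP H15.McL.P an1y145_W
noncomputable def ar2k_W : List (List ℕ) := [[nat_lit 3, nat_lit 4, nat_lit 3, nat_lit 2, nat_lit 0, nat_lit 1, nat_lit 2, nat_lit 3, nat_lit 4, nat_lit 3, nat_lit 2, nat_lit 1, nat_lit 0, nat_lit 2, nat_lit 3, nat_lit 4, nat_lit 3],
  [nat_lit 4, nat_lit 3, nat_lit 2, nat_lit 0, nat_lit 1, nat_lit 2, nat_lit 3, nat_lit 2, nat_lit 1, nat_lit 0, nat_lit 2, nat_lit 3, nat_lit 2, nat_lit 4]]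
noncomputable def ar2k_P : ℕ → ℕ → ℕ := wdsP H15.McL.P ar2k_W
noncomputable def an2Fd : ℕ := nat_lit 0x13b61
noncomputable def an2F (u : ℕ) : ℕ := Nat.land (Nat.shiftRight an2Fd (Nat.mul u (nat_lit 3))) (nat_lit 7)
noncomputable def an2 : Nd := ⟨an2F, (nat_lit 2), (nat_lit 2), [], [((nat_lit 0), []), ((nat_lit 0), [nat_lit 0])], []⟩
noncomputable def an1Fd : ℕ := nat_lit 2
noncomputable def an1F (u : ℕ) : ℕ := Nat.land (Nat.shiftRight an1Fd (Nat.mul u (nat_lit 1))) (nat_lit 1)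
noncomputable def an1 : Nd := ⟨an1F, (nat_lit 2), (nat_lit 2), [], [((nat_lit 0), [])], [((nat_lit 145), an1y145_W)]⟩
noncomputable def cc2Dd : ℕ := nat_lit 0x8de54e3ca2c61420c0
noncomputable def cc2D (u : ℕ) : ℕ := Nat.land (Nat.shiftRight cc2Dd (Nat.mul u (nat_lit 6))) (nat_lit 63)
noncomputable def cc2Pd : ℕ := nat_lit 0x5940c9c6a3124538cc7a9b09210
noncomputable def cc2P (u : ℕ) : ℕ := Nat.land (Nat.shiftRight cc2Pd (Nat.mul u (nat_lit 9))) (nat_lit 511)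
noncomputable def cc2Qd : ℕ := nat_lit 0xa00000000000003000000000000000000000000000000000000000040000000000000000000000000b0000000000000000000005000000000060000000000000000000000000000000000002080000000700000000000000000009000010000000000000000000000000000000000000000000000000000000000000000000000000
noncomputable def cc2Q (u : ℕ) : ℕ := Nat.land (Nat.shiftRight cc2Qd (Nat.mul u (nat_lit 4))) (nat_lit 15)
noncomputable def cc2 : H16.Lev := ⟨12, 4, cc2D, cc2P, cc2Q⟩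
noncomputable def an3y138_W : List (List ℕ) := [[nat_lit 0, nat_lit 2, nat_lit 0, nat_lit 3, nat_lit 2, nat_lit 0]]
noncomputable def an3y138_P : ℕ → ℕ → ℕ := wdsP H15.McL.P an3y138_W
noncomputable def ar4k_W : List (List ℕ) := [[nat_lit 0, nat_lit 1, nat_lit 0, nat_lit 1, nat_lit 2, nat_lit 3, nat_lit 4, nat_lit 3, nat_lit 2, nat_lit 1, nat_lit 0, nat_lit 1],
  [nat_lit 2]]
noncomputable def ar4k_P : ℕ → ℕ → ℕ := wdsP H15.McL.P ar4k_W
noncomputable def an4Fd : ℕ := nat_lit 3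
noncomputable def an4F (u : ℕ) : ℕ := Nat.land (Nat.shiftRight an4Fd (Nat.mul u (nat_lit 1))) (nat_lit 1)
noncomputable def an4 : Nd := ⟨an4F, (nat_lit 2), (nat_lit 2), [], [((nat_lit 0), []), ((nat_lit 1), [nat_lit 0])], []⟩
noncomputable def an3Fd : ℕ := nat_lit 0x5046800079fa080001500896fb0410
noncomputable def an3F (u : ℕ) : ℕ := Nat.land (Nat.shiftRight an3Fd (Nat.mul u (nat_lit 4))) (nat_lit 15)
noncomputable def an3 : Nd := ⟨an3F, (nat_lit 4), (nat_lit 4), [[nat_lit 0]], [((nat_lit 0), []), ((nat_lit 0), [nat_lit 0])], [((nat_lit 138), an3y138_W)]⟩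
noncomputable def cc1Dd : ℕ := nat_lit 0xeec9e275661454a1c9146100
noncomputable def cc1D (u : ℕ) : ℕ := Nat.land (Nat.shiftRight cc1Dd (Nat.mul u (nat_lit 6))) (nat_lit 63)
noncomputable def cc1Pd : ℕ := nat_lit 0xe451373d3b3f5b98b841c3d1f4a58d2d
noncomputable def cc1P (u : ℕ) : ℕ := Nat.land (Nat.shiftRight cc1Pd (Nat.mul u (nat_lit 8))) (nat_lit 255)
noncomputable def cc1Qd : ℕ := nat_lit 0x3000000000000000f00000000000000000040000000000000500000000007000000000000000000200000000000080000000000100000000000000000000000000000000000000000000000009000000000e00000000000000060a0c0b000d0000000000000000000000000000000000000000000000000000000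
noncomputable def cc1Q (u : ℕ) : ℕ := Nat.land (Nat.shiftRight cc1Qd (Nat.mul u (nat_lit 4))) (nat_lit 15)
noncomputable def cc1 : H16.Lev := ⟨16, 5, cc1D, cc1P, cc1Q⟩
noncomputable def an5Fd : ℕ := nat_lit 0x8460cc52605b9928ce2004dd3502535bc13a82609b6b09bd2b71b1360310849d26c66a6e0c5bc8ab8a5b39b1a082e2c546767c9ca7c107031d075d00b0275040ee001f850420
noncomputable def an5F (u : ℕ) : ℕ := Nat.land (Nat.shiftRight an5Fd (Nat.mul u (nat_lit 5))) (nat_lit 31)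
noncomputable def an5 : Nd := ⟨an5F, (nat_lit 5), (nat_lit 5), [[nat_lit 0]], [((nat_lit 0), [])], []⟩
noncomputable def cc0Dd : ℕ := nat_lit 0x1666fcf34ad4cc319d4f84a53273a810a82e88a114a54f1f242c4091418280
noncomputable def cc0D (u : ℕ) : ℕ := Nat.land (Nat.shiftRight cc0Dd (Nat.mul u (nat_lit 7))) (nat_lit 127)
noncomputable def cc0Pd : ℕ := nat_lit 0x16c5a981dbc482d161ae1be581eb8dc8375129808f452c143e8d28a91749f638fd729501bd92600
noncomputable def cc0P (u : ℕ) : ℕ := Nat.land (Nat.shiftRight cc0Pd (Nat.mul u (nat_lit 9))) (nat_lit 511)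
noncomputable def cc0Qd : ℕ := nat_lit 0x3800000000000000000000020100007800000000000000000155800006400000000000000000007000000000000001c00006c000000000000915a0000000000000000000000000123ca0130002000000000200001000400000003000000000000000000000000000000000000000000000000000000000000000000000000008800180000000002c00000000000000000000007401805c07c00005000000000000008400000000000000000003400000000000000000000000000000000000000110c0000
noncomputable def cc0Q (u : ℕ) : ℕ := Nat.land (Nat.shiftRight cc0Qd (Nat.mul u (nat_lit 6))) (nat_lit 63)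
noncomputable def cc0 : H16.Lev := ⟨35, 6, cc0D, cc0P, cc0Q⟩
noncomputable def an6Fd : ℕ := nat_lit 0x1d65481975d75c7976587167c07dd6db80060075a61765781b49d0007408dd61e44069e01771d7d775901c0196268225d875d01d8a269f01571e4133e301f75a8008e274d01701501664c5a361854c0226195d06170004125967605dd39b5185d26a25d52402d04405185c07964c04d50125118dd71960e5960193884d770d3d449c35259b8d93d25d865851636075901749301c3ca55551755c3180160134506877175ce59961659659348069201559349c5594d839965d4d655d49c01345269961c4d63c0416493656196551040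
noncomputable def an6F (u : ℕ) : ℕ := Nat.land (Nat.shiftRight an6Fd (Nat.mul u (nat_lit 6))) (nat_lit 63)
noncomputable def an6 : Nd := ⟨an6F, (nat_lit 6), (nat_lit 6), [[nat_lit 0]], [((nat_lit 0), [])], []⟩
noncomputable def sub_W : List (List ℕ) := [[nat_lit 2, nat_lit 0, nat_lit 1, nat_lit 0, nat_lit 2, nat_lit 1, nat_lit 0, nat_lit 3, nat_lit 2, nat_lit 1, nat_lit 0, nat_lit 4, nat_lit 5, nat_lit 0, nat_lit 1, nat_lit 2, nat_lit 4, nat_lit 5, nat_lit 4, nat_lit 3, nat_lit 1, nat_lit 5],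
  [nat_lit 1, nat_lit 2, nat_lit 1, nat_lit 0, nat_lit 3, nat_lit 1, nat_lit 2, nat_lit 0, nat_lit 1, nat_lit 2, nat_lit 3, nat_lit 1, nat_lit 2, nat_lit 4, nat_lit 5, nat_lit 2, nat_lit 1, nat_lit 0, nat_lit 4, nat_lit 5, nat_lit 3, nat_lit 1],
  [nat_lit 1, nat_lit 0, nat_lit 2, nat_lit 4, nat_lit 5, nat_lit 4, nat_lit 2, nat_lit 0, nat_lit 1],
  [nat_lit 0, nat_lit 5, nat_lit 0, nat_lit 1, nat_lit 0, nat_lit 1, nat_lit 2, nat_lit 0, nat_lit 1, nat_lit 0, nat_lit 1, nat_lit 3, nat_lit 2, nat_lit 4, nat_lit 3, nat_lit 2, nat_lit 0, nat_lit 1, nat_lit 3, nat_lit 2, nat_lit 1, nat_lit 5, nat_lit 1, nat_lit 4]]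
noncomputable def sub_Z : List ℕ := [nat_lit 2, nat_lit 1, nat_lit 2, nat_lit 1, nat_lit 2, nat_lit 0, nat_lit 2, nat_lit 1, nat_lit 2, nat_lit 1, nat_lit 2, nat_lit 3, nat_lit 2, nat_lit 1, nat_lit 2, nat_lit 1, nat_lit 2, nat_lit 0, nat_lit 2, nat_lit 1, nat_lit 2, nat_lit 1, nat_lit 2, nat_lit 3]
noncomputable def q_W : List (List ℕ) := [[nat_lit 1, nat_lit 2, nat_lit 0, nat_lit 3, nat_lit 2, nat_lit 4, nat_lit 5, nat_lit 6, nat_lit 5, nat_lit 4, nat_lit 3, nat_lit 2],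
  [nat_lit 2, nat_lit 3, nat_lit 2, nat_lit 1, nat_lit 4, nat_lit 5, nat_lit 6, nat_lit 5, nat_lit 4, nat_lit 3, nat_lit 2, nat_lit 0],
  [nat_lit 1, nat_lit 2, nat_lit 3, nat_lit 4, nat_lit 3, nat_lit 2, nat_lit 5, nat_lit 4, nat_lit 3, nat_lit 6, nat_lit 5, nat_lit 4, nat_lit 3, nat_lit 2, nat_lit 0],
  [nat_lit 1, nat_lit 3, nat_lit 2, nat_lit 1, nat_lit 4, nat_lit 5, nat_lit 4, nat_lit 6, nat_lit 5, nat_lit 4, nat_lit 3]]
noncomputable def q_V : List (List ℕ) := [[nat_lit 2, nat_lit 0, nat_lit 2, nat_lit 0, nat_lit 3, nat_lit 2, nat_lit 0, nat_lit 2, nat_lit 1, nat_lit 3, nat_lit 2, nat_lit 0, nat_lit 2, nat_lit 1, nat_lit 3],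
  [nat_lit 3, nat_lit 0, nat_lit 2, nat_lit 1, nat_lit 2, nat_lit 0, nat_lit 3, nat_lit 2, nat_lit 1, nat_lit 2, nat_lit 1, nat_lit 3, nat_lit 2, nat_lit 1, nat_lit 2],
  [nat_lit 0, nat_lit 2, nat_lit 1, nat_lit 2, nat_lit 1, nat_lit 2, nat_lit 0, nat_lit 3, nat_lit 2, nat_lit 0, nat_lit 2, nat_lit 1, nat_lit 2, nat_lit 3, nat_lit 2, nat_lit 1, nat_lit 2],
  [nat_lit 2, nat_lit 1, nat_lit 2, nat_lit 3, nat_lit 2, nat_lit 1, nat_lit 2, nat_lit 1, nat_lit 2, nat_lit 0, nat_lit 2, nat_lit 1],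
  [nat_lit 3, nat_lit 2, nat_lit 0, nat_lit 2, nat_lit 0, nat_lit 2, nat_lit 1, nat_lit 2, nat_lit 1, nat_lit 2, nat_lit 1, nat_lit 3, nat_lit 2, nat_lit 0],
  [nat_lit 0, nat_lit 2, nat_lit 1, nat_lit 2, nat_lit 0, nat_lit 2, nat_lit 3, nat_lit 2, nat_lit 0, nat_lit 2, nat_lit 1, nat_lit 2, nat_lit 1, nat_lit 3],
  [nat_lit 3, nat_lit 2, nat_lit 0, nat_lit 2, nat_lit 1, nat_lit 2, nat_lit 1, nat_lit 2, nat_lit 1, nat_lit 3, nat_lit 2, nat_lit 1, nat_lit 2, nat_lit 1, nat_lit 3]]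
noncomputable def q_Pd : List ℕ := [nat_lit 0x74788e,
  nat_lit 0x833e8d,
  nat_lit 0xdc231d,
  nat_lit 0xdd8a54]
noncomputable def q_P (k u : ℕ) : ℕ := Nat.land (Nat.shiftRight (nth (nat_lit 0) q_Pd k) (Nat.mul u (nat_lit 3))) (nat_lit 7)
noncomputable def y_W : List (List ℕ) := [[nat_lit 2, nat_lit 1, nat_lit 2, nat_lit 1, nat_lit 2, nat_lit 0, nat_lit 2, nat_lit 1, nat_lit 2, nat_lit 1, nat_lit 2, nat_lit 3, nat_lit 2, nat_lit 1, nat_lit 2, nat_lit 1, nat_lit 2, nat_lit 0, nat_lit 2, nat_lit 1, nat_lit 2, nat_lit 1, nat_lit 2, nat_lit 3],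
  [nat_lit 3, nat_lit 2, nat_lit 1, nat_lit 2, nat_lit 1, nat_lit 3, nat_lit 2, nat_lit 0, nat_lit 2, nat_lit 1, nat_lit 2, nat_lit 1, nat_lit 2, nat_lit 3, nat_lit 2, nat_lit 0]]
noncomputable def y_P : ℕ → ℕ → ℕ := wdsP H15.XMcLC.P y_W
noncomputable def k_W : List (List ℕ) := [[nat_lit 2, nat_lit 1, nat_lit 2, nat_lit 1, nat_lit 2, nat_lit 0, nat_lit 2, nat_lit 1, nat_lit 2, nat_lit 1, nat_lit 2, nat_lit 3, nat_lit 2, nat_lit 1, nat_lit 2, nat_lit 1, nat_lit 2, nat_lit 0, nat_lit 2, nat_lit 1, nat_lit 2, nat_lit 1, nat_lit 2, nat_lit 3]]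
noncomputable def k_P : ℕ → ℕ → ℕ := wdsP H15.XMcLC.P k_W

theorem md_b : ltAll 275 H15.McL.B = 0 ∧ 898128000 ≠ 0 := by decide +kernel
theorem md8_b : ltAll 8 H15.XA8.B = 0 ∧ 20160 ≠ 0 := by decide +kernel
theorem p2t_lt : H16.allL (ltAll 6) p2t_W = true := by decide +kernel
theorem p2_r_a : allZ2 (resEnt p2t_P p2P p2E p2I (nat_lit 275) (nat_lit 97)) (nat_lit 7) (nat_lit 97) = true := by decide +kernel
theorem p2_b : neL H15.McL.B (p2B.map p2E) = 0 ∧ ltAll 97 p2B = 0 := by decide +kernel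
theorem p2_p : allZ2 (pcEnt p2P (nat_lit 2) p2B p2C) 7 7 = true := by decide +kernel
theorem p2_e : H16.allL (ltAll 7) p2e = true := by decide +kernel
theorem p2l0_e_0 : allZ (dent p2l0 (wdsP p2P p2e) (nat_lit 97)) (nat_lit 0) (nat_lit 63) = true := by decide +kernel
theorem p2l0_h : 0 < p2l0.n ∧ 0 < p2l0.K ∧ p2l0.Pt 0 < 97 ∧ p2l0.Q (p2l0.Pt 0) = 0 := by decide +kernel
theorem p2l1_e_0 : allZ (dent p2l1 (wdsP p2P p2e) (nat_lit 97)) (nat_lit 0) (nat_lit 1) = true := by decide +kernel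
theorem p2l1_h : 0 < p2l1.n ∧ 0 < p2l1.K ∧ p2l1.Pt 0 < 97 ∧ p2l1.Q (p2l1.Pt 0) = 0 := by decide +kernel
theorem p2_f1 : (Nat.ble p2l1.K 30 && Nat.ble (topK []) p2l1.K && fixLetters (wdsP p2P p2e) (topK []) (p2l1.Pt 0)) = true := by decide +kernel
theorem p2_f0 : (Nat.ble p2l0.K 30 && Nat.ble (topK [p2l1]) p2l0.K && fixLetters (wdsP p2P p2e) (topK [p2l1]) (p2l0.Pt 0)) = true := by decide +kernel
theorem p2_c : chainCard [p2l0, p2l1] = 2 ^ 7 ∧ ¬ 2 ^ (7 + 1) ∣ 898128000 := by decide +kernel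
theorem cov2r_lt : H16.allL (ltAll 6) cov2r_W = true := by decide +kernel
theorem cov2_c0 : (Nat.ble 7 7 && Nat.beq (ltAll 7 []) 0 && Nat.beq (cov2T0.chk H15.McL.P p2P cov2r_P p2E 6 7 2 2 1 p2B 7 [] 0) 0) = true := by decide +kernel
theorem x_lt : H16.allL (ltAll 6) x_W = true := by decide +kernel
theorem ah_lt : H16.allL (ltAll 6) ah_W = true := by decide +kernel
theorem al0_e_0 : allZ (dent al0 ah_P (nat_lit 275)) (nat_lit 0) (nat_lit 274) = true := by decide +kernel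
theorem al0_h : 0 < al0.n ∧ 0 < al0.K ∧ al0.Pt 0 < 275 ∧ al0.Q (al0.Pt 0) = 0 := by decide +kernel
theorem al1_e_0 : allZ (dent al1 ah_P (nat_lit 275)) (nat_lit 0) (nat_lit 111) = true := by decide +kernel
theorem al1_h : 0 < al1.n ∧ 0 < al1.K ∧ al1.Pt 0 < 275 ∧ al1.Q (al1.Pt 0) = 0 := by decide +kernel
theorem al2_e_0 : allZ (dent al2 ah_P (nat_lit 275)) (nat_lit 0) (nat_lit 29) = true := by decide +kernel
theorem al2_h : 0 < al2.n ∧ 0 < al2.K ∧ al2.Pt 0 < 275 ∧ al2.Q (al2.Pt 0) = 0 := by decide +kernel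
theorem al3_e_0 : allZ (dent al3 ah_P (nat_lit 275)) (nat_lit 0) (nat_lit 26) = true := by decide +kernel
theorem al3_h : 0 < al3.n ∧ 0 < al3.K ∧ al3.Pt 0 < 275 ∧ al3.Q (al3.Pt 0) = 0 := by decide +kernel
theorem al4_e_0 : allZ (dent al4 ah_P (nat_lit 275)) (nat_lit 0) (nat_lit 1) = true := by decide +kernel
theorem al4_h : 0 < al4.n ∧ 0 < al4.K ∧ al4.Pt 0 < 275 ∧ al4.Q (al4.Pt 0) = 0 := by decide +kernel
theorem al5_e_0 : allZ (dent al5 ah_P (nat_lit 275)) (nat_lit 0) (nat_lit 5) = true := by decide +kernel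
theorem al5_h : 0 < al5.n ∧ 0 < al5.K ∧ al5.Pt 0 < 275 ∧ al5.Q (al5.Pt 0) = 0 := by decide +kernel
theorem al6_e_0 : allZ (dent al6 ah_P (nat_lit 275)) (nat_lit 0) (nat_lit 2) = true := by decide +kernel
theorem al6_h : 0 < al6.n ∧ 0 < al6.K ∧ al6.Pt 0 < 275 ∧ al6.Q (al6.Pt 0) = 0 := by decide +kernel
theorem a_f6 : (Nat.ble al6.K 11 && Nat.ble (topK []) al6.K && fixLetters ah_P (topK []) (al6.Pt 0)) = true := by decide +kernel
theorem a_f5 : (Nat.ble al5.K 11 && Nat.ble (topK [al6]) al5.K && fixLetters ah_P (topK [al6]) (al5.Pt 0)) = true := by decide +kernel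
theorem a_f4 : (Nat.ble al4.K 11 && Nat.ble (topK [al5, al6]) al4.K && fixLetters ah_P (topK [al5, al6]) (al4.Pt 0)) = true := by decide +kernel
theorem a_f3 : (Nat.ble al3.K 11 && Nat.ble (topK [al4, al5, al6]) al3.K && fixLetters ah_P (topK [al4, al5, al6]) (al3.Pt 0)) = true := by decide +kernel
theorem a_f2 : (Nat.ble al2.K 11 && Nat.ble (topK [al3, al4, al5, al6]) al2.K && fixLetters ah_P (topK [al3, al4, al5, al6]) (al2.Pt 0)) = true := by decide +kernel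
theorem a_f1 : (Nat.ble al1.K 11 && Nat.ble (topK [al2, al3, al4, al5, al6]) al1.K && fixLetters ah_P (topK [al2, al3, al4, al5, al6]) (al1.Pt 0)) = true := by decide +kernel
theorem a_f0 : (Nat.ble al0.K 11 && Nat.ble (topK [al1, al2, al3, al4, al5, al6]) al0.K && fixLetters ah_P (topK [al1, al2, al3, al4, al5, al6]) (al0.Pt 0)) = true := by decide +kernel
theorem a_c : chainCard [al0, al1, al2, al3, al4, al5, al6] = 898128000 := by decide +kernel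
theorem ce_lt : H16.allL (ltAll 6) ce_W = true := by decide +kernel
theorem c_f6 : (Nat.ble al6.K 11 && Nat.blt (nat_lit 19) 275 && fixLetters ah_P al6.K (nat_lit 19) && Nat.beq (ltAll 1 [nat_lit 0]) 0 && Nat.beq (apW x_P [nat_lit 0] (nat_lit 19)) (al6.Pt 0)) = true := by decide +kernel
theorem cc5_e_0 : allZ (dent cc5 ce_P (nat_lit 275)) (nat_lit 0) (nat_lit 5) = true := by decide +kernel
theorem cc5_h : 0 < cc5.n ∧ 0 < cc5.K ∧ cc5.Pt 0 < 275 ∧ cc5.Q (cc5.Pt 0) = 0 := by decide +kernel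
theorem an0_0 : (Nat.ble al5.K 11 && Nat.beq (ltAll 275 [al4.Pt 0, al3.Pt 0, al2.Pt 0, al1.Pt 0, al0.Pt 0]) 0 && kChk ce_P x_P an0.Kn 1 H15.McL.B [al4.Pt 0, al3.Pt 0, al2.Pt 0, al1.Pt 0, al0.Pt 0] && H16.allL (ltAll 1) an0.pre && planOK ah_P x_P 1 (al5.Pt 0) an0.plan [al5, al6]) = true := by decide +kernel
theorem an0_1_0 : allZ (an0.ent H15.McL.P ah_P x_P x_P ce_P (nat_lit 6) (nat_lit 1) H15.McL.B al5 [al6] (memO cc5)) (nat_lit 0) (nat_lit 6) = true := by decide +kernel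
theorem c_f5 : (Nat.ble cc5.K 6 && Nat.ble (topK []) cc5.K && Nat.beq (cc5.Pt 0) (al5.Pt 0) && Nat.beq (ltAll 275 [al4.Pt 0, al3.Pt 0, al2.Pt 0, al1.Pt 0, al0.Pt 0]) 0 && kChk ce_P x_P cc5.K 1 H15.McL.B [al4.Pt 0, al3.Pt 0, al2.Pt 0, al1.Pt 0, al0.Pt 0]) = true := by decide +kernel
theorem an1y145_lt : H16.allL (ltAll 6) an1y145_W = true := by decide +kernel
theorem ar2k_lt : H16.allL (ltAll 6) ar2k_W = true := by decide +kernel
theorem an2_0 : (Nat.ble al5.K 11 && Nat.beq (ltAll 275 [al4.Pt 0, al3.Pt 0, al2.Pt 0, al1.Pt 0, al0.Pt 0]) 0 && kChk ar2k_P an1y145_P an2.Kn 1 H15.McL.B [al4.Pt 0, al3.Pt 0, al2.Pt 0, al1.Pt 0, al0.Pt 0] && H16.allL (ltAll 1) an2.pre && planOK ah_P x_P 1 (al5.Pt 0) an2.plan [al5, al6]) = true := by decide +kernel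
theorem an2_1_0 : allZ (an2.ent H15.McL.P ah_P x_P an1y145_P ar2k_P (nat_lit 6) (nat_lit 1) H15.McL.B al5 [al6] (fun _ => nat_lit 1)) (nat_lit 0) (nat_lit 6) = true := by decide +kernel
theorem an1_0 : (Nat.ble al4.K 11 && Nat.beq (ltAll 275 [al3.Pt 0, al2.Pt 0, al1.Pt 0, al0.Pt 0]) 0 && kChk ce_P x_P an1.Kn 1 H15.McL.B [al3.Pt 0, al2.Pt 0, al1.Pt 0, al0.Pt 0] && H16.allL (ltAll 1) an1.pre && planOK ah_P x_P 1 (al4.Pt 0) an1.plan [al4, al5, al6]) = true := by decide +kernel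
theorem an1_1_0 : allZ (an1.ent H15.McL.P ah_P x_P x_P ce_P (nat_lit 6) (nat_lit 1) H15.McL.B al4 [al5, al6] (fun w => Nat.xor w (al4.Pt (nat_lit 0)))) (nat_lit 0) (nat_lit 2) = true := by decide +kernel
theorem c_f3 : (Nat.ble al3.K 11 && Nat.blt (nat_lit 16) 275 && fixLetters ah_P al3.K (nat_lit 16) && Nat.beq (ltAll 1 [nat_lit 0]) 0 && Nat.beq (apW x_P [nat_lit 0] (nat_lit 16)) (al3.Pt 0)) = true := by decide +kernel
theorem cc2_e_0 : allZ (dent cc2 ce_P (nat_lit 275)) (nat_lit 0) (nat_lit 11) = true := by decide +kernel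
theorem cc2_h : 0 < cc2.n ∧ 0 < cc2.K ∧ cc2.Pt 0 < 275 ∧ cc2.Q (cc2.Pt 0) = 0 := by decide +kernel
theorem an3y138_lt : H16.allL (ltAll 6) an3y138_W = true := by decide +kernel
theorem ar4k_lt : H16.allL (ltAll 6) ar4k_W = true := by decide +kernel
theorem an4_0 : (Nat.ble al4.K 11 && Nat.beq (ltAll 275 [al3.Pt 0, al2.Pt 0, al1.Pt 0, al0.Pt 0]) 0 && kChk ar4k_P an3y138_P an4.Kn 1 H15.McL.B [al3.Pt 0, al2.Pt 0, al1.Pt 0, al0.Pt 0] && H16.allL (ltAll 1) an4.pre && planOK ah_P x_P 1 (al4.Pt 0) an4.plan [al4, al5, al6]) = true := by decide +kernel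
theorem an4_1_0 : allZ (an4.ent H15.McL.P ah_P x_P an3y138_P ar4k_P (nat_lit 6) (nat_lit 1) H15.McL.B al4 [al5, al6] (fun _ => nat_lit 1)) (nat_lit 0) (nat_lit 2) = true := by decide +kernel
theorem an3_0 : (Nat.ble al2.K 11 && Nat.beq (ltAll 275 [al1.Pt 0, al0.Pt 0]) 0 && kChk ce_P x_P an3.Kn 1 H15.McL.B [al1.Pt 0, al0.Pt 0] && H16.allL (ltAll 1) an3.pre && planOK ah_P x_P 1 (al2.Pt 0) an3.plan [al2, al3, al4, al5, al6]) = true := by decide +kernel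
theorem an3_1_0 : allZ (an3.ent H15.McL.P ah_P x_P x_P ce_P (nat_lit 6) (nat_lit 1) H15.McL.B al2 [al3, al4, al5, al6] (memO cc2)) (nat_lit 0) (nat_lit 30) = true := by decide +kernel
theorem c_f2 : (Nat.ble cc2.K 6 && Nat.ble (topK [cc5]) cc2.K && Nat.beq (cc2.Pt 0) (al2.Pt 0) && Nat.beq (ltAll 275 [al1.Pt 0, al0.Pt 0]) 0 && kChk ce_P x_P cc2.K 1 H15.McL.B [al1.Pt 0, al0.Pt 0]) = true := by decide +kernel
theorem cc1_e_0 : allZ (dent cc1 ce_P (nat_lit 275)) (nat_lit 0) (nat_lit 15) = true := by decide +kernel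
theorem cc1_h : 0 < cc1.n ∧ 0 < cc1.K ∧ cc1.Pt 0 < 275 ∧ cc1.Q (cc1.Pt 0) = 0 := by decide +kernel
theorem an5_0 : (Nat.ble al1.K 11 && Nat.beq (ltAll 275 [al0.Pt 0]) 0 && kChk ce_P x_P an5.Kn 1 H15.McL.B [al0.Pt 0] && H16.allL (ltAll 1) an5.pre && planOK ah_P x_P 1 (al1.Pt 0) an5.plan [al1, al2, al3, al4, al5, al6]) = true := by decide +kernel
theorem an5_1_0 : allZ (an5.ent H15.McL.P ah_P x_P x_P ce_P (nat_lit 6) (nat_lit 1) H15.McL.B al1 [al2, al3, al4, al5, al6] (memO cc1)) (nat_lit 0) (nat_lit 112) = true := by decide +kernel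
theorem c_f1 : (Nat.ble cc1.K 6 && Nat.ble (topK [cc2, cc5]) cc1.K && Nat.beq (cc1.Pt 0) (al1.Pt 0) && Nat.beq (ltAll 275 [al0.Pt 0]) 0 && kChk ce_P x_P cc1.K 1 H15.McL.B [al0.Pt 0]) = true := by decide +kernel
theorem cc0_e_0 : allZ (dent cc0 ce_P (nat_lit 275)) (nat_lit 0) (nat_lit 34) = true := by decide +kernel
theorem cc0_h : 0 < cc0.n ∧ 0 < cc0.K ∧ cc0.Pt 0 < 275 ∧ cc0.Q (cc0.Pt 0) = 0 := by decide +kernel
theorem an6_0 : (Nat.ble al0.K 11 && Nat.beq (ltAll 275 []) 0 && kChk ce_P x_P an6.Kn 1 H15.McL.B [] && H16.allL (ltAll 1) an6.pre && planOK ah_P x_P 1 (al0.Pt 0) an6.plan [al0, al1, al2, al3, al4, al5, al6]) = true := by decide +kernel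
theorem an6_1_0 : allZ (an6.ent H15.McL.P ah_P x_P x_P ce_P (nat_lit 6) (nat_lit 1) H15.McL.B al0 [al1, al2, al3, al4, al5, al6] (memO cc0)) (nat_lit 0) (nat_lit 275) = true := by decide +kernel
theorem c_f0 : (Nat.ble cc0.K 6 && Nat.ble (topK [cc1, cc2, cc5]) cc0.K && Nat.beq (cc0.Pt 0) (al0.Pt 0) && Nat.beq (ltAll 275 []) 0 && kChk ce_P x_P cc0.K 1 H15.McL.B []) = true := by decide +kernel
theorem c_c : chainCard [cc0, cc1, cc2, cc5] = 40320 ∧ topK [cc0, cc1, cc2, cc5] = 6 := by decide +kernel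
theorem sub_lt : H16.allL (ltAll 6) sub_W = true := by decide +kernel
theorem sub_m_a : allZ2 (matEnt (wdsP H15.McL.P sub_W) H15.XMcLC.P) (nat_lit 4) (nat_lit 275) = true := by decide +kernel
theorem sub_r : H16.allL (fixL H15.XMcLC.P 4 H15.McL.B) H15.XMcLC.Rl = true := by decide +kernel
theorem sub_rc : H16.allL (fixL H15.XMcLC.P 4 H15.XMcLC.B) H15.XMcLC.Rl = true := by decide +kernel
theorem sub_z : Nat.add (ltAll 4 [nat_lit 2, nat_lit 1, nat_lit 2, nat_lit 1, nat_lit 2, nat_lit 0, nat_lit 2, nat_lit 1, nat_lit 2, nat_lit 1, nat_lit 2, nat_lit 3, nat_lit 2, nat_lit 1, nat_lit 2, nat_lit 1, nat_lit 2, nat_lit 0, nat_lit 2, nat_lit 1, nat_lit 2, nat_lit 1, nat_lit 2, nat_lit 3]) (sumL (fun β => Nat.xor (x_P 0 β) (apW H15.XMcLC.P [nat_lit 2, nat_lit 1, nat_lit 2, nat_lit 1, nat_lit 2, nat_lit 0, nat_lit 2, nat_lit 1, nat_lit 2, nat_lit 1, nat_lit 2, nat_lit 3, nat_lit 2, nat_lit 1, nat_lit 2, nat_lit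 1, nat_lit 2, nat_lit 0, nat_lit 2, nat_lit 1, nat_lit 2, nat_lit 1, nat_lit 2, nat_lit 3] β)) H15.McL.B) = 0 := by decide +kernel
theorem sub_c : H15.CS.comL H15.XMcLC.P 4 H15.McL.B sub_Z = true := by decide +kernel
theorem sub_cc : H15.CS.comL H15.XMcLC.P 4 H15.XMcLC.B sub_Z = true ∧ ltAll 4 sub_Z = 0 := by decide +kernel
theorem sub_e : topK H15.XMcLC.L = 4 ∧ chainCard H15.XMcLC.L = 40320 ∧ chainBase H15.XMcLC.L = H15.XMcLC.B ∧ ltAll 275 H15.XMcLC.B = 0 := by decide +kernel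
theorem q_lt : H16.allL (ltAll 7) q_W = true := by decide +kernel
theorem q_m_a : allZ2 (matEnt (wdsP H15.XA8.P q_W) q_P) (nat_lit 4) (nat_lit 8) = true := by decide +kernel
theorem q_r : H16.allL (fixL q_P 4 H15.XA8.B) H15.XMcLC.Rl = true := by decide +kernel
theorem q_g : allZ (fun k => Nat.add (ltAll 4 (nth [] q_V k))
    (sumL (fun β => Nat.xor (H15.XA8.P k β) (apW q_P (nth [] q_V k) β)) H15.XA8.B)) 0 7 = true := by decide +kernel
theorem y_lt : H16.allL (ltAll 4) y_W = true := by decide +kernel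
theorem k_lt : H16.allL (ltAll 4) k_W = true := by decide +kernel
theorem k_k : allZ (fun j => Nat.add (ltAll 4 (nth [] k_W j))
    (fixL q_P 4 H15.XA8.B (nth [] k_W j))) 0 1 = true := by decide +kernel
theorem y_e : eqL y_P 2 H15.XMcLC.B [1, 1] [0] = 0 ∧ fixL y_P 2 H15.XMcLC.B (List.replicate 2 0) = 0 ∧ ltAll 2 [0] = 0 ∧ ltAll 2 [] = 0 ∧
    H15.CS.key y_P 275 H15.XMcLC.B [0] ≠ H15.CS.key y_P 275 H15.XMcLC.B [] := by decide +kernel

theorem md {G : Type*} [Group G] (e : gen H15.McL.g 6 ≃* G) :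
    ∃ (_ : MulAction G (H15.Lam)) (g : ℕ → G), Md g H15.McL.pt H15.McL.P 275 6 H15.McL.B 898128000 ∧
      ∀ k < 6, (e.symm (g k)).1 = H15.McL.g k :=
  exists_md H15.McL.act H15.McL.inj H15.McL.card H15.McL.isBase md_b e
theorem md8 {G : Type*} [Group G] (e : gen H15.XA8.g 7 ≃* G) :
    ∃ (_ : MulAction G (Fin 8)) (g : ℕ → G), Md g (ptF 8) H15.XA8.P 8 7 H15.XA8.B 20160 ∧
      ∀ k < 7, (e.symm (g k)).1 = H15.XA8.g k :=
  exists_md H15.XA8.act (ptF_inj 8) H15.XA8.card H15.XA8.isBase md8_b e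
theorem p2t_act {G Ω : Type*} [Group G] [MulAction G Ω] {g : ℕ → G} {pt : ℕ → Ω}
    (M : Md g pt H15.McL.P 275 6 H15.McL.B 898128000) : Act (wds g p2t_W) pt p2t_P 275 7 :=
  M.wact p2t_lt
theorem p2_r : ∀ k < 7, ∀ i < 97, (resEnt p2t_P p2P p2E p2I (nat_lit 275) (nat_lit 97)) k i = 0 := allZ2_sound p2_r_a
theorem p2_sm {G Ω : Type*} [Group G] [MulAction G Ω] {g : ℕ → G} {pt : ℕ → Ω}
    (M : Md g pt H15.McL.P 275 6 H15.McL.B 898128000) : Sm (wds g p2t_W) (fun i => pt (p2E i)) p2P 97 7 p2B ∧ ∀ i < 97, p2E i < 275 :=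
  M.res (p2t_act M) (by decide) p2_r p2_b
theorem p2l0_e : ∀ i < 63, (dent p2l0 (wdsP p2P p2e) (nat_lit 97)) i = 0 := allZ_sound0 p2l0_e_0
theorem p2l0_ok : DOK p2l0 (wdsP p2P p2e) 97 := ⟨p2l0_h, p2l0_e⟩
theorem p2l1_e : ∀ i < 1, (dent p2l1 (wdsP p2P p2e) (nat_lit 97)) i = 0 := allZ_sound0 p2l1_e_0
theorem p2l1_ok : DOK p2l1 (wdsP p2P p2e) 97 := ⟨p2l1_h, p2l1_e⟩
theorem p2_low {G Ω : Type*} [Group G] [MulAction G Ω] {g : ℕ → G} {pt : ℕ → Ω}
    (M : Md g pt H15.McL.P 275 6 H15.McL.B 898128000) : SLow (gi (wds (wds g p2t_W) p2e)) (fun i => pt (p2E i)) 97 [p2l0, p2l1] :=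
  ((SLow.nil).cons p2l1_ok ((p2_sm M).1.act.wds p2_e 30) p2_f1).cons p2l0_ok ((p2_sm M).1.act.wds p2_e 30) p2_f0
theorem p2_pc {G Ω : Type*} [Group G] [MulAction G Ω] {g : ℕ → G} {pt : ℕ → Ω}
    (M : Md g pt H15.McL.P 275 6 H15.McL.B 898128000) : PC (wds g p2t_W) 7 2 :=
  have := M.fin
  ((p2_sm M).1.pc0 (by decide) p2_p).pc (p2_low M) (p2_sm M).1.inj
    (fun k => evA_mem_gen _ (nth_lt p2_e k)) M.card ⟨by decide, p2_c⟩
theorem cov2r_act {G Ω : Type*} [Group G] [MulAction G Ω] {g : ℕ → G} {pt : ℕ → Ω}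
    (M : Md g pt H15.McL.P 275 6 H15.McL.B 898128000) : Act (wds g cov2r_W) pt cov2r_P 275 1 :=
  M.wact cov2r_lt
theorem cov2_0 {G Ω : Type*} [Group G] [MulAction G Ω] {g : ℕ → G} {pt : ℕ → Ω}
    (M : Md g pt H15.McL.P 275 6 H15.McL.B 898128000) : H0.TR.Cov (wds g p2t_W) (wds g cov2r_W) 2 1 7 (evA (wds g p2t_W) []) :=
  have := M.fin
  cov2T0.cov M (p2_sm M).1 (p2_sm M).2 (cov2r_act M) (p2_pc M) _ _ cov2_c0
theorem cov2 {G Ω : Type*} [Group G] [MulAction G Ω] {g : ℕ → G} {pt : ℕ → Ω}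
    (M : Md g pt H15.McL.P 275 6 H15.McL.B 898128000) {y : G} {e : ℕ} (hy : y ^ 2 ^ e = 1) (hq : y ^ 2 = 1) : Good (wds g cov2r_W) 1 y :=
  have := M.fin
  H0.TR.Cov.all (p2_pc M) (cov2_0 M) hy hq
theorem x_act {G Ω : Type*} [Group G] [MulAction G Ω] {g : ℕ → G} {pt : ℕ → Ω}
    (M : Md g pt H15.McL.P 275 6 H15.McL.B 898128000) : Act (wds g x_W) pt x_P 275 1 :=
  M.wact x_lt
theorem ah_act {G Ω : Type*} [Group G] [MulAction G Ω] {g : ℕ → G} {pt : ℕ → Ω}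
    (M : Md g pt H15.McL.P 275 6 H15.McL.B 898128000) : Act (wds g ah_W) pt ah_P 275 11 :=
  M.wact ah_lt
theorem al0_e : ∀ i < 274, (dent al0 ah_P (nat_lit 275)) i = 0 := allZ_sound0 al0_e_0
theorem al0_ok : DOK al0 ah_P 275 := ⟨al0_h, al0_e⟩
theorem al1_e : ∀ i < 111, (dent al1 ah_P (nat_lit 275)) i = 0 := allZ_sound0 al1_e_0
theorem al1_ok : DOK al1 ah_P 275 := ⟨al1_h, al1_e⟩
theorem al2_e : ∀ i < 29, (dent al2 ah_P (nat_lit 275)) i = 0 := allZ_sound0 al2_e_0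
theorem al2_ok : DOK al2 ah_P 275 := ⟨al2_h, al2_e⟩
theorem al3_e : ∀ i < 26, (dent al3 ah_P (nat_lit 275)) i = 0 := allZ_sound0 al3_e_0
theorem al3_ok : DOK al3 ah_P 275 := ⟨al3_h, al3_e⟩
theorem al4_e : ∀ i < 1, (dent al4 ah_P (nat_lit 275)) i = 0 := allZ_sound0 al4_e_0
theorem al4_ok : DOK al4 ah_P 275 := ⟨al4_h, al4_e⟩
theorem al5_e : ∀ i < 5, (dent al5 ah_P (nat_lit 275)) i = 0 := allZ_sound0 al5_e_0
theorem al5_ok : DOK al5 ah_P 275 := ⟨al5_h, al5_e⟩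
theorem al6_e : ∀ i < 2, (dent al6 ah_P (nat_lit 275)) i = 0 := allZ_sound0 al6_e_0
theorem al6_ok : DOK al6 ah_P 275 := ⟨al6_h, al6_e⟩
theorem a_low {G Ω : Type*} [Group G] [MulAction G Ω] {g : ℕ → G} {pt : ℕ → Ω}
    (M : Md g pt H15.McL.P 275 6 H15.McL.B 898128000) : SLow (gi (wds g ah_W)) pt 275 [al0, al1, al2, al3, al4, al5, al6] :=
  (((((((SLow.nil).cons al6_ok (ah_act M) a_f6).cons al5_ok (ah_act M) a_f5).cons al4_ok (ah_act M) a_f4).cons al3_ok (ah_act M) a_f3).cons al2_ok (ah_act M) a_f2).cons al1_ok (ah_act M) a_f1).cons al0_ok (ah_act M) a_f0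
theorem a_S0 {G Ω : Type*} [Group G] [MulAction G Ω] {g : ℕ → G} {pt : ℕ → Ω}
    (M : Md g pt H15.McL.P 275 6 H15.McL.B 898128000) : Stage ⊤ (wds g ah_W) pt 275 [al0, al1, al2, al3, al4, al5, al6] [] :=
  M.stage (a_low M) a_c
theorem a_S1 {G Ω : Type*} [Group G] [MulAction G Ω] {g : ℕ → G} {pt : ℕ → Ω}
    (M : Md g pt H15.McL.P 275 6 H15.McL.B 898128000) : Stage ⊤ (wds g ah_W) pt 275 [al1, al2, al3, al4, al5, al6] [al0.Pt 0] :=
  (a_S0 M).next
theorem a_S2 {G Ω : Type*} [Group G] [MulAction G Ω] {g : ℕ → G} {pt : ℕ → Ω}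
    (M : Md g pt H15.McL.P 275 6 H15.McL.B 898128000) : Stage ⊤ (wds g ah_W) pt 275 [al2, al3, al4, al5, al6] [al1.Pt 0, al0.Pt 0] :=
  (a_S1 M).next
theorem a_S3 {G Ω : Type*} [Group G] [MulAction G Ω] {g : ℕ → G} {pt : ℕ → Ω}
    (M : Md g pt H15.McL.P 275 6 H15.McL.B 898128000) : Stage ⊤ (wds g ah_W) pt 275 [al3, al4, al5, al6] [al2.Pt 0, al1.Pt 0, al0.Pt 0] :=
  (a_S2 M).next
theorem a_S4 {G Ω : Type*} [Group G] [MulAction G Ω] {g : ℕ → G} {pt : ℕ → Ω}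
    (M : Md g pt H15.McL.P 275 6 H15.McL.B 898128000) : Stage ⊤ (wds g ah_W) pt 275 [al4, al5, al6] [al3.Pt 0, al2.Pt 0, al1.Pt 0, al0.Pt 0] :=
  (a_S3 M).next
theorem a_S5 {G Ω : Type*} [Group G] [MulAction G Ω] {g : ℕ → G} {pt : ℕ → Ω}
    (M : Md g pt H15.McL.P 275 6 H15.McL.B 898128000) : Stage ⊤ (wds g ah_W) pt 275 [al5, al6] [al4.Pt 0, al3.Pt 0, al2.Pt 0, al1.Pt 0, al0.Pt 0] :=
  (a_S4 M).next
theorem a_S6 {G Ω : Type*} [Group G] [MulAction G Ω] {g : ℕ → G} {pt : ℕ → Ω}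
    (M : Md g pt H15.McL.P 275 6 H15.McL.B 898128000) : Stage ⊤ (wds g ah_W) pt 275 [al6] [al5.Pt 0, al4.Pt 0, al3.Pt 0, al2.Pt 0, al1.Pt 0, al0.Pt 0] :=
  (a_S5 M).next
theorem a_S7 {G Ω : Type*} [Group G] [MulAction G Ω] {g : ℕ → G} {pt : ℕ → Ω}
    (M : Md g pt H15.McL.P 275 6 H15.McL.B 898128000) : Stage ⊤ (wds g ah_W) pt 275 [] [al6.Pt 0, al5.Pt 0, al4.Pt 0, al3.Pt 0, al2.Pt 0, al1.Pt 0, al0.Pt 0] :=
  (a_S6 M).next
theorem ce_act {G Ω : Type*} [Group G] [MulAction G Ω] {g : ℕ → G} {pt : ℕ → Ω}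
    (M : Md g pt H15.McL.P 275 6 H15.McL.B 898128000) : Act (wds g ce_W) pt ce_P 275 6 :=
  M.wact ce_lt
theorem cc5_e : ∀ i < 5, (dent cc5 ce_P (nat_lit 275)) i = 0 := allZ_sound0 cc5_e_0
theorem cc5_ok : DOK cc5 ce_P 275 := ⟨cc5_h, cc5_e⟩
theorem an0_1 : ∀ i < 6, (an0.ent H15.McL.P ah_P x_P x_P ce_P (nat_lit 6) (nat_lit 1) H15.McL.B al5 [al6] (memO cc5)) i = 0 := allZ_sound0 an0_1_0
theorem an0_t {G Ω : Type*} [Group G] [MulAction G Ω] {g : ℕ → G} {pt : ℕ → Ω}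
    (M : Md g pt H15.McL.P 275 6 H15.McL.B 898128000) : TrO (gen (wds g ah_W) al5.K) (wds g x_W) (wds g x_W) 1 pt 275 (al5.Pt 0) (memO cc5) :=
  node M (a_S5 M) (ah_act M) (x_act M) (x_act M) an0 ((ce_act M).mono (by decide)) (fun _ _ => trivial) an0_0 an0_1 (List.forall_mem_nil _)
theorem an1y145_act {G Ω : Type*} [Group G] [MulAction G Ω] {g : ℕ → G} {pt : ℕ → Ω}
    (M : Md g pt H15.McL.P 275 6 H15.McL.B 898128000) : Act (wds g an1y145_W) pt an1y145_P 275 1 :=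
  M.wact an1y145_lt
theorem ar2k_act {G Ω : Type*} [Group G] [MulAction G Ω] {g : ℕ → G} {pt : ℕ → Ω}
    (M : Md g pt H15.McL.P 275 6 H15.McL.B 898128000) : Act (wds g ar2k_W) pt ar2k_P 275 2 :=
  M.wact ar2k_lt
theorem an2_1 : ∀ i < 6, (an2.ent H15.McL.P ah_P x_P an1y145_P ar2k_P (nat_lit 6) (nat_lit 1) H15.McL.B al5 [al6] (fun _ => nat_lit 1)) i = 0 := allZ_sound0 an2_1_0
theorem an2_t {G Ω : Type*} [Group G] [MulAction G Ω] {g : ℕ → G} {pt : ℕ → Ω}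
    (M : Md g pt H15.McL.P 275 6 H15.McL.B 898128000) : TrO (gen (wds g ah_W) al5.K) (wds g x_W) (wds g an1y145_W) 1 pt 275 (al5.Pt 0) (fun _ => nat_lit 1) :=
  node M (a_S5 M) (ah_act M) (x_act M) (an1y145_act M) an2 ((ar2k_act M).mono (by decide)) (fun _ _ => trivial) an2_0 an2_1 (List.forall_mem_nil _)
theorem ar2 {G Ω : Type*} [Group G] [MulAction G Ω] {g : ℕ → G} {pt : ℕ → Ω}
    (M : Md g pt H15.McL.P 275 6 H15.McL.B 898128000) : Ref (gen (wds g ah_W) (topK [al5, al6])) (wds g x_W) (wds g an1y145_W) 1 :=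
  (an2_t M).ref
theorem an1_1 : ∀ i < 2, (an1.ent H15.McL.P ah_P x_P x_P ce_P (nat_lit 6) (nat_lit 1) H15.McL.B al4 [al5, al6] (fun w => Nat.xor w (al4.Pt (nat_lit 0)))) i = 0 := allZ_sound0 an1_1_0
theorem an1_t {G Ω : Type*} [Group G] [MulAction G Ω] {g : ℕ → G} {pt : ℕ → Ω}
    (M : Md g pt H15.McL.P 275 6 H15.McL.B 898128000) : TrO (gen (wds g ah_W) al4.K) (wds g x_W) (wds g x_W) 1 pt 275 (al4.Pt 0) (fun w => Nat.xor w (al4.Pt (nat_lit 0))) :=
  node M (a_S4 M) (ah_act M) (x_act M) (x_act M) an1 ((ce_act M).mono (by decide)) (fun _ _ => trivial) an1_0 an1_1 (List.forall_mem_cons.2 ⟨ar2 M, List.forall_mem_nil _⟩)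
theorem cc2_e : ∀ i < 11, (dent cc2 ce_P (nat_lit 275)) i = 0 := allZ_sound0 cc2_e_0
theorem cc2_ok : DOK cc2 ce_P 275 := ⟨cc2_h, cc2_e⟩
theorem an3y138_act {G Ω : Type*} [Group G] [MulAction G Ω] {g : ℕ → G} {pt : ℕ → Ω}
    (M : Md g pt H15.McL.P 275 6 H15.McL.B 898128000) : Act (wds g an3y138_W) pt an3y138_P 275 1 :=
  M.wact an3y138_lt
theorem ar4k_act {G Ω : Type*} [Group G] [MulAction G Ω] {g : ℕ → G} {pt : ℕ → Ω}
    (M : Md g pt H15.McL.P 275 6 H15.McL.B 898128000) : Act (wds g ar4k_W) pt ar4k_P 275 2 :=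
  M.wact ar4k_lt
theorem an4_1 : ∀ i < 2, (an4.ent H15.McL.P ah_P x_P an3y138_P ar4k_P (nat_lit 6) (nat_lit 1) H15.McL.B al4 [al5, al6] (fun _ => nat_lit 1)) i = 0 := allZ_sound0 an4_1_0
theorem an4_t {G Ω : Type*} [Group G] [MulAction G Ω] {g : ℕ → G} {pt : ℕ → Ω}
    (M : Md g pt H15.McL.P 275 6 H15.McL.B 898128000) : TrO (gen (wds g ah_W) al4.K) (wds g x_W) (wds g an3y138_W) 1 pt 275 (al4.Pt 0) (fun _ => nat_lit 1) :=
  node M (a_S4 M) (ah_act M) (x_act M) (an3y138_act M) an4 ((ar4k_act M).mono (by decide)) (fun _ _ => trivial) an4_0 an4_1 (List.forall_mem_nil _)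
theorem ar4 {G Ω : Type*} [Group G] [MulAction G Ω] {g : ℕ → G} {pt : ℕ → Ω}
    (M : Md g pt H15.McL.P 275 6 H15.McL.B 898128000) : Ref (gen (wds g ah_W) (topK [al4, al5, al6])) (wds g x_W) (wds g an3y138_W) 1 :=
  (an4_t M).ref
theorem an3_1 : ∀ i < 30, (an3.ent H15.McL.P ah_P x_P x_P ce_P (nat_lit 6) (nat_lit 1) H15.McL.B al2 [al3, al4, al5, al6] (memO cc2)) i = 0 := allZ_sound0 an3_1_0
theorem an3_t {G Ω : Type*} [Group G] [MulAction G Ω] {g : ℕ → G} {pt : ℕ → Ω}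
    (M : Md g pt H15.McL.P 275 6 H15.McL.B 898128000) : TrO (gen (wds g ah_W) al2.K) (wds g x_W) (wds g x_W) 1 pt 275 (al2.Pt 0) (memO cc2) :=
  node M (a_S2 M) (ah_act M) (x_act M) (x_act M) an3 ((ce_act M).mono (by decide)) (fun _ _ => trivial) an3_0 an3_1 (List.forall_mem_cons.2 ⟨ar4 M, List.forall_mem_nil _⟩)
theorem cc1_e : ∀ i < 15, (dent cc1 ce_P (nat_lit 275)) i = 0 := allZ_sound0 cc1_e_0
theorem cc1_ok : DOK cc1 ce_P 275 := ⟨cc1_h, cc1_e⟩
theorem an5_1 : ∀ i < 112, (an5.ent H15.McL.P ah_P x_P x_P ce_P (nat_lit 6) (nat_lit 1) H15.McL.B al1 [al2, al3, al4, al5, al6] (memO cc1)) i = 0 := allZ_sound0 an5_1_0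
theorem an5_t {G Ω : Type*} [Group G] [MulAction G Ω] {g : ℕ → G} {pt : ℕ → Ω}
    (M : Md g pt H15.McL.P 275 6 H15.McL.B 898128000) : TrO (gen (wds g ah_W) al1.K) (wds g x_W) (wds g x_W) 1 pt 275 (al1.Pt 0) (memO cc1) :=
  node M (a_S1 M) (ah_act M) (x_act M) (x_act M) an5 ((ce_act M).mono (by decide)) (fun _ _ => trivial) an5_0 an5_1 (List.forall_mem_nil _)
theorem cc0_e : ∀ i < 34, (dent cc0 ce_P (nat_lit 275)) i = 0 := allZ_sound0 cc0_e_0
theorem cc0_ok : DOK cc0 ce_P 275 := ⟨cc0_h, cc0_e⟩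
theorem an6_1 : ∀ i < 275, (an6.ent H15.McL.P ah_P x_P x_P ce_P (nat_lit 6) (nat_lit 1) H15.McL.B al0 [al1, al2, al3, al4, al5, al6] (memO cc0)) i = 0 := allZ_sound0 an6_1_0
theorem an6_t {G Ω : Type*} [Group G] [MulAction G Ω] {g : ℕ → G} {pt : ℕ → Ω}
    (M : Md g pt H15.McL.P 275 6 H15.McL.B 898128000) : TrO (gen (wds g ah_W) al0.K) (wds g x_W) (wds g x_W) 1 pt 275 (al0.Pt 0) (memO cc0) :=
  node M (a_S0 M) (ah_act M) (x_act M) (x_act M) an6 ((ce_act M).mono (by decide)) (fun _ _ => trivial) an6_0 an6_1 (List.forall_mem_nil _)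
theorem c {G Ω : Type*} [Group G] [MulAction G Ω] {g : ℕ → G} {pt : ℕ → Ω}
    (M : Md g pt H15.McL.P 275 6 H15.McL.B 898128000) : Cen ⊤ (wds g x_W) 1 (wds g ce_W) pt 275 [cc0, cc1, cc2, cc5] :=
  (a_S0 M).top ▸ Cen.lev M (a_S0 M) (Cen.lev M (a_S1 M) (Cen.lev M (a_S2 M) (Cen.triv (a_S3 M) (Cen.triv (a_S4 M) (Cen.lev M (a_S5 M) (Cen.triv (a_S6 M) (Cen.bot) (forced (a_S6 M) (ah_act M) (x_act M) _ _ c_f6)) (an0_t M) (x_act M) (ce_act M) (fun _ _ => trivial) cc5_ok c_f5) (an1_t M)) (forced (a_S3 M) (ah_act M) (x_act M) _ _ c_f3)) (an3_t M) (x_act M) (ce_act M) (fun _ _ => trivial) cc2_ok c_f2) (an5_t M) (x_act M) (ce_act M) (fun _ _ => trivial) cc1_ok c_f1) (an6_t M) (x_act M) (ce_act M) (fun _ _ => trivial) cc0_ok c_f0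
theorem c_card {G Ω : Type*} [Group G] [MulAction G Ω] {g : ℕ → G} {pt : ℕ → Ω}
    (M : Md g pt H15.McL.P 275 6 H15.McL.B 898128000) : Nat.card (Subgroup.centralizer {(wds g x_W) 0}) = 40320 :=
  (c M).card_cent1 M.inj c_c.1
theorem c_eq {G Ω : Type*} [Group G] [MulAction G Ω] {g : ℕ → G} {pt : ℕ → Ω}
    (M : Md g pt H15.McL.P 275 6 H15.McL.B 898128000) : Subgroup.centralizer (gen (wds g x_W) 1) = gen (wds g ce_W) 6 ∧ Nat.card (gen (wds g ce_W) 6) = 40320 :=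
  c_c.1 ▸ c_c.2 ▸ ⟨(c M).cent, (c M).card M.inj⟩
theorem sub_m : ∀ k < 4, ∀ i < 275, (matEnt (wdsP H15.McL.P sub_W) H15.XMcLC.P) k i = 0 := allZ2_sound sub_m_a
theorem sub_act {G Ω : Type*} [Group G] [MulAction G Ω] {g : ℕ → G} {pt : ℕ → Ω}
    (M : Md g pt H15.McL.P 275 6 H15.McL.B 898128000) : Act (wds g sub_W) pt H15.XMcLC.P 275 4 :=
  act_mat (M.wact sub_lt) sub_m
theorem sub {G Ω : Type*} [Group G] [MulAction G Ω] {g : ℕ → G} {pt : ℕ → Ω}
    (M : Md g pt H15.McL.P 275 6 H15.McL.B 898128000) : ∃ (_ : MulAction (Subgroup.centralizer {(wds g x_W) 0}) Ω) (h : ℕ → Subgroup.centralizer {(wds g x_W) 0}),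
      Md h pt H15.XMcLC.P 275 4 H15.XMcLC.B 40320 ∧ (∀ k < 4, (h k : G) = (wds g sub_W) k) ∧ ((evA h sub_Z : Subgroup.centralizer {(wds g x_W) 0}) : G) = (wds g x_W) 0 :=
  by
    have e := (M.eqw (sub_act M) (x_act M) Nat.one_pos sub_z).1
    obtain ⟨i, h, h1, h2⟩ := H15.CS.sub_md M (sub_act M) (H := Subgroup.centralizer {(wds g x_W) 0})
      (e ▸ H15.CS.gen_le_cent M (sub_act M) sub_c) (c_card M)
      (H15.XMcLC.chain_of (sub_act M) (H15.CS.rels M (sub_act M) sub_r)) sub_e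
    exact ⟨i, h, h1, h2, (H15.CS.coe_evA h2 sub_cc.2).trans e.symm⟩
theorem q_m : ∀ k < 4, ∀ i < 8, (matEnt (wdsP H15.XA8.P q_W) q_P) k i = 0 := allZ2_sound q_m_a
theorem q_act {G Ω : Type*} [Group G] [MulAction G Ω] {g : ℕ → G} {pt : ℕ → Ω}
    (M : Md g pt H15.XA8.P 8 7 H15.XA8.B 20160) : Act (wds g q_W) pt q_P 8 4 :=
  act_mat (M.wact q_lt) q_m
theorem q {G Ω : Type*} [Group G] [MulAction G Ω] {g : ℕ → G} {pt : ℕ → Ω}
    (M : Md g pt H15.XMcLC.P 275 4 H15.XMcLC.B 40320) {T Ω' : Type*} [Group T] [MulAction T Ω'] {t : ℕ → T} {pt' : ℕ → Ω'}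
    (Mt : Md t pt' H15.XA8.P 8 7 H15.XA8.B 20160) :
    ∃ f : G →* T, Function.Surjective f ∧ ∀ W, ltAll 4 W = 0 → f (evA g W) = evA (wds t q_W) W :=
  H15.CS.quot M H15.XMcLC.bound sub_rc Mt (q_act Mt) q_r q_g
theorem y_act {G Ω : Type*} [Group G] [MulAction G Ω] {g : ℕ → G} {pt : ℕ → Ω}
    (M : Md g pt H15.XMcLC.P 275 4 H15.XMcLC.B 40320) : Act (wds g y_W) pt y_P 275 2 :=
  M.wact y_lt
theorem k_act {G Ω : Type*} [Group G] [MulAction G Ω] {g : ℕ → G} {pt : ℕ → Ω}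
    (M : Md g pt H15.XMcLC.P 275 4 H15.XMcLC.B 40320) : Act (wds g k_W) pt k_P 275 1 :=
  M.wact k_lt

end H15.XTMcL
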