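import Cfsg.Agent.H0.TRP
import Cfsg.Agent.H15.CS
import Cfsg.Agent.H15.M.M24
import Cfsg.Agent.H15.M.M24C

/-! Generated by tools/h0/tr.py. -/

set_option maxRecDepth 100000
set_option maxHeartbeats 0

namespace H15.XTM24
open H16 H0.TR
open scoped Pointwise

noncomputable def x_W : List (List ℕ) := [[nat_lit 0, nat_lit 4, nat_lit 6, nat_lit 0, nat_lit 1, nat_lit 8, nat_lit 1, nat_lit 9, nat_lit 8, nat_lit 1, nat_lit 10, nat_lit 9, nat_lit 8, nat_lit 0, nat_lit 3]]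
noncomputable def x_P : ℕ → ℕ → ℕ := wdsP H15.MM24.P x_W
noncomputable def ah_W : List (List ℕ) := [[nat_lit 3, nat_lit 5, nat_lit 6, nat_lit 7, nat_lit 6, nat_lit 1],
  [nat_lit 3, nat_lit 5, nat_lit 6, nat_lit 7, nat_lit 6, nat_lit 1],
  [nat_lit 1, nat_lit 3, nat_lit 5, nat_lit 6, nat_lit 7, nat_lit 6],
  [nat_lit 3, nat_lit 4, nat_lit 6, nat_lit 7, nat_lit 6, nat_lit 2],
  [nat_lit 3, nat_lit 4, nat_lit 6, nat_lit 7, nat_lit 6, nat_lit 2],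
  [nat_lit 3, nat_lit 5, nat_lit 6, nat_lit 7, nat_lit 6, nat_lit 1],
  [nat_lit 3, nat_lit 5, nat_lit 6, nat_lit 7, nat_lit 6, nat_lit 1],
  [nat_lit 3, nat_lit 4, nat_lit 6, nat_lit 7, nat_lit 6, nat_lit 2],
  [nat_lit 1, nat_lit 3, nat_lit 5, nat_lit 6, nat_lit 7, nat_lit 6],
  [nat_lit 7, nat_lit 0, nat_lit 6, nat_lit 0, nat_lit 7],
  [nat_lit 6, nat_lit 7, nat_lit 6, nat_lit 3, nat_lit 8, nat_lit 9, nat_lit 10, nat_lit 9, nat_lit 8, nat_lit 0, nat_lit 5, nat_lit 5],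
  [nat_lit 1, nat_lit 2, nat_lit 3, nat_lit 4, nat_lit 6, nat_lit 2, nat_lit 8, nat_lit 9, nat_lit 10, nat_lit 9, nat_lit 8, nat_lit 1, nat_lit 3],
  [nat_lit 2, nat_lit 6, nat_lit 7, nat_lit 6, nat_lit 3, nat_lit 8, nat_lit 9, nat_lit 10, nat_lit 9, nat_lit 8, nat_lit 1],
  [nat_lit 4, nat_lit 1, nat_lit 6, nat_lit 2, nat_lit 7, nat_lit 8, nat_lit 1, nat_lit 9, nat_lit 10, nat_lit 9, nat_lit 8, nat_lit 0],
  [nat_lit 0],
  [nat_lit 1],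
  [nat_lit 2],
  [nat_lit 3],
  [nat_lit 4],
  [nat_lit 5],
  [nat_lit 6],
  [nat_lit 7],
  [nat_lit 8],
  [nat_lit 9],
  [nat_lit 10]]
noncomputable def ah_P : ℕ → ℕ → ℕ := wdsP H15.MM24.P ah_W
noncomputable def al0Dd : ℕ := nat_lit 0x824db368861cc8b32c992c47f170961505a1383f0f4260f83c0bc1805c00
noncomputable def al0D (u : ℕ) : ℕ := Nat.land (Nat.shiftRight al0Dd (Nat.mul u (nat_lit 10))) (nat_lit 1023)
noncomputable def al0Pd : ℕ := nat_lit 0x1d0c253671754e95bcb025a4865c20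
noncomputable def al0P (u : ℕ) : ℕ := Nat.land (Nat.shiftRight al0Pd (Nat.mul u (nat_lit 5))) (nat_lit 31)
noncomputable def al0Qd : ℕ := nat_lit 0x119d68960853e435cd846d527bd020
noncomputable def al0Q (u : ℕ) : ℕ := Nat.land (Nat.shiftRight al0Qd (Nat.mul u (nat_lit 5))) (nat_lit 31)
noncomputable def al0 : H16.Lev := ⟨24, 25, al0D, al0P, al0Q⟩
noncomputable def al1Dd : ℕ := nat_lit 0x95808798a18d27208c268a735c191716131211100f0e00
noncomputable def al1D (u : ℕ) : ℕ := Nat.land (Nat.shiftRight al1Dd (Nat.mul u (nat_lit 8))) (nat_lit 255)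
noncomputable def al1Pd : ℕ := nat_lit 0x5c234126a73255889f62c28b3b526
noncomputable def al1P (u : ℕ) : ℕ := Nat.land (Nat.shiftRight al1Pd (Nat.mul u (nat_lit 5))) (nat_lit 31)
noncomputable def al1Qd : ℕ := nat_lit 0xb21858b5664bc4e24033180f2a2aa0
noncomputable def al1Q (u : ℕ) : ℕ := Nat.land (Nat.shiftRight al1Qd (Nat.mul u (nat_lit 5))) (nat_lit 31)
noncomputable def al1 : H16.Lev := ⟨23, 23, al1D, al1P, al1Q⟩
noncomputable def al2Dd : ℕ := nat_lit 0x605344a827366b5d571b4133252d1f1e1711100e0d00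
noncomputable def al2D (u : ℕ) : ℕ := Nat.land (Nat.shiftRight al2Dd (Nat.mul u (nat_lit 8))) (nat_lit 255)
noncomputable def al2Pd : ℕ := nat_lit 0x2ed54868a904c815cba3e713a6c1
noncomputable def al2P (u : ℕ) : ℕ := Nat.land (Nat.shiftRight al2Pd (Nat.mul u (nat_lit 5))) (nat_lit 31)
noncomputable def al2Qd : ℕ := nat_lit 0xa85e72c88b3268c44c501814e8b400
noncomputable def al2Q (u : ℕ) : ℕ := Nat.land (Nat.shiftRight al2Qd (Nat.mul u (nat_lit 5))) (nat_lit 31)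
noncomputable def al2 : H16.Lev := ⟨22, 14, al2D, al2P, al2Q⟩
noncomputable def al3Dd : ℕ := nat_lit 0xb5664c25333157183d3017232a1d1c16100f0d0c00
noncomputable def al3D (u : ℕ) : ℕ := Nat.land (Nat.shiftRight al3Dd (Nat.mul u (nat_lit 8))) (nat_lit 255)
noncomputable def al3Pd : ℕ := nat_lit 0xab8d0259e347b2d28153524dcd
noncomputable def al3P (u : ℕ) : ℕ := Nat.land (Nat.shiftRight al3Pd (Nat.mul u (nat_lit 5))) (nat_lit 31)
noncomputable def al3Qd : ℕ := nat_lit 0x9a48c121a75840a7d0b1700c394000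
noncomputable def al3Q (u : ℕ) : ℕ := Nat.land (Nat.shiftRight al3Qd (Nat.mul u (nat_lit 5))) (nat_lit 31)
noncomputable def al3 : H16.Lev := ⟨21, 13, al3D, al3P, al3Q⟩
noncomputable def al4Dd : ℕ := nat_lit 0xbf835399695d5117392d21271b1a150f0e0c0b00
noncomputable def al4D (u : ℕ) : ℕ := Nat.land (Nat.shiftRight al4Dd (Nat.mul u (nat_lit 8))) (nat_lit 255)
noncomputable def al4Pd : ℕ := nat_lit 0x45d4e992a92c2567d18788963
noncomputable def al4P (u : ℕ) : ℕ := Nat.land (Nat.shiftRight al4Pd (Nat.mul u (nat_lit 5))) (nat_lit 31)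
noncomputable def al4Qd : ℕ := nat_lit 0x921a67a46a3c0050c5932016e00800
noncomputable def al4Q (u : ℕ) : ℕ := Nat.land (Nat.shiftRight al4Qd (Nat.mul u (nat_lit 5))) (nat_lit 31)
noncomputable def al4 : H16.Lev := ⟨20, 12, al4D, al4P, al4Q⟩
noncomputable def al5Dd : ℕ := nat_lit 0x5540
noncomputable def al5D (u : ℕ) : ℕ := Nat.land (Nat.shiftRight al5Dd (Nat.mul u (nat_lit 5))) (nat_lit 31)
noncomputable def al5Pd : ℕ := nat_lit 0x5d48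
noncomputable def al5P (u : ℕ) : ℕ := Nat.land (Nat.shiftRight al5Pd (Nat.mul u (nat_lit 5))) (nat_lit 31)
noncomputable def al5Qd : ℕ := nat_lit 0x800000100000
noncomputable def al5Q (u : ℕ) : ℕ := Nat.land (Nat.shiftRight al5Qd (Nat.mul u (nat_lit 2))) (nat_lit 3)
noncomputable def al5 : H16.Lev := ⟨3, 11, al5D, al5P, al5Q⟩
noncomputable def al6Dd : ℕ := nat_lit 0xef3e2bb6a9ce932e346090608000
noncomputable def al6D (u : ℕ) : ℕ := Nat.land (Nat.shiftRight al6Dd (Nat.mul u (nat_lit 7))) (nat_lit 127)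
noncomputable def al6Pd : ℕ := nat_lit 0x64a055d493144eea3ec9
noncomputable def al6P (u : ℕ) : ℕ := Nat.land (Nat.shiftRight al6Pd (Nat.mul u (nat_lit 5))) (nat_lit 31)
noncomputable def al6Qd : ℕ := nat_lit 0x1a38e6d240fb00050c90700
noncomputable def al6Q (u : ℕ) : ℕ := Nat.land (Nat.shiftRight al6Qd (Nat.mul u (nat_lit 4))) (nat_lit 15)
noncomputable def al6 : H16.Lev := ⟨16, 10, al6D, al6P, al6Q⟩
noncomputable def ce_W : List (List ℕ) := [[nat_lit 3, nat_lit 5, nat_lit 6, nat_lit 7, nat_lit 6, nat_lit 1],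
  [nat_lit 3, nat_lit 4, nat_lit 6, nat_lit 7, nat_lit 6, nat_lit 2],
  [nat_lit 7, nat_lit 0, nat_lit 6, nat_lit 0, nat_lit 7],
  [nat_lit 4, nat_lit 0, nat_lit 10, nat_lit 0, nat_lit 6, nat_lit 7, nat_lit 6, nat_lit 0, nat_lit 8, nat_lit 9, nat_lit 8, nat_lit 1, nat_lit 6, nat_lit 10, nat_lit 0],
  [nat_lit 4, nat_lit 1, nat_lit 6, nat_lit 7, nat_lit 6, nat_lit 1, nat_lit 4, nat_lit 9, nat_lit 10, nat_lit 9],
  [nat_lit 8, nat_lit 1, nat_lit 3, nat_lit 8, nat_lit 2, nat_lit 9, nat_lit 8, nat_lit 0, nat_lit 3, nat_lit 10, nat_lit 9, nat_lit 8, nat_lit 0, nat_lit 1, nat_lit 5]]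
noncomputable def ce_P : ℕ → ℕ → ℕ := wdsP H15.MM24.P ce_W
noncomputable def cc6Dd : ℕ := nat_lit 0xd7451200
noncomputable def cc6D (u : ℕ) : ℕ := Nat.land (Nat.shiftRight cc6Dd (Nat.mul u (nat_lit 4))) (nat_lit 15)
noncomputable def cc6Pd : ℕ := nat_lit 0x85633a3ac9
noncomputable def cc6P (u : ℕ) : ℕ := Nat.land (Nat.shiftRight cc6Pd (Nat.mul u (nat_lit 5))) (nat_lit 31)
noncomputable def cc6Qd : ℕ := nat_lit 0x7382f080000000000
noncomputable def cc6Q (u : ℕ) : ℕ := Nat.land (Nat.shiftRight cc6Qd (Nat.mul u (nat_lit 3))) (nat_lit 7)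
noncomputable def cc6 : H16.Lev := ⟨8, 3, cc6D, cc6P, cc6Q⟩
noncomputable def an0Fd : ℕ := nat_lit 0xa708705040300100
noncomputable def an0F (u : ℕ) : ℕ := Nat.land (Nat.shiftRight an0Fd (Nat.mul u (nat_lit 4))) (nat_lit 15)
noncomputable def an0 : Nd := ⟨an0F, (nat_lit 3), (nat_lit 3), [[nat_lit 0]], [((nat_lit 0), [])], []⟩
noncomputable def cc4Dd : ℕ := nat_lit 0x8d74d53492851840c0
noncomputable def cc4D (u : ℕ) : ℕ := Nat.land (Nat.shiftRight cc4Dd (Nat.mul u (nat_lit 6))) (nat_lit 63)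
noncomputable def cc4Pd : ℕ := nat_lit 0x42af64ce2ea42a3
noncomputable def cc4P (u : ℕ) : ℕ := Nat.land (Nat.shiftRight cc4Pd (Nat.mul u (nat_lit 5))) (nat_lit 31)
noncomputable def cc4Qd : ℕ := nat_lit 0x9813605204000a7b00000000
noncomputable def cc4Q (u : ℕ) : ℕ := Nat.land (Nat.shiftRight cc4Qd (Nat.mul u (nat_lit 4))) (nat_lit 15)
noncomputable def cc4 : H16.Lev := ⟨12, 4, cc4D, cc4P, cc4Q⟩
noncomputable def an1Fd : ℕ := nat_lit 0xd0090a090650410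
noncomputable def an1F (u : ℕ) : ℕ := Nat.land (Nat.shiftRight an1Fd (Nat.mul u (nat_lit 4))) (nat_lit 15)
noncomputable def an1 : Nd := ⟨an1F, (nat_lit 4), (nat_lit 4), [[nat_lit 0]], [((nat_lit 0), [])], []⟩
noncomputable def cc2Dd : ℕ := nat_lit 0x20304c70c15223858c1420200
noncomputable def cc2D (u : ℕ) : ℕ := Nat.land (Nat.shiftRight cc2Dd (Nat.mul u (nat_lit 7))) (nat_lit 127)
noncomputable def cc2Pd : ℕ := nat_lit 0x1aa40e34b42a99bae1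
noncomputable def cc2P (u : ℕ) : ℕ := Nat.land (Nat.shiftRight cc2Pd (Nat.mul u (nat_lit 5))) (nat_lit 31)
noncomputable def cc2Qd : ℕ := nat_lit 0x1758309602d00c4b0000a000
noncomputable def cc2Q (u : ℕ) : ℕ := Nat.land (Nat.shiftRight cc2Qd (Nat.mul u (nat_lit 4))) (nat_lit 15)
noncomputable def cc2 : H16.Lev := ⟨14, 5, cc2D, cc2P, cc2Q⟩
noncomputable def an2Fd : ℕ := nat_lit 0x40000316b01c060140008000
noncomputable def an2F (u : ℕ) : ℕ := Nat.land (Nat.shiftRight an2Fd (Nat.mul u (nat_lit 5))) (nat_lit 31)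
noncomputable def an2 : Nd := ⟨an2F, (nat_lit 5), (nat_lit 5), [[nat_lit 0]], [((nat_lit 0), [])], []⟩
noncomputable def cc0Dd : ℕ := nat_lit 0x98bdfa94264d16224ca121628280
noncomputable def cc0D (u : ℕ) : ℕ := Nat.land (Nat.shiftRight cc0Dd (Nat.mul u (nat_lit 7))) (nat_lit 127)
noncomputable def cc0Pd : ℕ := nat_lit 0x99171da13726b1a29a0
noncomputable def cc0P (u : ℕ) : ℕ := Nat.land (Nat.shiftRight cc0Pd (Nat.mul u (nat_lit 5))) (nat_lit 31)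
noncomputable def cc0Qd : ℕ := nat_lit 0xca5380490710026d0e00b0f0
noncomputable def cc0Q (u : ℕ) : ℕ := Nat.land (Nat.shiftRight cc0Qd (Nat.mul u (nat_lit 4))) (nat_lit 15)
noncomputable def cc0 : H16.Lev := ⟨16, 6, cc0D, cc0P, cc0Q⟩
noncomputable def an3Fd : ℕ := nat_lit 0xe000000d08b70d0601000
noncomputable def an3F (u : ℕ) : ℕ := Nat.land (Nat.shiftRight an3Fd (Nat.mul u (nat_lit 4))) (nat_lit 15)
noncomputable def an3 : Nd := ⟨an3F, (nat_lit 6), (nat_lit 6), [[nat_lit 0]], [((nat_lit 0), [])], []⟩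
noncomputable def sub_W : List (List ℕ) := [[nat_lit 7, nat_lit 0, nat_lit 6, nat_lit 3, nat_lit 7, nat_lit 0],
  [nat_lit 7, nat_lit 0, nat_lit 2, nat_lit 5, nat_lit 6, nat_lit 1, nat_lit 4, nat_lit 1, nat_lit 7],
  [nat_lit 1, nat_lit 3, nat_lit 4, nat_lit 6, nat_lit 7, nat_lit 6, nat_lit 1, nat_lit 2],
  [nat_lit 1, nat_lit 6, nat_lit 0, nat_lit 3, nat_lit 7, nat_lit 6, nat_lit 0, nat_lit 8, nat_lit 9, nat_lit 10, nat_lit 9, nat_lit 8, nat_lit 1, nat_lit 2],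
  [nat_lit 2, nat_lit 4, nat_lit 6, nat_lit 2, nat_lit 6, nat_lit 7, nat_lit 6, nat_lit 5, nat_lit 8, nat_lit 2, nat_lit 4],
  [nat_lit 0, nat_lit 5, nat_lit 6, nat_lit 1, nat_lit 2, nat_lit 8, nat_lit 0, nat_lit 1, nat_lit 5, nat_lit 9, nat_lit 8, nat_lit 0, nat_lit 1, nat_lit 4, nat_lit 10, nat_lit 9, nat_lit 8, nat_lit 1, nat_lit 2, nat_lit 6]]
noncomputable def sub_Z : List ℕ := [nat_lit 4, nat_lit 3, nat_lit 2, nat_lit 3, nat_lit 4, nat_lit 5, nat_lit 4, nat_lit 3, nat_lit 2, nat_lit 3, nat_lit 5, nat_lit 4, nat_lit 5]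
noncomputable def y_W : List (List ℕ) := [[nat_lit 4, nat_lit 3, nat_lit 2, nat_lit 3, nat_lit 4, nat_lit 5, nat_lit 4, nat_lit 3, nat_lit 2, nat_lit 3, nat_lit 5, nat_lit 4, nat_lit 5]]
noncomputable def y_P : ℕ → ℕ → ℕ := wdsP H15.XM24C.P y_W

theorem md_b : ltAll 24 H15.MM24.B = 0 ∧ 244823040 ≠ 0 := by decide +kernel
theorem x_lt : H16.allL (ltAll 11) x_W = true := by decide +kernel
theorem ah_lt : H16.allL (ltAll 11) ah_W = true := by decide +kernel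
theorem al0_e_0 : allZ (dent al0 ah_P (nat_lit 24)) (nat_lit 0) (nat_lit 23) = true := by decide +kernel
theorem al0_h : 0 < al0.n ∧ 0 < al0.K ∧ al0.Pt 0 < 24 ∧ al0.Q (al0.Pt 0) = 0 := by decide +kernel
theorem al1_e_0 : allZ (dent al1 ah_P (nat_lit 24)) (nat_lit 0) (nat_lit 22) = true := by decide +kernel
theorem al1_h : 0 < al1.n ∧ 0 < al1.K ∧ al1.Pt 0 < 24 ∧ al1.Q (al1.Pt 0) = 0 := by decide +kernel
theorem al2_e_0 : allZ (dent al2 ah_P (nat_lit 24)) (nat_lit 0) (nat_lit 21) = true := by decide +kernel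
theorem al2_h : 0 < al2.n ∧ 0 < al2.K ∧ al2.Pt 0 < 24 ∧ al2.Q (al2.Pt 0) = 0 := by decide +kernel
theorem al3_e_0 : allZ (dent al3 ah_P (nat_lit 24)) (nat_lit 0) (nat_lit 20) = true := by decide +kernel
theorem al3_h : 0 < al3.n ∧ 0 < al3.K ∧ al3.Pt 0 < 24 ∧ al3.Q (al3.Pt 0) = 0 := by decide +kernel
theorem al4_e_0 : allZ (dent al4 ah_P (nat_lit 24)) (nat_lit 0) (nat_lit 19) = true := by decide +kernel
theorem al4_h : 0 < al4.n ∧ 0 < al4.K ∧ al4.Pt 0 < 24 ∧ al4.Q (al4.Pt 0) = 0 := by decide +kernel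
theorem al5_e_0 : allZ (dent al5 ah_P (nat_lit 24)) (nat_lit 0) (nat_lit 2) = true := by decide +kernel
theorem al5_h : 0 < al5.n ∧ 0 < al5.K ∧ al5.Pt 0 < 24 ∧ al5.Q (al5.Pt 0) = 0 := by decide +kernel
theorem al6_e_0 : allZ (dent al6 ah_P (nat_lit 24)) (nat_lit 0) (nat_lit 15) = true := by decide +kernel
theorem al6_h : 0 < al6.n ∧ 0 < al6.K ∧ al6.Pt 0 < 24 ∧ al6.Q (al6.Pt 0) = 0 := by decide +kernel
theorem a_f6 : (Nat.ble al6.K 25 && Nat.ble (topK []) al6.K && fixLetters ah_P (topK []) (al6.Pt 0)) = true := by decide +kernel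
theorem a_f5 : (Nat.ble al5.K 25 && Nat.ble (topK [al6]) al5.K && fixLetters ah_P (topK [al6]) (al5.Pt 0)) = true := by decide +kernel
theorem a_f4 : (Nat.ble al4.K 25 && Nat.ble (topK [al5, al6]) al4.K && fixLetters ah_P (topK [al5, al6]) (al4.Pt 0)) = true := by decide +kernel
theorem a_f3 : (Nat.ble al3.K 25 && Nat.ble (topK [al4, al5, al6]) al3.K && fixLetters ah_P (topK [al4, al5, al6]) (al3.Pt 0)) = true := by decide +kernel
theorem a_f2 : (Nat.ble al2.K 25 && Nat.ble (topK [al3, al4, al5, al6]) al2.K && fixLetters ah_P (topK [al3, al4, al5, al6]) (al2.Pt 0)) = true := by decide +kernel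
theorem a_f1 : (Nat.ble al1.K 25 && Nat.ble (topK [al2, al3, al4, al5, al6]) al1.K && fixLetters ah_P (topK [al2, al3, al4, al5, al6]) (al1.Pt 0)) = true := by decide +kernel
theorem a_f0 : (Nat.ble al0.K 25 && Nat.ble (topK [al1, al2, al3, al4, al5, al6]) al0.K && fixLetters ah_P (topK [al1, al2, al3, al4, al5, al6]) (al0.Pt 0)) = true := by decide +kernel
theorem a_c : chainCard [al0, al1, al2, al3, al4, al5, al6] = 244823040 := by decide +kernel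
theorem ce_lt : H16.allL (ltAll 11) ce_W = true := by decide +kernel
theorem cc6_e_0 : allZ (dent cc6 ce_P (nat_lit 24)) (nat_lit 0) (nat_lit 7) = true := by decide +kernel
theorem cc6_h : 0 < cc6.n ∧ 0 < cc6.K ∧ cc6.Pt 0 < 24 ∧ cc6.Q (cc6.Pt 0) = 0 := by decide +kernel
theorem an0_0 : (Nat.ble al6.K 25 && Nat.beq (ltAll 24 [al5.Pt 0, al4.Pt 0, al3.Pt 0, al2.Pt 0, al1.Pt 0, al0.Pt 0]) 0 && kChk ce_P x_P an0.Kn 1 H15.MM24.B [al5.Pt 0, al4.Pt 0, al3.Pt 0, al2.Pt 0, al1.Pt 0, al0.Pt 0] && H16.allL (ltAll 1) an0.pre && planOK ah_P x_P 1 (al6.Pt 0) an0.plan [al6]) = true := by decide +kernel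
theorem an0_1_0 : allZ (an0.ent H15.MM24.P ah_P x_P x_P ce_P (nat_lit 11) (nat_lit 1) H15.MM24.B al6 [] (memO cc6)) (nat_lit 0) (nat_lit 16) = true := by decide +kernel
theorem c_f6 : (Nat.ble cc6.K 6 && Nat.ble (topK []) cc6.K && Nat.beq (cc6.Pt 0) (al6.Pt 0) && Nat.beq (ltAll 24 [al5.Pt 0, al4.Pt 0, al3.Pt 0, al2.Pt 0, al1.Pt 0, al0.Pt 0]) 0 && kChk ce_P x_P cc6.K 1 H15.MM24.B [al5.Pt 0, al4.Pt 0, al3.Pt 0, al2.Pt 0, al1.Pt 0, al0.Pt 0]) = true := by decide +kernel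
theorem c_f5 : (Nat.ble al5.K 25 && Nat.blt (nat_lit 3) 24 && fixLetters ah_P al5.K (nat_lit 3) && Nat.beq (ltAll 1 [nat_lit 0]) 0 && Nat.beq (apW x_P [nat_lit 0] (nat_lit 3)) (al5.Pt 0)) = true := by decide +kernel
theorem cc4_e_0 : allZ (dent cc4 ce_P (nat_lit 24)) (nat_lit 0) (nat_lit 11) = true := by decide +kernel
theorem cc4_h : 0 < cc4.n ∧ 0 < cc4.K ∧ cc4.Pt 0 < 24 ∧ cc4.Q (cc4.Pt 0) = 0 := by decide +kernel
theorem an1_0 : (Nat.ble al4.K 25 && Nat.beq (ltAll 24 [al3.Pt 0, al2.Pt 0, al1.Pt 0, al0.Pt 0]) 0 && kChk ce_P x_P an1.Kn 1 H15.MM24.B [al3.Pt 0, al2.Pt 0, al1.Pt 0, al0.Pt 0] && H16.allL (ltAll 1) an1.pre && planOK ah_P x_P 1 (al4.Pt 0) an1.plan [al4, al5, al6]) = true := by decide +kernel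
theorem an1_1_0 : allZ (an1.ent H15.MM24.P ah_P x_P x_P ce_P (nat_lit 11) (nat_lit 1) H15.MM24.B al4 [al5, al6] (memO cc4)) (nat_lit 0) (nat_lit 20) = true := by decide +kernel
theorem c_f4 : (Nat.ble cc4.K 6 && Nat.ble (topK [cc6]) cc4.K && Nat.beq (cc4.Pt 0) (al4.Pt 0) && Nat.beq (ltAll 24 [al3.Pt 0, al2.Pt 0, al1.Pt 0, al0.Pt 0]) 0 && kChk ce_P x_P cc4.K 1 H15.MM24.B [al3.Pt 0, al2.Pt 0, al1.Pt 0, al0.Pt 0]) = true := by decide +kernel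
theorem c_f3 : (Nat.ble al3.K 25 && Nat.blt (nat_lit 1) 24 && fixLetters ah_P al3.K (nat_lit 1) && Nat.beq (ltAll 1 [nat_lit 0]) 0 && Nat.beq (apW x_P [nat_lit 0] (nat_lit 1)) (al3.Pt 0)) = true := by decide +kernel
theorem cc2_e_0 : allZ (dent cc2 ce_P (nat_lit 24)) (nat_lit 0) (nat_lit 13) = true := by decide +kernel
theorem cc2_h : 0 < cc2.n ∧ 0 < cc2.K ∧ cc2.Pt 0 < 24 ∧ cc2.Q (cc2.Pt 0) = 0 := by decide +kernel
theorem an2_0 : (Nat.ble al2.K 25 && Nat.beq (ltAll 24 [al1.Pt 0, al0.Pt 0]) 0 && kChk ce_P x_P an2.Kn 1 H15.MM24.B [al1.Pt 0, al0.Pt 0] && H16.allL (ltAll 1) an2.pre && planOK ah_P x_P 1 (al2.Pt 0) an2.plan [al2, al3, al4, al5, al6]) = true := by decide +kernel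
theorem an2_1_0 : allZ (an2.ent H15.MM24.P ah_P x_P x_P ce_P (nat_lit 11) (nat_lit 1) H15.MM24.B al2 [al3, al4, al5, al6] (memO cc2)) (nat_lit 0) (nat_lit 22) = true := by decide +kernel
theorem c_f2 : (Nat.ble cc2.K 6 && Nat.ble (topK [cc4, cc6]) cc2.K && Nat.beq (cc2.Pt 0) (al2.Pt 0) && Nat.beq (ltAll 24 [al1.Pt 0, al0.Pt 0]) 0 && kChk ce_P x_P cc2.K 1 H15.MM24.B [al1.Pt 0, al0.Pt 0]) = true := by decide +kernel
theorem c_f1 : (Nat.ble al1.K 25 && Nat.blt (nat_lit 0) 24 && fixLetters ah_P al1.K (nat_lit 0) && Nat.beq (ltAll 1 [nat_lit 0]) 0 && Nat.beq (apW x_P [nat_lit 0] (nat_lit 0)) (al1.Pt 0)) = true := by decide +kernel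
theorem cc0_e_0 : allZ (dent cc0 ce_P (nat_lit 24)) (nat_lit 0) (nat_lit 15) = true := by decide +kernel
theorem cc0_h : 0 < cc0.n ∧ 0 < cc0.K ∧ cc0.Pt 0 < 24 ∧ cc0.Q (cc0.Pt 0) = 0 := by decide +kernel
theorem an3_0 : (Nat.ble al0.K 25 && Nat.beq (ltAll 24 []) 0 && kChk ce_P x_P an3.Kn 1 H15.MM24.B [] && H16.allL (ltAll 1) an3.pre && planOK ah_P x_P 1 (al0.Pt 0) an3.plan [al0, al1, al2, al3, al4, al5, al6]) = true := by decide +kernel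
theorem an3_1_0 : allZ (an3.ent H15.MM24.P ah_P x_P x_P ce_P (nat_lit 11) (nat_lit 1) H15.MM24.B al0 [al1, al2, al3, al4, al5, al6] (memO cc0)) (nat_lit 0) (nat_lit 24) = true := by decide +kernel
theorem c_f0 : (Nat.ble cc0.K 6 && Nat.ble (topK [cc2, cc4, cc6]) cc0.K && Nat.beq (cc0.Pt 0) (al0.Pt 0) && Nat.beq (ltAll 24 []) 0 && kChk ce_P x_P cc0.K 1 H15.MM24.B []) = true := by decide +kernel
theorem c_c : chainCard [cc0, cc2, cc4, cc6] = 21504 ∧ topK [cc0, cc2, cc4, cc6] = 6 := by decide +kernel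
theorem sub_lt : H16.allL (ltAll 11) sub_W = true := by decide +kernel
theorem sub_m_a : allZ2 (matEnt (wdsP H15.MM24.P sub_W) H15.XM24C.P) (nat_lit 6) (nat_lit 24) = true := by decide +kernel
theorem sub_r : H16.allL (fixL H15.XM24C.P 6 H15.MM24.B) H15.XM24C.Rl = true := by decide +kernel
theorem sub_rc : H16.allL (fixL H15.XM24C.P 6 H15.XM24C.B) H15.XM24C.Rl = true := by decide +kernel
theorem sub_z : Nat.add (ltAll 6 [nat_lit 4, nat_lit 3, nat_lit 2, nat_lit 3, nat_lit 4, nat_lit 5, nat_lit 4, nat_lit 3, nat_lit 2, nat_lit 3, nat_lit 5, nat_lit 4, nat_lit 5]) (sumL (fun β => Nat.xor (x_P 0 β) (apW H15.XM24C.P [nat_lit 4, nat_lit 3, nat_lit 2, nat_lit 3, nat_lit 4, nat_lit 5, nat_lit 4, nat_lit 3, nat_lit 2, nat_lit 3, nat_lit 5, nat_lit 4, nat_lit 5] β)) H15.MM24.B) = 0 := by decide +kernel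
theorem sub_c : H15.CS.comL H15.XM24C.P 6 H15.MM24.B sub_Z = true := by decide +kernel
theorem sub_cc : H15.CS.comL H15.XM24C.P 6 H15.XM24C.B sub_Z = true ∧ ltAll 6 sub_Z = 0 := by decide +kernel
theorem sub_e : topK H15.XM24C.L = 6 ∧ chainCard H15.XM24C.L = 21504 ∧ chainBase H15.XM24C.L = H15.XM24C.B ∧ ltAll 24 H15.XM24C.B = 0 := by decide +kernel
theorem y_lt : H16.allL (ltAll 6) y_W = true := by decide +kernel
theorem y_e : fixL y_P 1 H15.XM24C.B (List.replicate 2 0) = 0 ∧ ltAll 1 [0] = 0 ∧ ltAll 1 [] = 0 ∧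
    H15.CS.key y_P 24 H15.XM24C.B [0] ≠ H15.CS.key y_P 24 H15.XM24C.B [] := by decide +kernel

theorem md {G : Type*} [Group G] (e : gen H15.MM24.g 11 ≃* G) :
    ∃ (_ : MulAction G (Cfsg.GolayPt)) (g : ℕ → G), Md g H15.pt H15.MM24.P 24 11 H15.MM24.B 244823040 ∧
      ∀ k < 11, (e.symm (g k)).1 = H15.MM24.g k :=
  exists_md H15.MM24.act H15.MM24.inj H15.MM24.card H15.MM24.isBase md_b e
theorem x_act {G Ω : Type*} [Group G] [MulAction G Ω] {g : ℕ → G} {pt : ℕ → Ω}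
    (M : Md g pt H15.MM24.P 24 11 H15.MM24.B 244823040) : Act (wds g x_W) pt x_P 24 1 :=
  M.wact x_lt
theorem ah_act {G Ω : Type*} [Group G] [MulAction G Ω] {g : ℕ → G} {pt : ℕ → Ω}
    (M : Md g pt H15.MM24.P 24 11 H15.MM24.B 244823040) : Act (wds g ah_W) pt ah_P 24 25 :=
  M.wact ah_lt
theorem al0_e : ∀ i < 23, (dent al0 ah_P (nat_lit 24)) i = 0 := allZ_sound0 al0_e_0
theorem al0_ok : DOK al0 ah_P 24 := ⟨al0_h, al0_e⟩
theorem al1_e : ∀ i < 22, (dent al1 ah_P (nat_lit 24)) i = 0 := allZ_sound0 al1_e_0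
theorem al1_ok : DOK al1 ah_P 24 := ⟨al1_h, al1_e⟩
theorem al2_e : ∀ i < 21, (dent al2 ah_P (nat_lit 24)) i = 0 := allZ_sound0 al2_e_0
theorem al2_ok : DOK al2 ah_P 24 := ⟨al2_h, al2_e⟩
theorem al3_e : ∀ i < 20, (dent al3 ah_P (nat_lit 24)) i = 0 := allZ_sound0 al3_e_0
theorem al3_ok : DOK al3 ah_P 24 := ⟨al3_h, al3_e⟩
theorem al4_e : ∀ i < 19, (dent al4 ah_P (nat_lit 24)) i = 0 := allZ_sound0 al4_e_0
theorem al4_ok : DOK al4 ah_P 24 := ⟨al4_h, al4_e⟩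
theorem al5_e : ∀ i < 2, (dent al5 ah_P (nat_lit 24)) i = 0 := allZ_sound0 al5_e_0
theorem al5_ok : DOK al5 ah_P 24 := ⟨al5_h, al5_e⟩
theorem al6_e : ∀ i < 15, (dent al6 ah_P (nat_lit 24)) i = 0 := allZ_sound0 al6_e_0
theorem al6_ok : DOK al6 ah_P 24 := ⟨al6_h, al6_e⟩
theorem a_low {G Ω : Type*} [Group G] [MulAction G Ω] {g : ℕ → G} {pt : ℕ → Ω}
    (M : Md g pt H15.MM24.P 24 11 H15.MM24.B 244823040) : SLow (gi (wds g ah_W)) pt 24 [al0, al1, al2, al3, al4, al5, al6] :=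
  (((((((SLow.nil).cons al6_ok (ah_act M) a_f6).cons al5_ok (ah_act M) a_f5).cons al4_ok (ah_act M) a_f4).cons al3_ok (ah_act M) a_f3).cons al2_ok (ah_act M) a_f2).cons al1_ok (ah_act M) a_f1).cons al0_ok (ah_act M) a_f0
theorem a_S0 {G Ω : Type*} [Group G] [MulAction G Ω] {g : ℕ → G} {pt : ℕ → Ω}
    (M : Md g pt H15.MM24.P 24 11 H15.MM24.B 244823040) : Stage ⊤ (wds g ah_W) pt 24 [al0, al1, al2, al3, al4, al5, al6] [] :=
  M.stage (a_low M) a_c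
theorem a_S1 {G Ω : Type*} [Group G] [MulAction G Ω] {g : ℕ → G} {pt : ℕ → Ω}
    (M : Md g pt H15.MM24.P 24 11 H15.MM24.B 244823040) : Stage ⊤ (wds g ah_W) pt 24 [al1, al2, al3, al4, al5, al6] [al0.Pt 0] :=
  (a_S0 M).next
theorem a_S2 {G Ω : Type*} [Group G] [MulAction G Ω] {g : ℕ → G} {pt : ℕ → Ω}
    (M : Md g pt H15.MM24.P 24 11 H15.MM24.B 244823040) : Stage ⊤ (wds g ah_W) pt 24 [al2, al3, al4, al5, al6] [al1.Pt 0, al0.Pt 0] :=
  (a_S1 M).next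
theorem a_S3 {G Ω : Type*} [Group G] [MulAction G Ω] {g : ℕ → G} {pt : ℕ → Ω}
    (M : Md g pt H15.MM24.P 24 11 H15.MM24.B 244823040) : Stage ⊤ (wds g ah_W) pt 24 [al3, al4, al5, al6] [al2.Pt 0, al1.Pt 0, al0.Pt 0] :=
  (a_S2 M).next
theorem a_S4 {G Ω : Type*} [Group G] [MulAction G Ω] {g : ℕ → G} {pt : ℕ → Ω}
    (M : Md g pt H15.MM24.P 24 11 H15.MM24.B 244823040) : Stage ⊤ (wds g ah_W) pt 24 [al4, al5, al6] [al3.Pt 0, al2.Pt 0, al1.Pt 0, al0.Pt 0] :=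
  (a_S3 M).next
theorem a_S5 {G Ω : Type*} [Group G] [MulAction G Ω] {g : ℕ → G} {pt : ℕ → Ω}
    (M : Md g pt H15.MM24.P 24 11 H15.MM24.B 244823040) : Stage ⊤ (wds g ah_W) pt 24 [al5, al6] [al4.Pt 0, al3.Pt 0, al2.Pt 0, al1.Pt 0, al0.Pt 0] :=
  (a_S4 M).next
theorem a_S6 {G Ω : Type*} [Group G] [MulAction G Ω] {g : ℕ → G} {pt : ℕ → Ω}
    (M : Md g pt H15.MM24.P 24 11 H15.MM24.B 244823040) : Stage ⊤ (wds g ah_W) pt 24 [al6] [al5.Pt 0, al4.Pt 0, al3.Pt 0, al2.Pt 0, al1.Pt 0, al0.Pt 0] :=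
  (a_S5 M).next
theorem a_S7 {G Ω : Type*} [Group G] [MulAction G Ω] {g : ℕ → G} {pt : ℕ → Ω}
    (M : Md g pt H15.MM24.P 24 11 H15.MM24.B 244823040) : Stage ⊤ (wds g ah_W) pt 24 [] [al6.Pt 0, al5.Pt 0, al4.Pt 0, al3.Pt 0, al2.Pt 0, al1.Pt 0, al0.Pt 0] :=
  (a_S6 M).next
theorem ce_act {G Ω : Type*} [Group G] [MulAction G Ω] {g : ℕ → G} {pt : ℕ → Ω}
    (M : Md g pt H15.MM24.P 24 11 H15.MM24.B 244823040) : Act (wds g ce_W) pt ce_P 24 6 :=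
  M.wact ce_lt
theorem cc6_e : ∀ i < 7, (dent cc6 ce_P (nat_lit 24)) i = 0 := allZ_sound0 cc6_e_0
theorem cc6_ok : DOK cc6 ce_P 24 := ⟨cc6_h, cc6_e⟩
theorem an0_1 : ∀ i < 16, (an0.ent H15.MM24.P ah_P x_P x_P ce_P (nat_lit 11) (nat_lit 1) H15.MM24.B al6 [] (memO cc6)) i = 0 := allZ_sound0 an0_1_0
theorem an0_t {G Ω : Type*} [Group G] [MulAction G Ω] {g : ℕ → G} {pt : ℕ → Ω}
    (M : Md g pt H15.MM24.P 24 11 H15.MM24.B 244823040) : TrO (gen (wds g ah_W) al6.K) (wds g x_W) (wds g x_W) 1 pt 24 (al6.Pt 0) (memO cc6) :=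
  node M (a_S6 M) (ah_act M) (x_act M) (x_act M) an0 ((ce_act M).mono (by decide)) (fun _ _ => trivial) an0_0 an0_1 (List.forall_mem_nil _)
theorem cc4_e : ∀ i < 11, (dent cc4 ce_P (nat_lit 24)) i = 0 := allZ_sound0 cc4_e_0
theorem cc4_ok : DOK cc4 ce_P 24 := ⟨cc4_h, cc4_e⟩
theorem an1_1 : ∀ i < 20, (an1.ent H15.MM24.P ah_P x_P x_P ce_P (nat_lit 11) (nat_lit 1) H15.MM24.B al4 [al5, al6] (memO cc4)) i = 0 := allZ_sound0 an1_1_0
theorem an1_t {G Ω : Type*} [Group G] [MulAction G Ω] {g : ℕ → G} {pt : ℕ → Ω}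
    (M : Md g pt H15.MM24.P 24 11 H15.MM24.B 244823040) : TrO (gen (wds g ah_W) al4.K) (wds g x_W) (wds g x_W) 1 pt 24 (al4.Pt 0) (memO cc4) :=
  node M (a_S4 M) (ah_act M) (x_act M) (x_act M) an1 ((ce_act M).mono (by decide)) (fun _ _ => trivial) an1_0 an1_1 (List.forall_mem_nil _)
theorem cc2_e : ∀ i < 13, (dent cc2 ce_P (nat_lit 24)) i = 0 := allZ_sound0 cc2_e_0
theorem cc2_ok : DOK cc2 ce_P 24 := ⟨cc2_h, cc2_e⟩
theorem an2_1 : ∀ i < 22, (an2.ent H15.MM24.P ah_P x_P x_P ce_P (nat_lit 11) (nat_lit 1) H15.MM24.B al2 [al3, al4, al5, al6] (memO cc2)) i = 0 := allZ_sound0 an2_1_0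
theorem an2_t {G Ω : Type*} [Group G] [MulAction G Ω] {g : ℕ → G} {pt : ℕ → Ω}
    (M : Md g pt H15.MM24.P 24 11 H15.MM24.B 244823040) : TrO (gen (wds g ah_W) al2.K) (wds g x_W) (wds g x_W) 1 pt 24 (al2.Pt 0) (memO cc2) :=
  node M (a_S2 M) (ah_act M) (x_act M) (x_act M) an2 ((ce_act M).mono (by decide)) (fun _ _ => trivial) an2_0 an2_1 (List.forall_mem_nil _)
theorem cc0_e : ∀ i < 15, (dent cc0 ce_P (nat_lit 24)) i = 0 := allZ_sound0 cc0_e_0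
theorem cc0_ok : DOK cc0 ce_P 24 := ⟨cc0_h, cc0_e⟩
theorem an3_1 : ∀ i < 24, (an3.ent H15.MM24.P ah_P x_P x_P ce_P (nat_lit 11) (nat_lit 1) H15.MM24.B al0 [al1, al2, al3, al4, al5, al6] (memO cc0)) i = 0 := allZ_sound0 an3_1_0
theorem an3_t {G Ω : Type*} [Group G] [MulAction G Ω] {g : ℕ → G} {pt : ℕ → Ω}
    (M : Md g pt H15.MM24.P 24 11 H15.MM24.B 244823040) : TrO (gen (wds g ah_W) al0.K) (wds g x_W) (wds g x_W) 1 pt 24 (al0.Pt 0) (memO cc0) :=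
  node M (a_S0 M) (ah_act M) (x_act M) (x_act M) an3 ((ce_act M).mono (by decide)) (fun _ _ => trivial) an3_0 an3_1 (List.forall_mem_nil _)
theorem c {G Ω : Type*} [Group G] [MulAction G Ω] {g : ℕ → G} {pt : ℕ → Ω}
    (M : Md g pt H15.MM24.P 24 11 H15.MM24.B 244823040) : Cen ⊤ (wds g x_W) 1 (wds g ce_W) pt 24 [cc0, cc2, cc4, cc6] :=
  (a_S0 M).top ▸ Cen.lev M (a_S0 M) (Cen.triv (a_S1 M) (Cen.lev M (a_S2 M) (Cen.triv (a_S3 M) (Cen.lev M (a_S4 M) (Cen.triv (a_S5 M) (Cen.lev M (a_S6 M) (Cen.bot) (an0_t M) (x_act M) (ce_act M) (fun _ _ => trivial) cc6_ok c_f6) (forced (a_S5 M) (ah_act M) (x_act M) _ _ c_f5)) (an1_t M) (x_act M) (ce_act M) (fun _ _ => trivial) cc4_ok c_f4) (forced (a_S3 M) (ah_act M) (x_act M) _ _ c_f3)) (an2_t M) (x_act M) (ce_act M) (fun _ _ => trivial) cc2_ok c_f2) (forced (a_S1 M) (ah_act M) (x_act M) _ _ c_f1)) (an3_t M) (x_act M) (ce_act M) (fun _ _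 => trivial) cc0_ok c_f0
theorem c_card {G Ω : Type*} [Group G] [MulAction G Ω] {g : ℕ → G} {pt : ℕ → Ω}
    (M : Md g pt H15.MM24.P 24 11 H15.MM24.B 244823040) : Nat.card (Subgroup.centralizer {(wds g x_W) 0}) = 21504 :=
  (c M).card_cent1 M.inj c_c.1
theorem c_eq {G Ω : Type*} [Group G] [MulAction G Ω] {g : ℕ → G} {pt : ℕ → Ω}
    (M : Md g pt H15.MM24.P 24 11 H15.MM24.B 244823040) : Subgroup.centralizer (gen (wds g x_W) 1) = gen (wds g ce_W) 6 ∧ Nat.card (gen (wds g ce_W) 6) = 21504 :=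
  c_c.1 ▸ c_c.2 ▸ ⟨(c M).cent, (c M).card M.inj⟩
theorem sub_m : ∀ k < 6, ∀ i < 24, (matEnt (wdsP H15.MM24.P sub_W) H15.XM24C.P) k i = 0 := allZ2_sound sub_m_a
theorem sub_act {G Ω : Type*} [Group G] [MulAction G Ω] {g : ℕ → G} {pt : ℕ → Ω}
    (M : Md g pt H15.MM24.P 24 11 H15.MM24.B 244823040) : Act (wds g sub_W) pt H15.XM24C.P 24 6 :=
  act_mat (M.wact sub_lt) sub_m
theorem sub {G Ω : Type*} [Group G] [MulAction G Ω] {g : ℕ → G} {pt : ℕ → Ω}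
    (M : Md g pt H15.MM24.P 24 11 H15.MM24.B 244823040) : ∃ (_ : MulAction (Subgroup.centralizer {(wds g x_W) 0}) Ω) (h : ℕ → Subgroup.centralizer {(wds g x_W) 0}),
      Md h pt H15.XM24C.P 24 6 H15.XM24C.B 21504 ∧ (∀ k < 6, (h k : G) = (wds g sub_W) k) ∧ ((evA h sub_Z : Subgroup.centralizer {(wds g x_W) 0}) : G) = (wds g x_W) 0 :=
  by
    have e := (M.eqw (sub_act M) (x_act M) Nat.one_pos sub_z).1
    obtain ⟨i, h, h1, h2⟩ := H15.CS.sub_md M (sub_act M) (H := Subgroup.centralizer {(wds g x_W) 0})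
      (e ▸ H15.CS.gen_le_cent M (sub_act M) sub_c) (c_card M)
      (H15.XM24C.chain_of (sub_act M) (H15.CS.rels M (sub_act M) sub_r)) sub_e
    exact ⟨i, h, h1, h2, (H15.CS.coe_evA h2 sub_cc.2).trans e.symm⟩
theorem y_act {G Ω : Type*} [Group G] [MulAction G Ω] {g : ℕ → G} {pt : ℕ → Ω}
    (M : Md g pt H15.XM24C.P 24 6 H15.XM24C.B 21504) : Act (wds g y_W) pt y_P 24 1 :=
  M.wact y_lt

end H15.XTM24
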