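import Cfsg.Agent.H0.TRP
import Cfsg.Agent.H15.CS
import Cfsg.Agent.H15.M.L52
import Cfsg.Agent.H15.M.L52C
import Cfsg.Agent.H15.M.M24C
import Cfsg.Agent.H15.T.M24

/-! Generated by tools/h0/tr.py. -/

set_option maxRecDepth 100000
set_option maxHeartbeats 0

namespace H15.XTL52
open H16 H0.TR
open scoped Pointwise

noncomputable def x_W : List (List ℕ) := [[nat_lit 5, nat_lit 6, nat_lit 5, nat_lit 4, nat_lit 1, nat_lit 2, nat_lit 3, nat_lit 4, nat_lit 5, nat_lit 6, nat_lit 5]]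
noncomputable def x_P : ℕ → ℕ → ℕ := wdsP H15.XL52.P x_W
noncomputable def ah_W : List (List ℕ) := [[nat_lit 0],
  [nat_lit 1],
  [nat_lit 2],
  [nat_lit 3],
  [nat_lit 4],
  [nat_lit 5],
  [nat_lit 7],
  [nat_lit 6]]
noncomputable def ah_P : ℕ → ℕ → ℕ := wdsP H15.XL52.P ah_W
noncomputable def al0Dd : ℕ := nat_lit 0xe6ded5c5a48d94847b646354534c4b4a3b33322b2a291b1a191816140d0700
noncomputable def al0D (u : ℕ) : ℕ := Nat.land (Nat.shiftRight al0Dd (Nat.mul u (nat_lit 8))) (nat_lit 255)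
noncomputable def al0Pd : ℕ := nat_lit 0xc272b08e5fd17555f0df713d4692cf3c9b34c2
noncomputable def al0P (u : ℕ) : ℕ := Nat.land (Nat.shiftRight al0Pd (Nat.mul u (nat_lit 5))) (nat_lit 31)
noncomputable def al0Qd : ℕ := nat_lit 0xb15c67aceda0e49621508e05abcc95e0779f03a0
noncomputable def al0Q (u : ℕ) : ℕ := Nat.land (Nat.shiftRight al0Qd (Nat.mul u (nat_lit 5))) (nat_lit 31)
noncomputable def al0 : H16.Lev := ⟨31, 8, al0D, al0P, al0Q⟩
noncomputable def al1Dd : ℕ := nat_lit 0xb5bbad907c827465515043423c3b353a2d26251f1e1d18171615120c0600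
noncomputable def al1D (u : ℕ) : ℕ := Nat.land (Nat.shiftRight al1Dd (Nat.mul u (nat_lit 8))) (nat_lit 255)
noncomputable def al1Pd : ℕ := nat_lit 0x26234af579365d1d146b9996e159e3bfbb0e3
noncomputable def al1P (u : ℕ) : ℕ := Nat.land (Nat.shiftRight al1Pd (Nat.mul u (nat_lit 5))) (nat_lit 31)
noncomputable def al1Qd : ℕ := nat_lit 0x258ad539861d1123ae09c47429deaf0f33b003a0
noncomputable def al1Q (u : ℕ) : ℕ := Nat.land (Nat.shiftRight al1Qd (Nat.mul u (nat_lit 5))) (nat_lit 31)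
noncomputable def al1 : H16.Lev := ⟨30, 7, al1D, al1P, al1Q⟩
noncomputable def al2Dd : ℕ := nat_lit 0x9b8f76656a5e51403f34332e2d282c211b1a1514130f0e0d0c0a0500
noncomputable def al2D (u : ℕ) : ℕ := Nat.land (Nat.shiftRight al2Dd (Nat.mul u (nat_lit 8))) (nat_lit 255)
noncomputable def al2Pd : ℕ := nat_lit 0x3958472fe8baaaf8277dc4f51a4b3cf59a6
noncomputable def al2P (u : ℕ) : ℕ := Nat.land (Nat.shiftRight al2Pd (Nat.mul u (nat_lit 5))) (nat_lit 31)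
noncomputable def al2Qd : ℕ := nat_lit 0xa8d846a4ab98a275190f85c39b49d4d835800000
noncomputable def al2Q (u : ℕ) : ℕ := Nat.land (Nat.shiftRight al2Qd (Nat.mul u (nat_lit 5))) (nat_lit 31)
noncomputable def al2 : H16.Lev := ⟨28, 6, al2D, al2P, al2Q⟩
noncomputable def al3Dd : ℕ := nat_lit 0xbd5253f62c13a64484ea02e4888d182c4070c14200
noncomputable def al3D (u : ℕ) : ℕ := Nat.land (Nat.shiftRight al3Dd (Nat.mul u (nat_lit 7))) (nat_lit 127)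
noncomputable def al3Pd : ℕ := nat_lit 0x5a5987c1b245ddcd7e9db4ebede62a
noncomputable def al3P (u : ℕ) : ℕ := Nat.land (Nat.shiftRight al3Pd (Nat.mul u (nat_lit 5))) (nat_lit 31)
noncomputable def al3Qd : ℕ := nat_lit 0x5110c1ac5471ca9340329b635b82cf0000000000
noncomputable def al3Q (u : ℕ) : ℕ := Nat.land (Nat.shiftRight al3Qd (Nat.mul u (nat_lit 5))) (nat_lit 31)
noncomputable def al3 : H16.Lev := ⟨24, 5, al3D, al3P, al3Q⟩
noncomputable def al4Dd : ℕ := nat_lit 0xbe36d758f2ca1c6143081000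
noncomputable def al4D (u : ℕ) : ℕ := Nat.land (Nat.shiftRight al4Dd (Nat.mul u (nat_lit 6))) (nat_lit 63)
noncomputable def al4Pd : ℕ := nat_lit 0xdce34fe797f5616ee352
noncomputable def al4P (u : ℕ) : ℕ := Nat.land (Nat.shiftRight al4Pd (Nat.mul u (nat_lit 5))) (nat_lit 31)
noncomputable def al4Qd : ℕ := nat_lit 0xb739f1a2846ce0d50000000000000000
noncomputable def al4Q (u : ℕ) : ℕ := Nat.land (Nat.shiftRight al4Qd (Nat.mul u (nat_lit 4))) (nat_lit 15)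
noncomputable def al4 : H16.Lev := ⟨16, 4, al4D, al4P, al4Q⟩
noncomputable def ce_W : List (List ℕ) := [[nat_lit 0],
  [nat_lit 0],
  [nat_lit 3],
  [nat_lit 0],
  [nat_lit 3],
  [nat_lit 3],
  [nat_lit 0],
  [nat_lit 1, nat_lit 2],
  [nat_lit 0, nat_lit 1, nat_lit 4, nat_lit 1],
  [nat_lit 4, nat_lit 2, nat_lit 5, nat_lit 4, nat_lit 1, nat_lit 2],
  [nat_lit 4, nat_lit 2, nat_lit 5, nat_lit 6, nat_lit 5, nat_lit 4, nat_lit 0, nat_lit 3]]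
noncomputable def ce_P : ℕ → ℕ → ℕ := wdsP H15.XL52.P ce_W
noncomputable def cc4Dd : ℕ := nat_lit 0xfdde750800
noncomputable def cc4D (u : ℕ) : ℕ := Nat.land (Nat.shiftRight cc4Dd (Nat.mul u (nat_lit 5))) (nat_lit 31)
noncomputable def cc4Pd : ℕ := nat_lit 0xdcff7f5b52
noncomputable def cc4P (u : ℕ) : ℕ := Nat.land (Nat.shiftRight cc4Pd (Nat.mul u (nat_lit 5))) (nat_lit 31)
noncomputable def cc4Qd : ℕ := nat_lit 0xac0e40880c00000000000000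
noncomputable def cc4Q (u : ℕ) : ℕ := Nat.land (Nat.shiftRight cc4Qd (Nat.mul u (nat_lit 3))) (nat_lit 7)
noncomputable def cc4 : H16.Lev := ⟨8, 8, cc4D, cc4P, cc4Q⟩
noncomputable def an0Fd : ℕ := nat_lit 0x3f205d4005d0078400
noncomputable def an0F (u : ℕ) : ℕ := Nat.land (Nat.shiftRight an0Fd (Nat.mul u (nat_lit 5))) (nat_lit 31)
noncomputable def an0 : Nd := ⟨an0F, (nat_lit 8), (nat_lit 8), [[nat_lit 0]], [((nat_lit 0), [])], []⟩
noncomputable def cc3Dd : ℕ := nat_lit 0xa0f962b44648141624400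
noncomputable def cc3D (u : ℕ) : ℕ := Nat.land (Nat.shiftRight cc3Dd (Nat.mul u (nat_lit 7))) (nat_lit 127)
noncomputable def cc3Pd : ℕ := nat_lit 0x5bdda97adfbee6a
noncomputable def cc3P (u : ℕ) : ℕ := Nat.land (Nat.shiftRight cc3Pd (Nat.mul u (nat_lit 5))) (nat_lit 31)
noncomputable def cc3Qd : ℕ := nat_lit 0x4600280035001700a900b00000000000
noncomputable def cc3Q (u : ℕ) : ℕ := Nat.land (Nat.shiftRight cc3Qd (Nat.mul u (nat_lit 4))) (nat_lit 15)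
noncomputable def cc3 : H16.Lev := ⟨12, 9, cc3D, cc3P, cc3Q⟩
noncomputable def an1Fd : ℕ := nat_lit 0x2c8e20198c06800190004140002c0009040
noncomputable def an1F (u : ℕ) : ℕ := Nat.land (Nat.shiftRight an1Fd (Nat.mul u (nat_lit 6))) (nat_lit 63)
noncomputable def an1 : Nd := ⟨an1F, (nat_lit 9), (nat_lit 9), [[nat_lit 0]], [((nat_lit 0), [])], []⟩
noncomputable def cc2Dd : ℕ := nat_lit 0x31444ec179c4a6c8961828480
noncomputable def cc2D (u : ℕ) : ℕ := Nat.land (Nat.shiftRight cc2Dd (Nat.mul u (nat_lit 7))) (nat_lit 127)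
noncomputable def cc2Pd : ℕ := nat_lit 0x1ca3afefbee7a97ac6
noncomputable def cc2P (u : ℕ) : ℕ := Nat.land (Nat.shiftRight cc2Pd (Nat.mul u (nat_lit 5))) (nat_lit 31)
noncomputable def cc2Qd : ℕ := nat_lit 0x92006400710053008d00ac00b0000000
noncomputable def cc2Q (u : ℕ) : ℕ := Nat.land (Nat.shiftRight cc2Qd (Nat.mul u (nat_lit 4))) (nat_lit 15)
noncomputable def cc2 : H16.Lev := ⟨14, 10, cc2D, cc2P, cc2Q⟩
noncomputable def an2Fd : ℕ := nat_lit 0x279a700001c0008005b00168000144804d4000040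
noncomputable def an2F (u : ℕ) : ℕ := Nat.land (Nat.shiftRight an2Fd (Nat.mul u (nat_lit 6))) (nat_lit 63)
noncomputable def an2 : Nd := ⟨an2F, (nat_lit 10), (nat_lit 10), [[nat_lit 0]], [((nat_lit 0), [])], []⟩
noncomputable def cc0Dd : ℕ := nat_lit 0x98ad02a685599e50749181a2c500
noncomputable def cc0D (u : ℕ) : ℕ := Nat.land (Nat.shiftRight cc0Dd (Nat.mul u (nat_lit 7))) (nat_lit 127)
noncomputable def cc0Pd : ℕ := nat_lit 0x1a8c75bbefbee7a97ac2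
noncomputable def cc0P (u : ℕ) : ℕ := Nat.land (Nat.shiftRight cc0Pd (Nat.mul u (nat_lit 5))) (nat_lit 31)
noncomputable def cc0Qd : ℕ := nat_lit 0x92006400710053008a00be00cd00f000
noncomputable def cc0Q (u : ℕ) : ℕ := Nat.land (Nat.shiftRight cc0Qd (Nat.mul u (nat_lit 4))) (nat_lit 15)
noncomputable def cc0 : H16.Lev := ⟨16, 11, cc0D, cc0P, cc0Q⟩
noncomputable def an3Fd : ℕ := nat_lit 0x40aa9a800007800230180188c00164c0516034001000
noncomputable def an3F (u : ℕ) : ℕ := Nat.land (Nat.shiftRight an3Fd (Nat.mul u (nat_lit 6))) (nat_lit 63)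
noncomputable def an3 : Nd := ⟨an3F, (nat_lit 11), (nat_lit 11), [[nat_lit 0]], [((nat_lit 0), [])], []⟩
noncomputable def sub_W : List (List ℕ) := [[nat_lit 3],
  [nat_lit 0, nat_lit 1, nat_lit 2],
  [nat_lit 1, nat_lit 2],
  [nat_lit 0, nat_lit 1, nat_lit 4, nat_lit 0, nat_lit 1],
  [nat_lit 5, nat_lit 1, nat_lit 4, nat_lit 0, nat_lit 1, nat_lit 3, nat_lit 4, nat_lit 5, nat_lit 1],
  [nat_lit 4, nat_lit 3, nat_lit 4, nat_lit 6]]
noncomputable def sub_Z : List ℕ := [nat_lit 4, nat_lit 3, nat_lit 0, nat_lit 2, nat_lit 3, nat_lit 4, nat_lit 5, nat_lit 4, nat_lit 3, nat_lit 0, nat_lit 2, nat_lit 3, nat_lit 4, nat_lit 5]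
noncomputable def q_W : List (List ℕ) := [[nat_lit 0],
  [nat_lit 0, nat_lit 3, nat_lit 0, nat_lit 3],
  [nat_lit 3, nat_lit 0, nat_lit 3, nat_lit 5],
  [nat_lit 5, nat_lit 2, nat_lit 0, nat_lit 3, nat_lit 4, nat_lit 3, nat_lit 0, nat_lit 5, nat_lit 2],
  [nat_lit 4, nat_lit 5, nat_lit 3, nat_lit 4, nat_lit 3, nat_lit 5, nat_lit 4],
  [nat_lit 3, nat_lit 0, nat_lit 2, nat_lit 3]]
noncomputable def q_V : List (List ℕ) := [[nat_lit 0],
  [nat_lit 5, nat_lit 4, nat_lit 2, nat_lit 3, nat_lit 2, nat_lit 3, nat_lit 4, nat_lit 5],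
  [nat_lit 0, nat_lit 3, nat_lit 2, nat_lit 3, nat_lit 4, nat_lit 5, nat_lit 4, nat_lit 3, nat_lit 2, nat_lit 3, nat_lit 5],
  [nat_lit 3, nat_lit 0, nat_lit 1, nat_lit 2, nat_lit 3, nat_lit 4, nat_lit 3, nat_lit 0, nat_lit 1, nat_lit 2, nat_lit 3],
  [nat_lit 3, nat_lit 5, nat_lit 4, nat_lit 3, nat_lit 5],
  [nat_lit 0, nat_lit 1, nat_lit 2]]
noncomputable def q_Pd : List ℕ := [nat_lit 0xdeb38ffbbc9ca30bdab47b9ac5a928398a418820,
  nat_lit 0xffbbcdeb389ca30bdab45a9287b9ac398a418820,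
  nat_lit 0xffb38debbc9cab4bda307b9285a9ac188a439820,
  nat_lit 0x52fbcde98d10eb49c8857bb19f7d2839a11b5c20,
  nat_lit 0x31fbc10f38bd98d9c9097ba955aa11f7ca4d6c20,
  nat_lit 0xf7f9dd6f19bdab49ca3073d8d52d09398a418820]
noncomputable def q_P (k u : ℕ) : ℕ := Nat.land (Nat.shiftRight (nth (nat_lit 0) q_Pd k) (Nat.mul u (nat_lit 5))) (nat_lit 31)

theorem x_lt : H16.allL (ltAll 8) x_W = true := by decide +kernel
theorem ah_lt : H16.allL (ltAll 8) ah_W = true := by decide +kernel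
theorem al0_e_0 : allZ (dent al0 ah_P (nat_lit 32)) (nat_lit 0) (nat_lit 30) = true := by decide +kernel
theorem al0_h : 0 < al0.n ∧ 0 < al0.K ∧ al0.Pt 0 < 32 ∧ al0.Q (al0.Pt 0) = 0 := by decide +kernel
theorem al1_e_0 : allZ (dent al1 ah_P (nat_lit 32)) (nat_lit 0) (nat_lit 29) = true := by decide +kernel
theorem al1_h : 0 < al1.n ∧ 0 < al1.K ∧ al1.Pt 0 < 32 ∧ al1.Q (al1.Pt 0) = 0 := by decide +kernel
theorem al2_e_0 : allZ (dent al2 ah_P (nat_lit 32)) (nat_lit 0) (nat_lit 27) = true := by decide +kernel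
theorem al2_h : 0 < al2.n ∧ 0 < al2.K ∧ al2.Pt 0 < 32 ∧ al2.Q (al2.Pt 0) = 0 := by decide +kernel
theorem al3_e_0 : allZ (dent al3 ah_P (nat_lit 32)) (nat_lit 0) (nat_lit 23) = true := by decide +kernel
theorem al3_h : 0 < al3.n ∧ 0 < al3.K ∧ al3.Pt 0 < 32 ∧ al3.Q (al3.Pt 0) = 0 := by decide +kernel
theorem al4_e_0 : allZ (dent al4 ah_P (nat_lit 32)) (nat_lit 0) (nat_lit 15) = true := by decide +kernel
theorem al4_h : 0 < al4.n ∧ 0 < al4.K ∧ al4.Pt 0 < 32 ∧ al4.Q (al4.Pt 0) = 0 := by decide +kernel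
theorem a_f4 : (Nat.ble al4.K 8 && Nat.ble (topK []) al4.K && fixLetters ah_P (topK []) (al4.Pt 0)) = true := by decide +kernel
theorem a_f3 : (Nat.ble al3.K 8 && Nat.ble (topK [al4]) al3.K && fixLetters ah_P (topK [al4]) (al3.Pt 0)) = true := by decide +kernel
theorem a_f2 : (Nat.ble al2.K 8 && Nat.ble (topK [al3, al4]) al2.K && fixLetters ah_P (topK [al3, al4]) (al2.Pt 0)) = true := by decide +kernel
theorem a_f1 : (Nat.ble al1.K 8 && Nat.ble (topK [al2, al3, al4]) al1.K && fixLetters ah_P (topK [al2, al3, al4]) (al1.Pt 0)) = true := by decide +kernel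
theorem a_f0 : (Nat.ble al0.K 8 && Nat.ble (topK [al1, al2, al3, al4]) al0.K && fixLetters ah_P (topK [al1, al2, al3, al4]) (al0.Pt 0)) = true := by decide +kernel
theorem a_c : chainCard [al0, al1, al2, al3, al4] = 9999360 := by decide +kernel
theorem ce_lt : H16.allL (ltAll 8) ce_W = true := by decide +kernel
theorem cc4_e_0 : allZ (dent cc4 ce_P (nat_lit 32)) (nat_lit 0) (nat_lit 7) = true := by decide +kernel
theorem cc4_h : 0 < cc4.n ∧ 0 < cc4.K ∧ cc4.Pt 0 < 32 ∧ cc4.Q (cc4.Pt 0) = 0 := by decide +kernel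
theorem an0_0 : (Nat.ble al4.K 8 && Nat.beq (ltAll 32 [al3.Pt 0, al2.Pt 0, al1.Pt 0, al0.Pt 0]) 0 && kChk ce_P x_P an0.Kn 1 H15.XL52.B [al3.Pt 0, al2.Pt 0, al1.Pt 0, al0.Pt 0] && H16.allL (ltAll 1) an0.pre && planOK ah_P x_P 1 (al4.Pt 0) an0.plan [al4]) = true := by decide +kernel
theorem an0_1_0 : allZ (an0.ent H15.XL52.P ah_P x_P x_P ce_P (nat_lit 8) (nat_lit 1) H15.XL52.B al4 [] (memO cc4)) (nat_lit 0) (nat_lit 16) = true := by decide +kernel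
theorem c_f4 : (Nat.ble cc4.K 11 && Nat.ble (topK []) cc4.K && Nat.beq (cc4.Pt 0) (al4.Pt 0) && Nat.beq (ltAll 32 [al3.Pt 0, al2.Pt 0, al1.Pt 0, al0.Pt 0]) 0 && kChk ce_P x_P cc4.K 1 H15.XL52.B [al3.Pt 0, al2.Pt 0, al1.Pt 0, al0.Pt 0]) = true := by decide +kernel
theorem cc3_e_0 : allZ (dent cc3 ce_P (nat_lit 32)) (nat_lit 0) (nat_lit 11) = true := by decide +kernel
theorem cc3_h : 0 < cc3.n ∧ 0 < cc3.K ∧ cc3.Pt 0 < 32 ∧ cc3.Q (cc3.Pt 0) = 0 := by decide +kernel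
theorem an1_0 : (Nat.ble al3.K 8 && Nat.beq (ltAll 32 [al2.Pt 0, al1.Pt 0, al0.Pt 0]) 0 && kChk ce_P x_P an1.Kn 1 H15.XL52.B [al2.Pt 0, al1.Pt 0, al0.Pt 0] && H16.allL (ltAll 1) an1.pre && planOK ah_P x_P 1 (al3.Pt 0) an1.plan [al3, al4]) = true := by decide +kernel
theorem an1_1_0 : allZ (an1.ent H15.XL52.P ah_P x_P x_P ce_P (nat_lit 8) (nat_lit 1) H15.XL52.B al3 [al4] (memO cc3)) (nat_lit 0) (nat_lit 24) = true := by decide +kernel
theorem c_f3 : (Nat.ble cc3.K 11 && Nat.ble (topK [cc4]) cc3.K && Nat.beq (cc3.Pt 0) (al3.Pt 0) && Nat.beq (ltAll 32 [al2.Pt 0, al1.Pt 0, al0.Pt 0]) 0 && kChk ce_P x_P cc3.K 1 H15.XL52.B [al2.Pt 0, al1.Pt 0, al0.Pt 0]) = true := by decide +kernel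
theorem cc2_e_0 : allZ (dent cc2 ce_P (nat_lit 32)) (nat_lit 0) (nat_lit 13) = true := by decide +kernel
theorem cc2_h : 0 < cc2.n ∧ 0 < cc2.K ∧ cc2.Pt 0 < 32 ∧ cc2.Q (cc2.Pt 0) = 0 := by decide +kernel
theorem an2_0 : (Nat.ble al2.K 8 && Nat.beq (ltAll 32 [al1.Pt 0, al0.Pt 0]) 0 && kChk ce_P x_P an2.Kn 1 H15.XL52.B [al1.Pt 0, al0.Pt 0] && H16.allL (ltAll 1) an2.pre && planOK ah_P x_P 1 (al2.Pt 0) an2.plan [al2, al3, al4]) = true := by decide +kernel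
theorem an2_1_0 : allZ (an2.ent H15.XL52.P ah_P x_P x_P ce_P (nat_lit 8) (nat_lit 1) H15.XL52.B al2 [al3, al4] (memO cc2)) (nat_lit 0) (nat_lit 28) = true := by decide +kernel
theorem c_f2 : (Nat.ble cc2.K 11 && Nat.ble (topK [cc3, cc4]) cc2.K && Nat.beq (cc2.Pt 0) (al2.Pt 0) && Nat.beq (ltAll 32 [al1.Pt 0, al0.Pt 0]) 0 && kChk ce_P x_P cc2.K 1 H15.XL52.B [al1.Pt 0, al0.Pt 0]) = true := by decide +kernel
theorem c_f1 : (Nat.ble al1.K 8 && Nat.blt (nat_lit 2) 32 && fixLetters ah_P al1.K (nat_lit 2) && Nat.beq (ltAll 1 [nat_lit 0]) 0 && Nat.beq (apW x_P [nat_lit 0] (nat_lit 2)) (al1.Pt 0)) = true := by decide +kernel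
theorem cc0_e_0 : allZ (dent cc0 ce_P (nat_lit 32)) (nat_lit 0) (nat_lit 15) = true := by decide +kernel
theorem cc0_h : 0 < cc0.n ∧ 0 < cc0.K ∧ cc0.Pt 0 < 32 ∧ cc0.Q (cc0.Pt 0) = 0 := by decide +kernel
theorem an3_0 : (Nat.ble al0.K 8 && Nat.beq (ltAll 32 []) 0 && kChk ce_P x_P an3.Kn 1 H15.XL52.B [] && H16.allL (ltAll 1) an3.pre && planOK ah_P x_P 1 (al0.Pt 0) an3.plan [al0, al1, al2, al3, al4]) = true := by decide +kernel
theorem an3_1_0 : allZ (an3.ent H15.XL52.P ah_P x_P x_P ce_P (nat_lit 8) (nat_lit 1) H15.XL52.B al0 [al1, al2, al3, al4] (memO cc0)) (nat_lit 0) (nat_lit 31) = true := by decide +kernel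
theorem c_f0 : (Nat.ble cc0.K 11 && Nat.ble (topK [cc2, cc3, cc4]) cc0.K && Nat.beq (cc0.Pt 0) (al0.Pt 0) && Nat.beq (ltAll 32 []) 0 && kChk ce_P x_P cc0.K 1 H15.XL52.B []) = true := by decide +kernel
theorem c_c : chainCard [cc0, cc2, cc3, cc4] = 21504 ∧ topK [cc0, cc2, cc3, cc4] = 11 := by decide +kernel
theorem sub_lt : H16.allL (ltAll 8) sub_W = true := by decide +kernel
theorem sub_m_a : allZ2 (matEnt (wdsP H15.XL52.P sub_W) H15.XL52C.P) (nat_lit 6) (nat_lit 32) = true := by decide +kernel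
theorem sub_r : H16.allL (fixL H15.XL52C.P 6 H15.XL52.B) H15.XL52C.Rl = true := by decide +kernel
theorem sub_rc : H16.allL (fixL H15.XL52C.P 6 H15.XL52C.B) H15.XL52C.Rl = true := by decide +kernel
theorem sub_z : Nat.add (ltAll 6 [nat_lit 4, nat_lit 3, nat_lit 0, nat_lit 2, nat_lit 3, nat_lit 4, nat_lit 5, nat_lit 4, nat_lit 3, nat_lit 0, nat_lit 2, nat_lit 3, nat_lit 4, nat_lit 5]) (sumL (fun β => Nat.xor (x_P 0 β) (apW H15.XL52C.P [nat_lit 4, nat_lit 3, nat_lit 0, nat_lit 2, nat_lit 3, nat_lit 4, nat_lit 5, nat_lit 4, nat_lit 3, nat_lit 0, nat_lit 2, nat_lit 3, nat_lit 4, nat_lit 5] β)) H15.XL52.B) = 0 := by decide +kernel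
theorem sub_c : H15.CS.comL H15.XL52C.P 6 H15.XL52.B sub_Z = true := by decide +kernel
theorem sub_cc : H15.CS.comL H15.XL52C.P 6 H15.XL52C.B sub_Z = true ∧ ltAll 6 sub_Z = 0 := by decide +kernel
theorem sub_e : topK H15.XL52C.L = 6 ∧ chainCard H15.XL52C.L = 21504 ∧ chainBase H15.XL52C.L = H15.XL52C.B ∧ ltAll 32 H15.XL52C.B = 0 := by decide +kernel
theorem q_lt : H16.allL (ltAll 6) q_W = true := by decide +kernel
theorem q_m_a : allZ2 (matEnt (wdsP H15.XL52C.P q_W) q_P) (nat_lit 6) (nat_lit 32) = true := by decide +kernel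
theorem q_r : H16.allL (fixL q_P 6 H15.XL52C.B) H15.XM24C.Rl = true := by decide +kernel
theorem q_g : allZ (fun k => Nat.add (ltAll 6 (nth [] q_V k))
    (sumL (fun β => Nat.xor (H15.XL52C.P k β) (apW q_P (nth [] q_V k) β)) H15.XL52C.B)) 0 6 = true := by decide +kernel
theorem x_s : ltAll 8 (nth [] x_W 0) = 0 ∧ MM.mt 2 H15.XL52.ix (apW H15.XL52.P (nth [] x_W 0)) = Matrix.transvection 0 1 1 := by decide +kernel

theorem x_act {G Ω : Type*} [Group G] [MulAction G Ω] {g : ℕ → G} {pt : ℕ → Ω}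
    (M : Md g pt H15.XL52.P 32 8 H15.XL52.B 9999360) : Act (wds g x_W) pt x_P 32 1 :=
  M.wact x_lt
theorem ah_act {G Ω : Type*} [Group G] [MulAction G Ω] {g : ℕ → G} {pt : ℕ → Ω}
    (M : Md g pt H15.XL52.P 32 8 H15.XL52.B 9999360) : Act (wds g ah_W) pt ah_P 32 8 :=
  M.wact ah_lt
theorem al0_e : ∀ i < 30, (dent al0 ah_P (nat_lit 32)) i = 0 := allZ_sound0 al0_e_0
theorem al0_ok : DOK al0 ah_P 32 := ⟨al0_h, al0_e⟩
theorem al1_e : ∀ i < 29, (dent al1 ah_P (nat_lit 32)) i = 0 := allZ_sound0 al1_e_0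
theorem al1_ok : DOK al1 ah_P 32 := ⟨al1_h, al1_e⟩
theorem al2_e : ∀ i < 27, (dent al2 ah_P (nat_lit 32)) i = 0 := allZ_sound0 al2_e_0
theorem al2_ok : DOK al2 ah_P 32 := ⟨al2_h, al2_e⟩
theorem al3_e : ∀ i < 23, (dent al3 ah_P (nat_lit 32)) i = 0 := allZ_sound0 al3_e_0
theorem al3_ok : DOK al3 ah_P 32 := ⟨al3_h, al3_e⟩
theorem al4_e : ∀ i < 15, (dent al4 ah_P (nat_lit 32)) i = 0 := allZ_sound0 al4_e_0
theorem al4_ok : DOK al4 ah_P 32 := ⟨al4_h, al4_e⟩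
theorem a_low {G Ω : Type*} [Group G] [MulAction G Ω] {g : ℕ → G} {pt : ℕ → Ω}
    (M : Md g pt H15.XL52.P 32 8 H15.XL52.B 9999360) : SLow (gi (wds g ah_W)) pt 32 [al0, al1, al2, al3, al4] :=
  (((((SLow.nil).cons al4_ok (ah_act M) a_f4).cons al3_ok (ah_act M) a_f3).cons al2_ok (ah_act M) a_f2).cons al1_ok (ah_act M) a_f1).cons al0_ok (ah_act M) a_f0
theorem a_S0 {G Ω : Type*} [Group G] [MulAction G Ω] {g : ℕ → G} {pt : ℕ → Ω}
    (M : Md g pt H15.XL52.P 32 8 H15.XL52.B 9999360) : Stage ⊤ (wds g ah_W) pt 32 [al0, al1, al2, al3, al4] [] :=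
  M.stage (a_low M) a_c
theorem a_S1 {G Ω : Type*} [Group G] [MulAction G Ω] {g : ℕ → G} {pt : ℕ → Ω}
    (M : Md g pt H15.XL52.P 32 8 H15.XL52.B 9999360) : Stage ⊤ (wds g ah_W) pt 32 [al1, al2, al3, al4] [al0.Pt 0] :=
  (a_S0 M).next
theorem a_S2 {G Ω : Type*} [Group G] [MulAction G Ω] {g : ℕ → G} {pt : ℕ → Ω}
    (M : Md g pt H15.XL52.P 32 8 H15.XL52.B 9999360) : Stage ⊤ (wds g ah_W) pt 32 [al2, al3, al4] [al1.Pt 0, al0.Pt 0] :=
  (a_S1 M).next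
theorem a_S3 {G Ω : Type*} [Group G] [MulAction G Ω] {g : ℕ → G} {pt : ℕ → Ω}
    (M : Md g pt H15.XL52.P 32 8 H15.XL52.B 9999360) : Stage ⊤ (wds g ah_W) pt 32 [al3, al4] [al2.Pt 0, al1.Pt 0, al0.Pt 0] :=
  (a_S2 M).next
theorem a_S4 {G Ω : Type*} [Group G] [MulAction G Ω] {g : ℕ → G} {pt : ℕ → Ω}
    (M : Md g pt H15.XL52.P 32 8 H15.XL52.B 9999360) : Stage ⊤ (wds g ah_W) pt 32 [al4] [al3.Pt 0, al2.Pt 0, al1.Pt 0, al0.Pt 0] :=
  (a_S3 M).next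
theorem a_S5 {G Ω : Type*} [Group G] [MulAction G Ω] {g : ℕ → G} {pt : ℕ → Ω}
    (M : Md g pt H15.XL52.P 32 8 H15.XL52.B 9999360) : Stage ⊤ (wds g ah_W) pt 32 [] [al4.Pt 0, al3.Pt 0, al2.Pt 0, al1.Pt 0, al0.Pt 0] :=
  (a_S4 M).next
theorem ce_act {G Ω : Type*} [Group G] [MulAction G Ω] {g : ℕ → G} {pt : ℕ → Ω}
    (M : Md g pt H15.XL52.P 32 8 H15.XL52.B 9999360) : Act (wds g ce_W) pt ce_P 32 11 :=
  M.wact ce_lt
theorem cc4_e : ∀ i < 7, (dent cc4 ce_P (nat_lit 32)) i = 0 := allZ_sound0 cc4_e_0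
theorem cc4_ok : DOK cc4 ce_P 32 := ⟨cc4_h, cc4_e⟩
theorem an0_1 : ∀ i < 16, (an0.ent H15.XL52.P ah_P x_P x_P ce_P (nat_lit 8) (nat_lit 1) H15.XL52.B al4 [] (memO cc4)) i = 0 := allZ_sound0 an0_1_0
theorem an0_t {G Ω : Type*} [Group G] [MulAction G Ω] {g : ℕ → G} {pt : ℕ → Ω}
    (M : Md g pt H15.XL52.P 32 8 H15.XL52.B 9999360) : TrO (gen (wds g ah_W) al4.K) (wds g x_W) (wds g x_W) 1 pt 32 (al4.Pt 0) (memO cc4) :=
  node M (a_S4 M) (ah_act M) (x_act M) (x_act M) an0 ((ce_act M).mono (by decide)) (fun _ _ => trivial) an0_0 an0_1 (List.forall_mem_nil _)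
theorem cc3_e : ∀ i < 11, (dent cc3 ce_P (nat_lit 32)) i = 0 := allZ_sound0 cc3_e_0
theorem cc3_ok : DOK cc3 ce_P 32 := ⟨cc3_h, cc3_e⟩
theorem an1_1 : ∀ i < 24, (an1.ent H15.XL52.P ah_P x_P x_P ce_P (nat_lit 8) (nat_lit 1) H15.XL52.B al3 [al4] (memO cc3)) i = 0 := allZ_sound0 an1_1_0
theorem an1_t {G Ω : Type*} [Group G] [MulAction G Ω] {g : ℕ → G} {pt : ℕ → Ω}
    (M : Md g pt H15.XL52.P 32 8 H15.XL52.B 9999360) : TrO (gen (wds g ah_W) al3.K) (wds g x_W) (wds g x_W) 1 pt 32 (al3.Pt 0) (memO cc3) :=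
  node M (a_S3 M) (ah_act M) (x_act M) (x_act M) an1 ((ce_act M).mono (by decide)) (fun _ _ => trivial) an1_0 an1_1 (List.forall_mem_nil _)
theorem cc2_e : ∀ i < 13, (dent cc2 ce_P (nat_lit 32)) i = 0 := allZ_sound0 cc2_e_0
theorem cc2_ok : DOK cc2 ce_P 32 := ⟨cc2_h, cc2_e⟩
theorem an2_1 : ∀ i < 28, (an2.ent H15.XL52.P ah_P x_P x_P ce_P (nat_lit 8) (nat_lit 1) H15.XL52.B al2 [al3, al4] (memO cc2)) i = 0 := allZ_sound0 an2_1_0
theorem an2_t {G Ω : Type*} [Group G] [MulAction G Ω] {g : ℕ → G} {pt : ℕ → Ω}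
    (M : Md g pt H15.XL52.P 32 8 H15.XL52.B 9999360) : TrO (gen (wds g ah_W) al2.K) (wds g x_W) (wds g x_W) 1 pt 32 (al2.Pt 0) (memO cc2) :=
  node M (a_S2 M) (ah_act M) (x_act M) (x_act M) an2 ((ce_act M).mono (by decide)) (fun _ _ => trivial) an2_0 an2_1 (List.forall_mem_nil _)
theorem cc0_e : ∀ i < 15, (dent cc0 ce_P (nat_lit 32)) i = 0 := allZ_sound0 cc0_e_0
theorem cc0_ok : DOK cc0 ce_P 32 := ⟨cc0_h, cc0_e⟩
theorem an3_1 : ∀ i < 31, (an3.ent H15.XL52.P ah_P x_P x_P ce_P (nat_lit 8) (nat_lit 1) H15.XL52.B al0 [al1, al2, al3, al4] (memO cc0)) i = 0 := allZ_sound0 an3_1_0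
theorem an3_t {G Ω : Type*} [Group G] [MulAction G Ω] {g : ℕ → G} {pt : ℕ → Ω}
    (M : Md g pt H15.XL52.P 32 8 H15.XL52.B 9999360) : TrO (gen (wds g ah_W) al0.K) (wds g x_W) (wds g x_W) 1 pt 32 (al0.Pt 0) (memO cc0) :=
  node M (a_S0 M) (ah_act M) (x_act M) (x_act M) an3 ((ce_act M).mono (by decide)) (fun _ _ => trivial) an3_0 an3_1 (List.forall_mem_nil _)
theorem c {G Ω : Type*} [Group G] [MulAction G Ω] {g : ℕ → G} {pt : ℕ → Ω}
    (M : Md g pt H15.XL52.P 32 8 H15.XL52.B 9999360) : Cen ⊤ (wds g x_W) 1 (wds g ce_W) pt 32 [cc0, cc2, cc3, cc4] :=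
  (a_S0 M).top ▸ Cen.lev M (a_S0 M) (Cen.triv (a_S1 M) (Cen.lev M (a_S2 M) (Cen.lev M (a_S3 M) (Cen.lev M (a_S4 M) (Cen.bot) (an0_t M) (x_act M) (ce_act M) (fun _ _ => trivial) cc4_ok c_f4) (an1_t M) (x_act M) (ce_act M) (fun _ _ => trivial) cc3_ok c_f3) (an2_t M) (x_act M) (ce_act M) (fun _ _ => trivial) cc2_ok c_f2) (forced (a_S1 M) (ah_act M) (x_act M) _ _ c_f1)) (an3_t M) (x_act M) (ce_act M) (fun _ _ => trivial) cc0_ok c_f0
theorem c_card {G Ω : Type*} [Group G] [MulAction G Ω] {g : ℕ → G} {pt : ℕ → Ω}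
    (M : Md g pt H15.XL52.P 32 8 H15.XL52.B 9999360) : Nat.card (Subgroup.centralizer {(wds g x_W) 0}) = 21504 :=
  (c M).card_cent1 M.inj c_c.1
theorem c_eq {G Ω : Type*} [Group G] [MulAction G Ω] {g : ℕ → G} {pt : ℕ → Ω}
    (M : Md g pt H15.XL52.P 32 8 H15.XL52.B 9999360) : Subgroup.centralizer (gen (wds g x_W) 1) = gen (wds g ce_W) 11 ∧ Nat.card (gen (wds g ce_W) 11) = 21504 :=
  c_c.1 ▸ c_c.2 ▸ ⟨(c M).cent, (c M).card M.inj⟩
theorem sub_m : ∀ k < 6, ∀ i < 32, (matEnt (wdsP H15.XL52.P sub_W) H15.XL52C.P) k i = 0 := allZ2_sound sub_m_a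
theorem sub_act {G Ω : Type*} [Group G] [MulAction G Ω] {g : ℕ → G} {pt : ℕ → Ω}
    (M : Md g pt H15.XL52.P 32 8 H15.XL52.B 9999360) : Act (wds g sub_W) pt H15.XL52C.P 32 6 :=
  act_mat (M.wact sub_lt) sub_m
theorem sub {G Ω : Type*} [Group G] [MulAction G Ω] {g : ℕ → G} {pt : ℕ → Ω}
    (M : Md g pt H15.XL52.P 32 8 H15.XL52.B 9999360) : ∃ (_ : MulAction (Subgroup.centralizer {(wds g x_W) 0}) Ω) (h : ℕ → Subgroup.centralizer {(wds g x_W) 0}),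
      Md h pt H15.XL52C.P 32 6 H15.XL52C.B 21504 ∧ (∀ k < 6, (h k : G) = (wds g sub_W) k) ∧ ((evA h sub_Z : Subgroup.centralizer {(wds g x_W) 0}) : G) = (wds g x_W) 0 :=
  by
    have e := (M.eqw (sub_act M) (x_act M) Nat.one_pos sub_z).1
    obtain ⟨i, h, h1, h2⟩ := H15.CS.sub_md M (sub_act M) (H := Subgroup.centralizer {(wds g x_W) 0})
      (e ▸ H15.CS.gen_le_cent M (sub_act M) sub_c) (c_card M)
      (H15.XL52C.chain_of (sub_act M) (H15.CS.rels M (sub_act M) sub_r)) sub_e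
    exact ⟨i, h, h1, h2, (H15.CS.coe_evA h2 sub_cc.2).trans e.symm⟩
theorem q_m : ∀ k < 6, ∀ i < 32, (matEnt (wdsP H15.XL52C.P q_W) q_P) k i = 0 := allZ2_sound q_m_a
theorem q_act {G Ω : Type*} [Group G] [MulAction G Ω] {g : ℕ → G} {pt : ℕ → Ω}
    (M : Md g pt H15.XL52C.P 32 6 H15.XL52C.B 21504) : Act (wds g q_W) pt q_P 32 6 :=
  act_mat (M.wact q_lt) q_m
theorem q {G Ω : Type*} [Group G] [MulAction G Ω] {g : ℕ → G} {pt : ℕ → Ω}
    (M : Md g pt H15.XM24C.P 24 6 H15.XM24C.B 21504) {T Ω' : Type*} [Group T] [MulAction T Ω'] {t : ℕ → T} {pt' : ℕ → Ω'}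
    (Mt : Md t pt' H15.XL52C.P 32 6 H15.XL52C.B 21504) :
    ∃ f : G →* T, Function.Surjective f ∧ ∀ W, ltAll 6 W = 0 → f (evA g W) = evA (wds t q_W) W :=
  H15.CS.quot M H15.XM24C.bound H15.XTM24.sub_rc Mt (q_act Mt) q_r q_g

end H15.XTL52
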