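import Cfsg.Agent.H0.TRP
import Cfsg.Agent.H15.CS
import Cfsg.Agent.H15.M.W4m
import Cfsg.Agent.H15.M.W6m
import Cfsg.Agent.H15.M.W8p

/-! Generated by tools/h0/tr.py. -/

set_option maxRecDepth 100000
set_option maxHeartbeats 0

namespace H15.XTH1
open H16 H0.TR
open scoped Pointwise

noncomputable def a_W : List (List ℕ) := [[nat_lit 0, nat_lit 1, nat_lit 2, nat_lit 0],
  [nat_lit 0, nat_lit 2, nat_lit 1, nat_lit 0],
  [nat_lit 2]]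
noncomputable def a_Pd : List ℕ := [nat_lit 0x2534f8e9bcad6170,
  nat_lit 0xb946758a13ecdf20,
  nat_lit 0xbc9ef8da16345270]
noncomputable def a_P (k u : ℕ) : ℕ := Nat.land (Nat.shiftRight (nth (nat_lit 0) a_Pd k) (Nat.mul u (nat_lit 4))) (nat_lit 15)
noncomputable def a_R : List (List ℕ) := [[nat_lit 2, nat_lit 2],
  [nat_lit 2, nat_lit 1, nat_lit 2, nat_lit 1, nat_lit 2, nat_lit 1]]
noncomputable def a_V : List (List ℕ) := [[nat_lit 1, nat_lit 1, nat_lit 2, nat_lit 0, nat_lit 0],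
  [nat_lit 0, nat_lit 2, nat_lit 1],
  [nat_lit 2]]
noncomputable def b_W : List (List ℕ) := [[nat_lit 0, nat_lit 2, nat_lit 3, nat_lit 4, nat_lit 1, nat_lit 2, nat_lit 0, nat_lit 3],
  [nat_lit 0, nat_lit 3, nat_lit 2, nat_lit 1, nat_lit 3, nat_lit 4, nat_lit 2, nat_lit 0],
  [nat_lit 3, nat_lit 2, nat_lit 3]]
noncomputable def b_Pd : List ℕ := [nat_lit 0x8b53d8542e2fbb90d464ed23a7e113789ce497221f485fe829d9f0f6a407191afcc6670b056b3bda16cc35a837ead5c0,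
  nat_lit 0x86e6d4303db910bfb1a664dce3708d55abe07529e8c3f28592b791246cfc04eef4b23599f721c841faa56178add7a3c0,
  nat_lit 0xfc16a413a85f236b53ccd5a842ed4bad53b09d90bc722e47e067630fd9983f1a94d0a46f5e9c8cb1227781e17b6e5f80]
noncomputable def b_P (k u : ℕ) : ℕ := Nat.land (Nat.shiftRight (nth (nat_lit 0) b_Pd k) (Nat.mul u (nat_lit 6))) (nat_lit 63)
noncomputable def b_R : List (List ℕ) := [[nat_lit 2, nat_lit 2],
  [nat_lit 0, nat_lit 2, nat_lit 0, nat_lit 0, nat_lit 2, nat_lit 0, nat_lit 0, nat_lit 2, nat_lit 0, nat_lit 0, nat_lit 2, nat_lit 0],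
  [nat_lit 2, nat_lit 0, nat_lit 0, nat_lit 2, nat_lit 0, nat_lit 2, nat_lit 0, nat_lit 0, nat_lit 2, nat_lit 0, nat_lit 2, nat_lit 0, nat_lit 0, nat_lit 2, nat_lit 0, nat_lit 2, nat_lit 0, nat_lit 0, nat_lit 2, nat_lit 0, nat_lit 2, nat_lit 0, nat_lit 0, nat_lit 2, nat_lit 0],
  [nat_lit 1, nat_lit 2, nat_lit 0, nat_lit 2, nat_lit 1, nat_lit 2, nat_lit 0, nat_lit 2, nat_lit 1, nat_lit 2, nat_lit 0, nat_lit 2, nat_lit 1, nat_lit 2, nat_lit 0, nat_lit 2]]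
noncomputable def b_V : List (List ℕ) := [[nat_lit 0, nat_lit 2, nat_lit 1, nat_lit 1, nat_lit 1, nat_lit 1, nat_lit 2, nat_lit 0, nat_lit 0, nat_lit 0, nat_lit 2, nat_lit 0, nat_lit 2, nat_lit 1, nat_lit 1, nat_lit 1, nat_lit 2],
  [nat_lit 1, nat_lit 2, nat_lit 1, nat_lit 1, nat_lit 2, nat_lit 0, nat_lit 2, nat_lit 0, nat_lit 0, nat_lit 0, nat_lit 2, nat_lit 0, nat_lit 2, nat_lit 1, nat_lit 2, nat_lit 0, nat_lit 0],
  [nat_lit 1, nat_lit 2, nat_lit 0, nat_lit 2, nat_lit 1, nat_lit 2, nat_lit 0, nat_lit 2],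
  [nat_lit 0, nat_lit 0, nat_lit 2, nat_lit 1, nat_lit 2, nat_lit 0, nat_lit 2, nat_lit 0, nat_lit 0, nat_lit 2, nat_lit 1, nat_lit 2, nat_lit 0, nat_lit 2, nat_lit 1, nat_lit 1, nat_lit 1, nat_lit 1],
  [nat_lit 1, nat_lit 1, nat_lit 1, nat_lit 2, nat_lit 0, nat_lit 2, nat_lit 1, nat_lit 1, nat_lit 2, nat_lit 0, nat_lit 0, nat_lit 0, nat_lit 2, nat_lit 0, nat_lit 2, nat_lit 1]]
noncomputable def c_W : List (List ℕ) := [[nat_lit 6, nat_lit 2, nat_lit 0, nat_lit 3, nat_lit 4, nat_lit 1, nat_lit 3, nat_lit 5, nat_lit 1, nat_lit 4, nat_lit 5, nat_lit 1, nat_lit 6, nat_lit 5, nat_lit 2, nat_lit 4, nat_lit 1, nat_lit 7, nat_lit 5, nat_lit 4, nat_lit 1, nat_lit 5, nat_lit 3, nat_lit 6, nat_lit 7],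
  [nat_lit 2, nat_lit 3, nat_lit 1, nat_lit 4, nat_lit 1, nat_lit 5, nat_lit 1, nat_lit 6, nat_lit 5, nat_lit 4, nat_lit 1, nat_lit 4, nat_lit 5, nat_lit 6, nat_lit 7, nat_lit 5, nat_lit 4, nat_lit 1, nat_lit 5, nat_lit 7],
  [nat_lit 5, nat_lit 4, nat_lit 1, nat_lit 3, nat_lit 1, nat_lit 4, nat_lit 1, nat_lit 5, nat_lit 4, nat_lit 1, nat_lit 5, nat_lit 6, nat_lit 5, nat_lit 4, nat_lit 0, nat_lit 1, nat_lit 5, nat_lit 2]]
noncomputable def c_Pd : List ℕ := [nat_lit 0xa5111faba81c12a66aded06467d3dd693a8e803437838d39f5414ffbf84c42f635818f3b388c8236fa4e40f4f7434df9aa1e10a4a7131da965d1df6b68dcd266ca7e70c4c7737dc905b1bf0b08bcb20655e1ef5b58ece2569a2e209497232d995aeee05457e3ed5995212f9b982c2296c5717fcbc87c72c60abeb00407b3bd09ac1816a2a1151baf63d7d96d6edad4603387893d3e8a8430fc4846f2f1454bff3c88863231858b3ff34749fdfe4a44f0a31719adae1a14a06cd8d66261d5db6fc37779cdce7a74c00cb8b60201b5bb0f5ce8e65251e5eb5f9327299d9e2a249053e7e95d5eeae4509c28269291252b9fcc7876c2c1757bcf03b7b90d0ebab400,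
  nat_lit 0x60535467e4d7d0e3d3e0e7d457646350ad9e99aa291a1d2e1e2d2a199aa9ae9dc5f6f1c24172754676454271f2c1c6f5083b3c0f8cbfb88bbb888fbc3f0c0b38b58681b2310205360635320182b1b685784b4c7ffccfc8fbcbf8ffcc4f7c7b481023241794a7a093a39097a427141320ddeee9da596a6d5e6e5d5a69ead9deed8dbeb98a093a3d0e3e0d0a39ba898ebd40737447c4f7f0c3f3c0c7f477444370281b1c2fac9f98ab9ba8af9c1f2c2b18e5d6d1e26152556656656251d2e1e6d5586b6c5fdcefe8dbebd8dfec6f5c5b6895a6a1921122251626151221a29196a5fdcec9fa794a4d7e4e7d7a49caf9fecd30030437b48780b383b0b78407343300,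
  nat_lit 0x9998d8d9b1b0f0f19190d0d1b9b8f8f9adaceced8584c4c5a5a4e4e58d8ccccd9594d4d5bdbcfcfd9d9cdcddb5b4f4f5a1a0e0e18988c8c9a9a8e8e98180c0c19a9bdbdab2b3f3f29293d3d2babbfbfaaeafefee8687c7c6a6a7e7e68e8fcfce9697d7d6bebffffe9e9fdfdeb6b7f7f6a2a3e3e28a8bcbcaaaabebea8283c3c25b5a1a1b73723233535212137b7a3a3b6f6e2e2f47460607676626274f4e0e0f575616177f7e3e3f5f5e1e1f77763637636222234b4a0a0b6b6a2a2b43420203585919187071313050511110787939386c6d2d2c44450504646525244c4d0d0c545515147c7d3d3c5c5d1d1c7475353460612120484909086869292840410100]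
noncomputable def c_P (k u : ℕ) : ℕ := Nat.land (Nat.shiftRight (nth (nat_lit 0) c_Pd k) (Nat.mul u (nat_lit 8))) (nat_lit 255)
noncomputable def c_R : List (List ℕ) := [[nat_lit 2, nat_lit 2],
  [nat_lit 0, nat_lit 0, nat_lit 2, nat_lit 1, nat_lit 1, nat_lit 2, nat_lit 0, nat_lit 0, nat_lit 2, nat_lit 1, nat_lit 1, nat_lit 2, nat_lit 0, nat_lit 0, nat_lit 2, nat_lit 1, nat_lit 1, nat_lit 2],
  [nat_lit 2, nat_lit 0, nat_lit 2, nat_lit 0, nat_lit 2, nat_lit 0, nat_lit 2, nat_lit 0, nat_lit 2, nat_lit 0, nat_lit 2, nat_lit 0, nat_lit 2, nat_lit 0, nat_lit 2, nat_lit 0, nat_lit 2, nat_lit 0, nat_lit 2, nat_lit 0, nat_lit 2, nat_lit 0, nat_lit 2, nat_lit 0, nat_lit 2, nat_lit 0, nat_lit 2, nat_lit 0, nat_lit 2, nat_lit 0]]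
noncomputable def c_V : List (List ℕ) := [[nat_lit 1, nat_lit 1, nat_lit 2, nat_lit 1, nat_lit 1, nat_lit 2, nat_lit 0, nat_lit 0, nat_lit 2, nat_lit 0, nat_lit 0, nat_lit 0, nat_lit 2, nat_lit 0, nat_lit 2, nat_lit 0, nat_lit 2, nat_lit 0, nat_lit 0, nat_lit 2, nat_lit 0],
  [nat_lit 2, nat_lit 0, nat_lit 0, nat_lit 0, nat_lit 0, nat_lit 0, nat_lit 2, nat_lit 0, nat_lit 2, nat_lit 0, nat_lit 2, nat_lit 0, nat_lit 0, nat_lit 2, nat_lit 0, nat_lit 0, nat_lit 2, nat_lit 0, nat_lit 2, nat_lit 0, nat_lit 2, nat_lit 1, nat_lit 1, nat_lit 2, nat_lit 1, nat_lit 1, nat_lit 1, nat_lit 1, nat_lit 1, nat_lit 1, nat_lit 1, nat_lit 2, nat_lit 0, nat_lit 2, nat_lit 0],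
  [nat_lit 0, nat_lit 2, nat_lit 1, nat_lit 1, nat_lit 2, nat_lit 1, nat_lit 1, nat_lit 1, nat_lit 2, nat_lit 0, nat_lit 0, nat_lit 0, nat_lit 2, nat_lit 0, nat_lit 0, nat_lit 0, nat_lit 0, nat_lit 2, nat_lit 1, nat_lit 1, nat_lit 2, nat_lit 1, nat_lit 2, nat_lit 1, nat_lit 1, nat_lit 1, nat_lit 1, nat_lit 2, nat_lit 1, nat_lit 2, nat_lit 1, nat_lit 1, nat_lit 2, nat_lit 1, nat_lit 2, nat_lit 0, nat_lit 2, nat_lit 0],
  [nat_lit 1, nat_lit 1, nat_lit 1, nat_lit 1, nat_lit 2, nat_lit 0, nat_lit 0, nat_lit 2, nat_lit 0, nat_lit 0, nat_lit 0, nat_lit 2, nat_lit 0, nat_lit 2, nat_lit 0, nat_lit 2, nat_lit 0, nat_lit 0, nat_lit 2, nat_lit 1, nat_lit 2, nat_lit 0, nat_lit 0, nat_lit 0, nat_lit 2, nat_lit 0, nat_lit 2, nat_lit 1, nat_lit 2, nat_lit 1],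
  [nat_lit 1, nat_lit 2, nat_lit 0, nat_lit 0, nat_lit 0, nat_lit 2, nat_lit 0, nat_lit 0, nat_lit 2, nat_lit 1, nat_lit 1, nat_lit 2, nat_lit 1, nat_lit 1, nat_lit 2, nat_lit 1, nat_lit 1, nat_lit 1, nat_lit 1, nat_lit 1, nat_lit 1, nat_lit 2, nat_lit 1, nat_lit 1, nat_lit 1, nat_lit 1, nat_lit 1, nat_lit 1, nat_lit 1, nat_lit 2, nat_lit 1, nat_lit 1, nat_lit 2, nat_lit 0, nat_lit 0, nat_lit 0],
  [nat_lit 0, nat_lit 0, nat_lit 2, nat_lit 1, nat_lit 2, nat_lit 0, nat_lit 2, nat_lit 0, nat_lit 0, nat_lit 0, nat_lit 0, nat_lit 2, nat_lit 0, nat_lit 0, nat_lit 2, nat_lit 0, nat_lit 2, nat_lit 0, nat_lit 2, nat_lit 0, nat_lit 2, nat_lit 1, nat_lit 2, nat_lit 1, nat_lit 1, nat_lit 2, nat_lit 1, nat_lit 2, nat_lit 0, nat_lit 2, nat_lit 1, nat_lit 1, nat_lit 1, nat_lit 2, nat_lit 1, nat_lit 2, nat_lit 1, nat_lit 1, nat_lit 1, nat_lit 2, nat_lit 0, nat_lit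 0, nat_lit 0, nat_lit 2, nat_lit 1, nat_lit 1, nat_lit 1, nat_lit 2, nat_lit 1, nat_lit 2, nat_lit 0, nat_lit 0, nat_lit 2, nat_lit 1, nat_lit 1, nat_lit 2, nat_lit 1],
  [nat_lit 1, nat_lit 1, nat_lit 1, nat_lit 2, nat_lit 0, nat_lit 0, nat_lit 0, nat_lit 2, nat_lit 0, nat_lit 0, nat_lit 2, nat_lit 1, nat_lit 1, nat_lit 1, nat_lit 2, nat_lit 0, nat_lit 0, nat_lit 0, nat_lit 2, nat_lit 0, nat_lit 0, nat_lit 0, nat_lit 0, nat_lit 0, nat_lit 0, nat_lit 0, nat_lit 2, nat_lit 1, nat_lit 2, nat_lit 1, nat_lit 2, nat_lit 1, nat_lit 2, nat_lit 1, nat_lit 2, nat_lit 0, nat_lit 2, nat_lit 0, nat_lit 0, nat_lit 2, nat_lit 0, nat_lit 0, nat_lit 0, nat_lit 2, nat_lit 1],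
  [nat_lit 0, nat_lit 0, nat_lit 2, nat_lit 0, nat_lit 0, nat_lit 0, nat_lit 0, nat_lit 2, nat_lit 0, nat_lit 0, nat_lit 0, nat_lit 2, nat_lit 1, nat_lit 1, nat_lit 1, nat_lit 2, nat_lit 1, nat_lit 1, nat_lit 1, nat_lit 2, nat_lit 0, nat_lit 2, nat_lit 1, nat_lit 1, nat_lit 1, nat_lit 1, nat_lit 1, nat_lit 2, nat_lit 1, nat_lit 2, nat_lit 1, nat_lit 2, nat_lit 1, nat_lit 1, nat_lit 2, nat_lit 1, nat_lit 1, nat_lit 2, nat_lit 1, nat_lit 2, nat_lit 0, nat_lit 2, nat_lit 0]]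

theorem a_lt : H16.allL (ltAll 3) a_W = true := by decide +kernel
theorem a_m_a : allZ2 (matEnt (wdsP H15.XW4m.P a_W) a_P) (nat_lit 3) (nat_lit 16) = true := by decide +kernel
theorem a_g : allZ (fun k => Nat.add (ltAll 3 (nth [] a_V k))
    (sumL (fun β => Nat.xor (H15.XW4m.P k β) (apW a_P (nth [] a_V k) β)) H15.XW4m.B)) 0 3 = true := by decide +kernel
theorem a_r : H16.allL (fixL a_P 3 H15.XW4m.B) ([0, 1] :: a_R) = true := by decide +kernel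
theorem a_e : 16 = 2 ^ Fintype.card ((Fin 1 ⊕ Fin 1) ⊕ Fin 2) ∧ H16.allL (ltAll 3) a_R = true ∧
    ∀ u < 16, u = 0 ∨ a_P 0 u ≠ u ∧ ∃ W ∈ a_R, apW (MM.aff a_P u) W 0 ≠ 0 := by decide +kernel
theorem b_lt : H16.allL (ltAll 5) b_W = true := by decide +kernel
theorem b_m_a : allZ2 (matEnt (wdsP H15.XW6m.P b_W) b_P) (nat_lit 3) (nat_lit 64) = true := by decide +kernel
theorem b_g : allZ (fun k => Nat.add (ltAll 3 (nth [] b_V k))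
    (sumL (fun β => Nat.xor (H15.XW6m.P k β) (apW b_P (nth [] b_V k) β)) H15.XW6m.B)) 0 5 = true := by decide +kernel
theorem b_r : H16.allL (fixL b_P 3 H15.XW6m.B) ([0, 1] :: b_R) = true := by decide +kernel
theorem b_e : 64 = 2 ^ Fintype.card ((Fin 2 ⊕ Fin 2) ⊕ Fin 2) ∧ H16.allL (ltAll 3) b_R = true ∧
    ∀ u < 64, u = 0 ∨ b_P 0 u ≠ u ∧ ∃ W ∈ b_R, apW (MM.aff b_P u) W 0 ≠ 0 := by decide +kernel
theorem c_lt : H16.allL (ltAll 8) c_W = true := by decide +kernel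
theorem c_m_a : allZ2 (matEnt (wdsP H15.XW8p.P c_W) c_P) (nat_lit 3) (nat_lit 256) = true := by decide +kernel
theorem c_g : allZ (fun k => Nat.add (ltAll 3 (nth [] c_V k))
    (sumL (fun β => Nat.xor (H15.XW8p.P k β) (apW c_P (nth [] c_V k) β)) H15.XW8p.B)) 0 8 = true := by decide +kernel
theorem c_r : H16.allL (fixL c_P 3 H15.XW8p.B) ([0, 1] :: c_R) = true := by decide +kernel
theorem c_e : 256 = 2 ^ Fintype.card (Fin 4 ⊕ Fin 4) ∧ H16.allL (ltAll 3) c_R = true ∧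
    ∀ u < 256, u = 0 ∨ c_P 0 u ≠ u ∧ ∃ W ∈ c_R, apW (MM.aff c_P u) W 0 ≠ 0 := by decide +kernel

theorem a_m : ∀ k < 3, ∀ i < 16, (matEnt (wdsP H15.XW4m.P a_W) a_P) k i = 0 := allZ2_sound a_m_a
theorem a_act {G Ω : Type*} [Group G] [MulAction G Ω] {g : ℕ → G} {pt : ℕ → Ω}
    (M : Md g pt H15.XW4m.P 16 3 H15.XW4m.B 60) : Act (wds g a_W) pt a_P 16 3 :=
  act_mat (M.wact a_lt) a_m
theorem a_h1 (f : Cfsg.Omega (ZMod 2) (Cfsg.quadFormMinus 1 (ZMod 2) 1 1) → (Fin 1 ⊕ Fin 1) ⊕ Fin 2 → ZMod 2)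
    (hf : ∀ a b, f (a * b) = f a + (a.1.1.val).mulVec (f b)) : ∃ v, ∀ a, f a = (a.1.1.val).mulVec v - v := by
  obtain ⟨_, h, M, e⟩ := H15.XW4m.md
  let φ : Cfsg.Omega (ZMod 2) (Cfsg.quadFormMinus 1 (ZMod 2) 1 1) →* GL ((Fin 1 ⊕ Fin 1) ⊕ Fin 2) (ZMod 2) := (Subgroup.subtype _).comp (Subgroup.subtype _)
  refine MM.h1_zero φ H15.XW4m.ok (s := wds h a_W) (Ps := a_P) (fun k hk i hi => ?_)
    (top_le_iff.1 (M.top ▸ M.gen_le (a_act M) M.act a_g)) (CS.rels M (a_act M) a_r) a_e f hf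
  beta_reduce
  rw [show φ (wds h a_W k) = wds H15.XW4m.g a_W k from
    MM.map_word φ e ((by decide +kernel : ∀ k < 3, ltAll 3 (nth [] a_W k) = 0) k hk)]
  exact act_mat (H15.XW4m.ok.act.wds a_lt 3) a_m k hk i hi
theorem b_m : ∀ k < 3, ∀ i < 64, (matEnt (wdsP H15.XW6m.P b_W) b_P) k i = 0 := allZ2_sound b_m_a
theorem b_act {G Ω : Type*} [Group G] [MulAction G Ω] {g : ℕ → G} {pt : ℕ → Ω}
    (M : Md g pt H15.XW6m.P 64 5 H15.XW6m.B 25920) : Act (wds g b_W) pt b_P 64 3 :=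
  act_mat (M.wact b_lt) b_m
theorem b_h1 (f : Cfsg.Omega (ZMod 2) (Cfsg.quadFormMinus 2 (ZMod 2) 1 1) → (Fin 2 ⊕ Fin 2) ⊕ Fin 2 → ZMod 2)
    (hf : ∀ a b, f (a * b) = f a + (a.1.1.val).mulVec (f b)) : ∃ v, ∀ a, f a = (a.1.1.val).mulVec v - v := by
  obtain ⟨_, h, M, e⟩ := H15.XW6m.md
  let φ : Cfsg.Omega (ZMod 2) (Cfsg.quadFormMinus 2 (ZMod 2) 1 1) →* GL ((Fin 2 ⊕ Fin 2) ⊕ Fin 2) (ZMod 2) := (Subgroup.subtype _).comp (Subgroup.subtype _)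
  refine MM.h1_zero φ H15.XW6m.ok (s := wds h b_W) (Ps := b_P) (fun k hk i hi => ?_)
    (top_le_iff.1 (M.top ▸ M.gen_le (b_act M) M.act b_g)) (CS.rels M (b_act M) b_r) b_e f hf
  beta_reduce
  rw [show φ (wds h b_W k) = wds H15.XW6m.g b_W k from
    MM.map_word φ e ((by decide +kernel : ∀ k < 3, ltAll 5 (nth [] b_W k) = 0) k hk)]
  exact act_mat (H15.XW6m.ok.act.wds b_lt 3) b_m k hk i hi
theorem c_m : ∀ k < 3, ∀ i < 256, (matEnt (wdsP H15.XW8p.P c_W) c_P) k i = 0 := allZ2_sound c_m_a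
theorem c_act {G Ω : Type*} [Group G] [MulAction G Ω] {g : ℕ → G} {pt : ℕ → Ω}
    (M : Md g pt H15.XW8p.P 256 8 H15.XW8p.B 174182400) : Act (wds g c_W) pt c_P 256 3 :=
  act_mat (M.wact c_lt) c_m
theorem c_h1 (f : Cfsg.Omega (ZMod 2) (Cfsg.quadFormPlus 4 (ZMod 2)) → Fin 4 ⊕ Fin 4 → ZMod 2)
    (hf : ∀ a b, f (a * b) = f a + (a.1.1.val).mulVec (f b)) : ∃ v, ∀ a, f a = (a.1.1.val).mulVec v - v := by
  obtain ⟨_, h, M, e⟩ := H15.XW8p.md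
  let φ : Cfsg.Omega (ZMod 2) (Cfsg.quadFormPlus 4 (ZMod 2)) →* GL (Fin 4 ⊕ Fin 4) (ZMod 2) := (Subgroup.subtype _).comp (Subgroup.subtype _)
  refine MM.h1_zero φ H15.XW8p.ok (s := wds h c_W) (Ps := c_P) (fun k hk i hi => ?_)
    (top_le_iff.1 (M.top ▸ M.gen_le (c_act M) M.act c_g)) (CS.rels M (c_act M) c_r) c_e f hf
  beta_reduce
  rw [show φ (wds h c_W k) = wds H15.XW8p.g c_W k from
    MM.map_word φ e ((by decide +kernel : ∀ k < 3, ltAll 8 (nth [] c_W k) = 0) k hk)]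
  exact act_mat (H15.XW8p.ok.act.wds c_lt 3) c_m k hk i hi

end H15.XTH1
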