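import Cfsg.Agent.H0.TRP
import Cfsg.Agent.H15.CS
import Cfsg.Agent.H15.H2E
import Cfsg.Agent.H15.M.J2I
import Cfsg.Agent.H16.M.J2
import Cfsg.Agent.H15.M.W4m

/-! Generated by tools/h0/tr.py. -/

set_option maxRecDepth 100000
set_option maxHeartbeats 0

namespace H15.XTJ2I
open H16 H0.TR
open scoped Pointwise

noncomputable def x_W : List (List ℕ) := [[nat_lit 2]]
noncomputable def x_P : ℕ → ℕ → ℕ := wdsP H16.J2.P x_W
noncomputable def ah_W : List (List ℕ) := [[nat_lit 2, nat_lit 0, nat_lit 2, nat_lit 0, nat_lit 2, nat_lit 1, nat_lit 2, nat_lit 1, nat_lit 2],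
  [nat_lit 1, nat_lit 2, nat_lit 0, nat_lit 2, nat_lit 1, nat_lit 2, nat_lit 0],
  [nat_lit 2, nat_lit 1, nat_lit 2, nat_lit 1, nat_lit 2, nat_lit 1, nat_lit 3, nat_lit 2, nat_lit 0, nat_lit 2, nat_lit 0],
  [nat_lit 3, nat_lit 2, nat_lit 0, nat_lit 2, nat_lit 1, nat_lit 3],
  [nat_lit 0],
  [nat_lit 1],
  [nat_lit 2],
  [nat_lit 3],
  [nat_lit 4],
  [nat_lit 1, nat_lit 2, nat_lit 1, nat_lit 2, nat_lit 3, nat_lit 2, nat_lit 1, nat_lit 4]]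
noncomputable def ah_P : ℕ → ℕ → ℕ := wdsP H16.J2.P ah_W
noncomputable def al0Dd : ℕ := nat_lit 0x7055dc26ceb80efb0ab89d26a78cdba929069e2484206a124a70204799984e5845c14813d3e37d6d3e1583b83b538313b4a33b0e33691c14034448f53acbc2c8a8174202c451310942e4932bc472e0921d4162b87e240860d41e0ac4d1104c0843a0e4400981705437094360302c08c1c0881b064180340b0241002000
noncomputable def al0D (u : ℕ) : ℕ := Nat.land (Nat.shiftRight al0Dd (Nat.mul u (nat_lit 10))) (nat_lit 1023)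
noncomputable def al0Pd : ℕ := nat_lit 0xc76a45c713e137bb25962437a3b038cd1547f82baa5ea281f8cb1031207a534ad66d9ba2ecad3aa69e0d97166be2c95b587302193c24a2412e3e70e74b5ed24c24588beac50746ba62718a4c1d48188850610a353208080
noncomputable def al0P (u : ℕ) : ℕ := Nat.land (Nat.shiftRight al0Pd (Nat.mul u (nat_lit 7))) (nat_lit 127)
noncomputable def al0Qd : ℕ := nat_lit 0xc7613ce2f5ade07b89f2c9afdbd07071dc9bc858916706d61ab1d925537522a9ec0eb5747d5dfb8b4240a5662549648f462d3074a206d70b2746bc5910865378d818d46bdc8550984c34481a0f3254d1828284060e08080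
noncomputable def al0Q (u : ℕ) : ℕ := Nat.land (Nat.shiftRight al0Qd (Nat.mul u (nat_lit 7))) (nat_lit 127)
noncomputable def al0 : H16.Lev := ⟨100, 10, al0D, al0P, al0Q⟩
noncomputable def al1Dd : ℕ := nat_lit 0x8361977f9c43227c3339317446374d3e4c352f233413110b0917160f1c0e0c0706050400
noncomputable def al1D (u : ℕ) : ℕ := Nat.land (Nat.shiftRight al1Dd (Nat.mul u (nat_lit 8))) (nat_lit 255)
noncomputable def al1Pd : ℕ := nat_lit 0x810962b7f723a8b57aeb790fa4d09455063773ea57c4d19b270a98224270f90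
noncomputable def al1P (u : ℕ) : ℕ := Nat.land (Nat.shiftRight al1Pd (Nat.mul u (nat_lit 7))) (nat_lit 127)
noncomputable def al1Qd : ℕ := nat_lit 0x40b00001a65e01b00030000d0000143800000135577400000220237d60003c000760000a24800500002180601c0000000040d1040002000000000480000000000000000000000000000000
noncomputable def al1Q (u : ℕ) : ℕ := Nat.land (Nat.shiftRight al1Qd (Nat.mul u (nat_lit 6))) (nat_lit 63)
noncomputable def al1 : H16.Lev := ⟨36, 8, al1D, al1P, al1Q⟩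
noncomputable def al2Dd : ℕ := nat_lit 0x4486ed5a7386cc971c4c60f1a2c3040e14180
noncomputable def al2D (u : ℕ) : ℕ := Nat.land (Nat.shiftRight al2Dd (Nat.mul u (nat_lit 7))) (nat_lit 127)
noncomputable def al2Pd : ℕ := nat_lit 0x40c6c15a22ade14f41423ca515ce547e7f121
noncomputable def al2P (u : ℕ) : ℕ := Nat.land (Nat.shiftRight al2Pd (Nat.mul u (nat_lit 7))) (nat_lit 127)
noncomputable def al2Qd : ℕ := nat_lit 0x984000000000000300040000a60000020004800003414180000000070000000120000088007000000400b1000500000001e00000000000000000000000000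
noncomputable def al2Q (u : ℕ) : ℕ := Nat.land (Nat.shiftRight al2Qd (Nat.mul u (nat_lit 5))) (nat_lit 31)
noncomputable def al2 : H16.Lev := ⟨21, 4, al2D, al2P, al2Q⟩
noncomputable def al3Dd : ℕ := nat_lit 8
noncomputable def al3D (u : ℕ) : ℕ := Nat.land (Nat.shiftRight al3Dd (Nat.mul u (nat_lit 2))) (nat_lit 3)
noncomputable def al3Pd : ℕ := nat_lit 0x3ae
noncomputable def al3P (u : ℕ) : ℕ := Nat.land (Nat.shiftRight al3Pd (Nat.mul u (nat_lit 5))) (nat_lit 31)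
noncomputable def al3Qd : ℕ := nat_lit 0x20000000
noncomputable def al3Q (u : ℕ) : ℕ := Nat.land (Nat.shiftRight al3Qd (Nat.mul u (nat_lit 1))) (nat_lit 1)
noncomputable def al3 : H16.Lev := ⟨2, 3, al3D, al3P, al3Q⟩
noncomputable def al4Dd : ℕ := nat_lit 2
noncomputable def al4D (u : ℕ) : ℕ := Nat.land (Nat.shiftRight al4Dd (Nat.mul u (nat_lit 1))) (nat_lit 1)
noncomputable def al4Pd : ℕ := nat_lit 0xd41
noncomputable def al4P (u : ℕ) : ℕ := Nat.land (Nat.shiftRight al4Pd (Nat.mul u (nat_lit 6))) (nat_lit 63)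
noncomputable def al4Qd : ℕ := nat_lit 0x20000000000000
noncomputable def al4Q (u : ℕ) : ℕ := Nat.land (Nat.shiftRight al4Qd (Nat.mul u (nat_lit 1))) (nat_lit 1)
noncomputable def al4 : H16.Lev := ⟨2, 2, al4D, al4P, al4Q⟩
noncomputable def al5Dd : ℕ := nat_lit 0
noncomputable def al5D (u : ℕ) : ℕ := Nat.land (Nat.shiftRight al5Dd (Nat.mul u (nat_lit 1))) (nat_lit 1)
noncomputable def al5Pd : ℕ := nat_lit 0x2602
noncomputable def al5P (u : ℕ) : ℕ := Nat.land (Nat.shiftRight al5Pd (Nat.mul u (nat_lit 7))) (nat_lit 127)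
noncomputable def al5Qd : ℕ := nat_lit 0x10000000000000000000
noncomputable def al5Q (u : ℕ) : ℕ := Nat.land (Nat.shiftRight al5Qd (Nat.mul u (nat_lit 1))) (nat_lit 1)
noncomputable def al5 : H16.Lev := ⟨2, 1, al5D, al5P, al5Q⟩
noncomputable def ce_W : List (List ℕ) := [[nat_lit 1, nat_lit 2, nat_lit 0, nat_lit 2, nat_lit 1, nat_lit 2, nat_lit 0],
  [nat_lit 2, nat_lit 1, nat_lit 2, nat_lit 1, nat_lit 2, nat_lit 0, nat_lit 3, nat_lit 2, nat_lit 0, nat_lit 2, nat_lit 0],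
  [nat_lit 0, nat_lit 2, nat_lit 1, nat_lit 2, nat_lit 0, nat_lit 3, nat_lit 2, nat_lit 1, nat_lit 2, nat_lit 0, nat_lit 3],
  [nat_lit 2, nat_lit 0, nat_lit 2, nat_lit 1, nat_lit 2, nat_lit 0, nat_lit 2, nat_lit 4, nat_lit 2, nat_lit 0, nat_lit 2, nat_lit 0, nat_lit 3, nat_lit 2, nat_lit 4]]
noncomputable def ce_P : ℕ → ℕ → ℕ := wdsP H16.J2.P ce_W
noncomputable def cc4Dd : ℕ := nat_lit 0
noncomputable def cc4D (u : ℕ) : ℕ := Nat.land (Nat.shiftRight cc4Dd (Nat.mul u (nat_lit 1))) (nat_lit 1)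
noncomputable def cc4Pd : ℕ := nat_lit 0xd41
noncomputable def cc4P (u : ℕ) : ℕ := Nat.land (Nat.shiftRight cc4Pd (Nat.mul u (nat_lit 6))) (nat_lit 63)
noncomputable def cc4Qd : ℕ := nat_lit 0x20000000000000
noncomputable def cc4Q (u : ℕ) : ℕ := Nat.land (Nat.shiftRight cc4Qd (Nat.mul u (nat_lit 1))) (nat_lit 1)
noncomputable def cc4 : H16.Lev := ⟨2, 1, cc4D, cc4P, cc4Q⟩
noncomputable def an0Fd : ℕ := nat_lit 0
noncomputable def an0F (u : ℕ) : ℕ := Nat.land (Nat.shiftRight an0Fd (Nat.mul u (nat_lit 1))) (nat_lit 1)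
noncomputable def an0 : Nd := ⟨an0F, (nat_lit 2), (nat_lit 1), [], [((nat_lit 0), [])], []⟩
noncomputable def cc3Dd : ℕ := nat_lit 2
noncomputable def cc3D (u : ℕ) : ℕ := Nat.land (Nat.shiftRight cc3Dd (Nat.mul u (nat_lit 1))) (nat_lit 1)
noncomputable def cc3Pd : ℕ := nat_lit 0x3ae
noncomputable def cc3P (u : ℕ) : ℕ := Nat.land (Nat.shiftRight cc3Pd (Nat.mul u (nat_lit 5))) (nat_lit 31)
noncomputable def cc3Qd : ℕ := nat_lit 0x20000000
noncomputable def cc3Q (u : ℕ) : ℕ := Nat.land (Nat.shiftRight cc3Qd (Nat.mul u (nat_lit 1))) (nat_lit 1)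
noncomputable def cc3 : H16.Lev := ⟨2, 2, cc3D, cc3P, cc3Q⟩
noncomputable def an1Fd : ℕ := nat_lit 0
noncomputable def an1F (u : ℕ) : ℕ := Nat.land (Nat.shiftRight an1Fd (Nat.mul u (nat_lit 1))) (nat_lit 1)
noncomputable def an1 : Nd := ⟨an1F, (nat_lit 2), (nat_lit 2), [], [((nat_lit 0), [])], []⟩
noncomputable def cc1Dd : ℕ := nat_lit 0x82c132d407ce9a2e50b13224868b1820385080c100
noncomputable def cc1D (u : ℕ) : ℕ := Nat.land (Nat.shiftRight cc1Dd (Nat.mul u (nat_lit 7))) (nat_lit 127)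
noncomputable def cc1Pd : ℕ := nat_lit 0x430a52890728577eddf54407d632718aede54cdd90
noncomputable def cc1P (u : ℕ) : ℕ := Nat.land (Nat.shiftRight cc1Pd (Nat.mul u (nat_lit 7))) (nat_lit 127)
noncomputable def cc1Qd : ℕ := nat_lit 0x1800010a0000008000c00011000000541300000058007b4000800770000120000000900c1400000002eb5001200000000000000000000000000000000000
noncomputable def cc1Q (u : ℕ) : ℕ := Nat.land (Nat.shiftRight cc1Qd (Nat.mul u (nat_lit 5))) (nat_lit 31)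
noncomputable def cc1 : H16.Lev := ⟨24, 3, cc1D, cc1P, cc1Q⟩
noncomputable def an2Fd : ℕ := nat_lit 0x70050870800000b0040803000a0000b10000
noncomputable def an2F (u : ℕ) : ℕ := Nat.land (Nat.shiftRight an2Fd (Nat.mul u (nat_lit 4))) (nat_lit 15)
noncomputable def an2 : Nd := ⟨an2F, (nat_lit 3), (nat_lit 3), [[nat_lit 0]], [((nat_lit 0), [])], []⟩
noncomputable def cc0Dd : ℕ := nat_lit 0x6701c23545ce9a264888b1c345070c14180
noncomputable def cc0D (u : ℕ) : ℕ := Nat.land (Nat.shiftRight cc0Dd (Nat.mul u (nat_lit 7))) (nat_lit 127)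
noncomputable def cc0Pd : ℕ := nat_lit 0x1a149d881871ab0f727d6608a4958f69a00
noncomputable def cc0P (u : ℕ) : ℕ := Nat.land (Nat.shiftRight cc0Pd (Nat.mul u (nat_lit 7))) (nat_lit 127)
noncomputable def cc0Qd : ℕ := nat_lit 0x681c00000a00810020000000048000000a0180000000f00000000000000100007000006000000000018000000000000000808800000260000005824000000
noncomputable def cc0Q (u : ℕ) : ℕ := Nat.land (Nat.shiftRight cc0Qd (Nat.mul u (nat_lit 5))) (nat_lit 31)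
noncomputable def cc0 : H16.Lev := ⟨20, 4, cc0D, cc0P, cc0Q⟩
noncomputable def an3Fd : ℕ := nat_lit 0x2e0602d5982d3b2c00ad01595e736d1f3b36c675e0004dac6c811a3e40996315a1e090260045ca938ef6aa0fb251770240acd949313662600ad2446ac20
noncomputable def an3F (u : ℕ) : ℕ := Nat.land (Nat.shiftRight an3Fd (Nat.mul u (nat_lit 5))) (nat_lit 31)
noncomputable def an3 : Nd := ⟨an3F, (nat_lit 4), (nat_lit 4), [[nat_lit 0]], [((nat_lit 0), [])], []⟩
noncomputable def sub_W : List (List ℕ) := [[nat_lit 2, nat_lit 1, nat_lit 2, nat_lit 3, nat_lit 2, nat_lit 1, nat_lit 2, nat_lit 1, nat_lit 3, nat_lit 2, nat_lit 1, nat_lit 3],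
  [nat_lit 3, nat_lit 0, nat_lit 2, nat_lit 0, nat_lit 2, nat_lit 3, nat_lit 2, nat_lit 0, nat_lit 2, nat_lit 0, nat_lit 3, nat_lit 2],
  [nat_lit 4, nat_lit 0, nat_lit 0, nat_lit 2, nat_lit 0, nat_lit 3, nat_lit 2, nat_lit 0, nat_lit 2, nat_lit 1, nat_lit 4],
  [nat_lit 0, nat_lit 4, nat_lit 2, nat_lit 1, nat_lit 2, nat_lit 1, nat_lit 3, nat_lit 2, nat_lit 1, nat_lit 1, nat_lit 4],
  [nat_lit 2, nat_lit 1, nat_lit 2, nat_lit 0, nat_lit 3, nat_lit 2, nat_lit 0, nat_lit 2, nat_lit 4, nat_lit 2, nat_lit 0, nat_lit 2, nat_lit 3, nat_lit 4, nat_lit 2, nat_lit 1]]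
noncomputable def sub_Z : List ℕ := [nat_lit 2, nat_lit 0, nat_lit 2, nat_lit 4, nat_lit 1, nat_lit 3, nat_lit 4, nat_lit 3, nat_lit 1, nat_lit 4]
noncomputable def q_W : List (List ℕ) := [[nat_lit 0, nat_lit 1, nat_lit 0, nat_lit 2, nat_lit 0],
  [nat_lit 0, nat_lit 2, nat_lit 0, nat_lit 1, nat_lit 0],
  [nat_lit 2, nat_lit 1, nat_lit 0, nat_lit 2, nat_lit 0],
  [nat_lit 2, nat_lit 0, nat_lit 2, nat_lit 1, nat_lit 2],
  [nat_lit 1, nat_lit 2, nat_lit 1, nat_lit 0, nat_lit 2, nat_lit 0]]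
noncomputable def q_V : List (List ℕ) := [[nat_lit 2, nat_lit 0, nat_lit 4, nat_lit 0],
  [nat_lit 2, nat_lit 4],
  [nat_lit 1, nat_lit 2, nat_lit 4, nat_lit 0]]
noncomputable def q_Pd : List ℕ := [nat_lit 0x2354bacdfe896710,
  nat_lit 0x7689ba4523dcef10,
  nat_lit 0x2d3cb4a57869e1f0,
  nat_lit 0x13ecb946758adf20,
  nat_lit 0x23dc7689ba45ef10]
noncomputable def q_P (k u : ℕ) : ℕ := Nat.land (Nat.shiftRight (nth (nat_lit 0) q_Pd k) (Nat.mul u (nat_lit 4))) (nat_lit 15)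
noncomputable def e_W : List (List ℕ) := [[nat_lit 2, nat_lit 0, nat_lit 2, nat_lit 4, nat_lit 1, nat_lit 3, nat_lit 4, nat_lit 3, nat_lit 1, nat_lit 4],
  [nat_lit 4, nat_lit 2, nat_lit 4, nat_lit 3, nat_lit 3],
  [nat_lit 4, nat_lit 3, nat_lit 3, nat_lit 3, nat_lit 4],
  [nat_lit 2, nat_lit 4, nat_lit 2, nat_lit 4],
  [nat_lit 3, nat_lit 3, nat_lit 3]]
noncomputable def e_Pd : List ℕ := [nat_lit 0xc7770cba32b15c896aad87d5acbb750efb89ef2335c17a4b28f357dba4b14c0515d3cea94d1d0407a6343920db08a5d242567e0bf7a48d2d728883754d87336294a0f5c2ca9926984a130746862c108830e3028a1004100,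
  nat_lit 0xc72f0e2a69f05c12adf851035446a2e1d529e0aa1abaf648e2aeca11a098b34aa0ef019b7d9c314a92c046752303285892b4785d994b261b3888b846c7e4395ad628c20a63af270adae0ccab0f828223e0062c37aef2707,
  nat_lit 0xc6a89b61340fdc756ac85595aab3889c8de4469c813ce24b22a8c7d37af96c07f0a1a5396e6ca6f80134a920b30305e0d75789228a40de298d3c820bb2c73b173862f5cc6386c2228a18a74699362af920e52c044cd6600,
  nat_lit 0x93889e0b72aedcbf68ed86634742134a2509ea491b977b1bf8e983518751e3490713c158441b842798c0aea1ab01810d3b567e7327b192251089b9054dacbe98b47941404a98c335d203356b2f045e9a30f142ae722cb00,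
  nat_lit 0xc69f0ca292deb01f690d811588468a7ccb69ef1db5bd8248a2b52998544a0b45c0eece9abd99e1d4264072118dc74fd226570d497c4b12ad388ac9da4e1023366a8c4502e3df2708355b6dc6892d2065700442b27c08087]
noncomputable def e_P (k u : ℕ) : ℕ := Nat.land (Nat.shiftRight (nth (nat_lit 0) e_Pd k) (Nat.mul u (nat_lit 7))) (nat_lit 127)
noncomputable def e_sd : ℕ := nat_lit 0x1c38ffb59ea9851777695e2872df485649690261
noncomputable def e_s (u : ℕ) : ℕ := Nat.land (Nat.shiftRight e_sd (Nat.mul u (nat_lit 5))) (nat_lit 31)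
noncomputable def e_hd : ℕ := nat_lit 0x84a2912e144a44b64a459208
noncomputable def e_h (u : ℕ) : ℕ := Nat.land (Nat.shiftRight e_hd (Nat.mul u (nat_lit 3))) (nat_lit 7)
noncomputable def y_W : List (List ℕ) := [[nat_lit 2],
  [nat_lit 2, nat_lit 3, nat_lit 1, nat_lit 2, nat_lit 1, nat_lit 2, nat_lit 3, nat_lit 2, nat_lit 1, nat_lit 2, nat_lit 0],
  [nat_lit 3, nat_lit 2, nat_lit 1, nat_lit 1, nat_lit 2, nat_lit 3]]
noncomputable def y_P : ℕ → ℕ → ℕ := wdsP H16.J2.P y_W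
noncomputable def qW : List (List ℕ) := [[nat_lit 1, nat_lit 4, nat_lit 3, nat_lit 3, nat_lit 3, nat_lit 4, nat_lit 0]]

theorem md_b : ltAll 100 H16.J2.B = 0 ∧ 604800 ≠ 0 := by decide +kernel
theorem x_lt : H16.allL (ltAll 5) x_W = true := by decide +kernel
theorem ah_lt : H16.allL (ltAll 5) ah_W = true := by decide +kernel
theorem al0_e_0 : allZ (dent al0 ah_P (nat_lit 100)) (nat_lit 0) (nat_lit 99) = true := by decide +kernel
theorem al0_h : 0 < al0.n ∧ 0 < al0.K ∧ al0.Pt 0 < 100 ∧ al0.Q (al0.Pt 0) = 0 := by decide +kernel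
theorem al1_e_0 : allZ (dent al1 ah_P (nat_lit 100)) (nat_lit 0) (nat_lit 35) = true := by decide +kernel
theorem al1_h : 0 < al1.n ∧ 0 < al1.K ∧ al1.Pt 0 < 100 ∧ al1.Q (al1.Pt 0) = 0 := by decide +kernel
theorem al2_e_0 : allZ (dent al2 ah_P (nat_lit 100)) (nat_lit 0) (nat_lit 20) = true := by decide +kernel
theorem al2_h : 0 < al2.n ∧ 0 < al2.K ∧ al2.Pt 0 < 100 ∧ al2.Q (al2.Pt 0) = 0 := by decide +kernel
theorem al3_e_0 : allZ (dent al3 ah_P (nat_lit 100)) (nat_lit 0) (nat_lit 1) = true := by decide +kernel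
theorem al3_h : 0 < al3.n ∧ 0 < al3.K ∧ al3.Pt 0 < 100 ∧ al3.Q (al3.Pt 0) = 0 := by decide +kernel
theorem al4_e_0 : allZ (dent al4 ah_P (nat_lit 100)) (nat_lit 0) (nat_lit 1) = true := by decide +kernel
theorem al4_h : 0 < al4.n ∧ 0 < al4.K ∧ al4.Pt 0 < 100 ∧ al4.Q (al4.Pt 0) = 0 := by decide +kernel
theorem al5_e_0 : allZ (dent al5 ah_P (nat_lit 100)) (nat_lit 0) (nat_lit 1) = true := by decide +kernel
theorem al5_h : 0 < al5.n ∧ 0 < al5.K ∧ al5.Pt 0 < 100 ∧ al5.Q (al5.Pt 0) = 0 := by decide +kernel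
theorem a_f5 : (Nat.ble al5.K 10 && Nat.ble (topK []) al5.K && fixLetters ah_P (topK []) (al5.Pt 0)) = true := by decide +kernel
theorem a_f4 : (Nat.ble al4.K 10 && Nat.ble (topK [al5]) al4.K && fixLetters ah_P (topK [al5]) (al4.Pt 0)) = true := by decide +kernel
theorem a_f3 : (Nat.ble al3.K 10 && Nat.ble (topK [al4, al5]) al3.K && fixLetters ah_P (topK [al4, al5]) (al3.Pt 0)) = true := by decide +kernel
theorem a_f2 : (Nat.ble al2.K 10 && Nat.ble (topK [al3, al4, al5]) al2.K && fixLetters ah_P (topK [al3, al4, al5]) (al2.Pt 0)) = true := by decide +kernel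
theorem a_f1 : (Nat.ble al1.K 10 && Nat.ble (topK [al2, al3, al4, al5]) al1.K && fixLetters ah_P (topK [al2, al3, al4, al5]) (al1.Pt 0)) = true := by decide +kernel
theorem a_f0 : (Nat.ble al0.K 10 && Nat.ble (topK [al1, al2, al3, al4, al5]) al0.K && fixLetters ah_P (topK [al1, al2, al3, al4, al5]) (al0.Pt 0)) = true := by decide +kernel
theorem a_c : chainCard [al0, al1, al2, al3, al4, al5] = 604800 := by decide +kernel
theorem ce_lt : H16.allL (ltAll 5) ce_W = true := by decide +kernel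
theorem c_f5 : (Nat.ble al5.K 10 && Nat.blt (nat_lit 1) 100 && fixLetters ah_P al5.K (nat_lit 1) && Nat.beq (ltAll 1 [nat_lit 0]) 0 && Nat.beq (apW x_P [nat_lit 0] (nat_lit 1)) (al5.Pt 0)) = true := by decide +kernel
theorem cc4_e_0 : allZ (dent cc4 ce_P (nat_lit 100)) (nat_lit 0) (nat_lit 1) = true := by decide +kernel
theorem cc4_h : 0 < cc4.n ∧ 0 < cc4.K ∧ cc4.Pt 0 < 100 ∧ cc4.Q (cc4.Pt 0) = 0 := by decide +kernel
theorem an0_0 : (Nat.ble al4.K 10 && Nat.beq (ltAll 100 [al3.Pt 0, al2.Pt 0, al1.Pt 0, al0.Pt 0]) 0 && kChk ce_P x_P an0.Kn 1 H16.J2.B [al3.Pt 0, al2.Pt 0, al1.Pt 0, al0.Pt 0] && H16.allL (ltAll 1) an0.pre && planOK ah_P x_P 1 (al4.Pt 0) an0.plan [al4, al5]) = true := by decide +kernel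
theorem an0_1_0 : allZ (an0.ent H16.J2.P ah_P x_P x_P ce_P (nat_lit 5) (nat_lit 1) H16.J2.B al4 [al5] (memO cc4)) (nat_lit 0) (nat_lit 2) = true := by decide +kernel
theorem c_f4 : (Nat.ble cc4.K 4 && Nat.ble (topK []) cc4.K && Nat.beq (cc4.Pt 0) (al4.Pt 0) && Nat.beq (ltAll 100 [al3.Pt 0, al2.Pt 0, al1.Pt 0, al0.Pt 0]) 0 && kChk ce_P x_P cc4.K 1 H16.J2.B [al3.Pt 0, al2.Pt 0, al1.Pt 0, al0.Pt 0]) = true := by decide +kernel
theorem cc3_e_0 : allZ (dent cc3 ce_P (nat_lit 100)) (nat_lit 0) (nat_lit 1) = true := by decide +kernel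
theorem cc3_h : 0 < cc3.n ∧ 0 < cc3.K ∧ cc3.Pt 0 < 100 ∧ cc3.Q (cc3.Pt 0) = 0 := by decide +kernel
theorem an1_0 : (Nat.ble al3.K 10 && Nat.beq (ltAll 100 [al2.Pt 0, al1.Pt 0, al0.Pt 0]) 0 && kChk ce_P x_P an1.Kn 1 H16.J2.B [al2.Pt 0, al1.Pt 0, al0.Pt 0] && H16.allL (ltAll 1) an1.pre && planOK ah_P x_P 1 (al3.Pt 0) an1.plan [al3, al4, al5]) = true := by decide +kernel
theorem an1_1_0 : allZ (an1.ent H16.J2.P ah_P x_P x_P ce_P (nat_lit 5) (nat_lit 1) H16.J2.B al3 [al4, al5] (memO cc3)) (nat_lit 0) (nat_lit 2) = true := by decide +kernel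
theorem c_f3 : (Nat.ble cc3.K 4 && Nat.ble (topK [cc4]) cc3.K && Nat.beq (cc3.Pt 0) (al3.Pt 0) && Nat.beq (ltAll 100 [al2.Pt 0, al1.Pt 0, al0.Pt 0]) 0 && kChk ce_P x_P cc3.K 1 H16.J2.B [al2.Pt 0, al1.Pt 0, al0.Pt 0]) = true := by decide +kernel
theorem c_f2 : (Nat.ble al2.K 10 && Nat.blt (nat_lit 16) 100 && fixLetters ah_P al2.K (nat_lit 16) && Nat.beq (ltAll 1 [nat_lit 0]) 0 && Nat.beq (apW x_P [nat_lit 0] (nat_lit 16)) (al2.Pt 0)) = true := by decide +kernel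
theorem cc1_e_0 : allZ (dent cc1 ce_P (nat_lit 100)) (nat_lit 0) (nat_lit 23) = true := by decide +kernel
theorem cc1_h : 0 < cc1.n ∧ 0 < cc1.K ∧ cc1.Pt 0 < 100 ∧ cc1.Q (cc1.Pt 0) = 0 := by decide +kernel
theorem an2_0 : (Nat.ble al1.K 10 && Nat.beq (ltAll 100 [al0.Pt 0]) 0 && kChk ce_P x_P an2.Kn 1 H16.J2.B [al0.Pt 0] && H16.allL (ltAll 1) an2.pre && planOK ah_P x_P 1 (al1.Pt 0) an2.plan [al1, al2, al3, al4, al5]) = true := by decide +kernel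
theorem an2_1_0 : allZ (an2.ent H16.J2.P ah_P x_P x_P ce_P (nat_lit 5) (nat_lit 1) H16.J2.B al1 [al2, al3, al4, al5] (memO cc1)) (nat_lit 0) (nat_lit 36) = true := by decide +kernel
theorem c_f1 : (Nat.ble cc1.K 4 && Nat.ble (topK [cc3, cc4]) cc1.K && Nat.beq (cc1.Pt 0) (al1.Pt 0) && Nat.beq (ltAll 100 [al0.Pt 0]) 0 && kChk ce_P x_P cc1.K 1 H16.J2.B [al0.Pt 0]) = true := by decide +kernel
theorem cc0_e_0 : allZ (dent cc0 ce_P (nat_lit 100)) (nat_lit 0) (nat_lit 19) = true := by decide +kernel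
theorem cc0_h : 0 < cc0.n ∧ 0 < cc0.K ∧ cc0.Pt 0 < 100 ∧ cc0.Q (cc0.Pt 0) = 0 := by decide +kernel
theorem an3_0 : (Nat.ble al0.K 10 && Nat.beq (ltAll 100 []) 0 && kChk ce_P x_P an3.Kn 1 H16.J2.B [] && H16.allL (ltAll 1) an3.pre && planOK ah_P x_P 1 (al0.Pt 0) an3.plan [al0, al1, al2, al3, al4, al5]) = true := by decide +kernel
theorem an3_1_0 : allZ (an3.ent H16.J2.P ah_P x_P x_P ce_P (nat_lit 5) (nat_lit 1) H16.J2.B al0 [al1, al2, al3, al4, al5] (memO cc0)) (nat_lit 0) (nat_lit 100) = true := by decide +kernel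
theorem c_f0 : (Nat.ble cc0.K 4 && Nat.ble (topK [cc1, cc3, cc4]) cc0.K && Nat.beq (cc0.Pt 0) (al0.Pt 0) && Nat.beq (ltAll 100 []) 0 && kChk ce_P x_P cc0.K 1 H16.J2.B []) = true := by decide +kernel
theorem c_c : chainCard [cc0, cc1, cc3, cc4] = 1920 ∧ topK [cc0, cc1, cc3, cc4] = 4 := by decide +kernel
theorem sub_lt : H16.allL (ltAll 5) sub_W = true := by decide +kernel
theorem sub_m_a : allZ2 (matEnt (wdsP H16.J2.P sub_W) H15.XJ2I.P) (nat_lit 5) (nat_lit 100) = true := by decide +kernel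
theorem sub_r : H16.allL (fixL H15.XJ2I.P 5 H16.J2.B) H15.XJ2I.Rl = true := by decide +kernel
theorem sub_rc : H16.allL (fixL H15.XJ2I.P 5 H15.XJ2I.B) H15.XJ2I.Rl = true := by decide +kernel
theorem sub_z : Nat.add (ltAll 5 [nat_lit 2, nat_lit 0, nat_lit 2, nat_lit 4, nat_lit 1, nat_lit 3, nat_lit 4, nat_lit 3, nat_lit 1, nat_lit 4]) (sumL (fun β => Nat.xor (x_P 0 β) (apW H15.XJ2I.P [nat_lit 2, nat_lit 0, nat_lit 2, nat_lit 4, nat_lit 1, nat_lit 3, nat_lit 4, nat_lit 3, nat_lit 1, nat_lit 4] β)) H16.J2.B) = 0 := by decide +kernel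
theorem sub_c : H15.CS.comL H15.XJ2I.P 5 H16.J2.B sub_Z = true := by decide +kernel
theorem sub_cc : H15.CS.comL H15.XJ2I.P 5 H15.XJ2I.B sub_Z = true ∧ ltAll 5 sub_Z = 0 := by decide +kernel
theorem sub_e : topK H15.XJ2I.L = 5 ∧ chainCard H15.XJ2I.L = 1920 ∧ chainBase H15.XJ2I.L = H15.XJ2I.B ∧ ltAll 100 H15.XJ2I.B = 0 := by decide +kernel
theorem q_lt : H16.allL (ltAll 3) q_W = true := by decide +kernel
theorem q_m_a : allZ2 (matEnt (wdsP H15.XW4m.P q_W) q_P) (nat_lit 5) (nat_lit 16) = true := by decide +kernel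
theorem q_r : H16.allL (fixL q_P 5 H15.XW4m.B) H15.XJ2I.Rl = true := by decide +kernel
theorem q_g : allZ (fun k => Nat.add (ltAll 5 (nth [] q_V k))
    (sumL (fun β => Nat.xor (H15.XW4m.P k β) (apW q_P (nth [] q_V k) β)) H15.XW4m.B)) 0 3 = true := by decide +kernel
theorem e_lt : H16.allL (ltAll 5) e_W = true := by decide +kernel
theorem e_m_a : allZ2 (matEnt (wdsP H15.XJ2I.P e_W) e_P) (nat_lit 5) (nat_lit 100) = true := by decide +kernel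
theorem e_e1_0 : allZ (H15.CS.incEnt e_P (nat_lit 100) (nat_lit 5) H15.XJ2I.B e_s) (nat_lit 0) (nat_lit 31) = true := by decide +kernel
theorem e_e2_0 : allZ (H15.CS.esEnt e_P (nat_lit 100) (nat_lit 5) H15.XJ2I.B e_s e_h) (nat_lit 0) (nat_lit 32) = true := by decide +kernel
theorem e_e3 : H15.CS.bw 5 0 = [] ∧ H15.CS.bw 5 1 = [0] ∧ eqL e_P 5 H15.XJ2I.B [0, 0] [] = 0 ∧
    (ltAll 5 [0] = 0 ∧ ltAll 5 [] = 0 ∧ H15.CS.key e_P 100 H15.XJ2I.B [0] ≠ H15.CS.key e_P 100 H15.XJ2I.B []) ∧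
    ltAll 5 [1, 4] = 0 ∧ ltAll 5 [4, 1] = 0 ∧ H15.CS.key e_P 100 H15.XJ2I.B [1, 4] ≠ H15.CS.key e_P 100 H15.XJ2I.B [4, 1] := by decide +kernel
theorem e_z : Nat.add (ltAll 5 [nat_lit 2, nat_lit 0, nat_lit 2, nat_lit 4, nat_lit 1, nat_lit 3, nat_lit 4, nat_lit 3, nat_lit 1, nat_lit 4]) (sumL (fun β => Nat.xor (e_P 0 β) (apW H15.XJ2I.P [nat_lit 2, nat_lit 0, nat_lit 2, nat_lit 4, nat_lit 1, nat_lit 3, nat_lit 4, nat_lit 3, nat_lit 1, nat_lit 4] β)) H15.XJ2I.B) = 0 := by decide +kernel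
theorem e_k : allZ (fun j => Nat.add (ltAll 5 (nth [] e_W j))
    (fixL q_P 5 H15.XW4m.B (nth [] e_W j))) 0 5 = true := by decide +kernel
theorem y_lt : H16.allL (ltAll 5) y_W = true := by decide +kernel
theorem y_e : eqL y_P 3 H16.J2.B [0, 1] [1, 2] = 0 ∧ (ltAll 3 [0] = 0 ∧ ltAll 1 [0] = 0 ∧ sumL (fun β => Nat.xor (apW y_P [0] β) (apW x_P [0] β)) H16.J2.B = 0) ∧
    (ltAll 3 [2] = 0 ∧ ltAll 5 (nth [] qW 0) = 0 ∧ sumL (fun β => Nat.xor (apW y_P [2] β) (apW H15.XJ2I.P (nth [] qW 0) β)) H16.J2.B = 0) := by decide +kernel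
theorem q_k : allZ (fun j => Nat.add (ltAll 5 (nth [] qW j))
    (fixL q_P 5 H15.XW4m.B (nth [] qW j))) 0 1 = true := by decide +kernel
theorem ne : (ltAll 5 (nth [] qW 0) = 0 ∧ ltAll 5 (sub_Z) = 0 ∧ H15.CS.key H15.XJ2I.P 100 H15.XJ2I.B (nth [] qW 0) ≠ H15.CS.key H15.XJ2I.P 100 H15.XJ2I.B (sub_Z)) ∧
    (ltAll 5 (nth [] e_W 1 ++ [0]) = 0 ∧ ltAll 5 (0 :: nth [] e_W 1) = 0 ∧ H15.CS.key H15.XJ2I.P 100 H15.XJ2I.B (nth [] e_W 1 ++ [0]) ≠ H15.CS.key H15.XJ2I.P 100 H15.XJ2I.B (0 :: nth [] e_W 1)) ∧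
    (ltAll 5 (nth [] e_W 1 ++ [0]) = 0 ∧ ltAll 5 (0 :: nth [] e_W 1 ++ sub_Z) = 0 ∧ H15.CS.key H15.XJ2I.P 100 H15.XJ2I.B (nth [] e_W 1 ++ [0]) ≠ H15.CS.key H15.XJ2I.P 100 H15.XJ2I.B (0 :: nth [] e_W 1 ++ sub_Z)) := by decide +kernel

theorem md {G : Type*} [Group G] (e : gen H16.J2.g 5 ≃* G) :
    ∃ (_ : MulAction G (Fin 100)) (g : ℕ → G), Md g (ptF 100) H16.J2.P 100 5 H16.J2.B 604800 ∧
      ∀ k < 5, (e.symm (g k)).1 = H16.J2.g k :=
  exists_md H16.J2.act (ptF_inj 100) H16.J2.card H16.J2.isBase md_b e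
theorem x_act {G Ω : Type*} [Group G] [MulAction G Ω] {g : ℕ → G} {pt : ℕ → Ω}
    (M : Md g pt H16.J2.P 100 5 H16.J2.B 604800) : Act (wds g x_W) pt x_P 100 1 :=
  M.wact x_lt
theorem ah_act {G Ω : Type*} [Group G] [MulAction G Ω] {g : ℕ → G} {pt : ℕ → Ω}
    (M : Md g pt H16.J2.P 100 5 H16.J2.B 604800) : Act (wds g ah_W) pt ah_P 100 10 :=
  M.wact ah_lt
theorem al0_e : ∀ i < 99, (dent al0 ah_P (nat_lit 100)) i = 0 := allZ_sound0 al0_e_0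
theorem al0_ok : DOK al0 ah_P 100 := ⟨al0_h, al0_e⟩
theorem al1_e : ∀ i < 35, (dent al1 ah_P (nat_lit 100)) i = 0 := allZ_sound0 al1_e_0
theorem al1_ok : DOK al1 ah_P 100 := ⟨al1_h, al1_e⟩
theorem al2_e : ∀ i < 20, (dent al2 ah_P (nat_lit 100)) i = 0 := allZ_sound0 al2_e_0
theorem al2_ok : DOK al2 ah_P 100 := ⟨al2_h, al2_e⟩
theorem al3_e : ∀ i < 1, (dent al3 ah_P (nat_lit 100)) i = 0 := allZ_sound0 al3_e_0
theorem al3_ok : DOK al3 ah_P 100 := ⟨al3_h, al3_e⟩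
theorem al4_e : ∀ i < 1, (dent al4 ah_P (nat_lit 100)) i = 0 := allZ_sound0 al4_e_0
theorem al4_ok : DOK al4 ah_P 100 := ⟨al4_h, al4_e⟩
theorem al5_e : ∀ i < 1, (dent al5 ah_P (nat_lit 100)) i = 0 := allZ_sound0 al5_e_0
theorem al5_ok : DOK al5 ah_P 100 := ⟨al5_h, al5_e⟩
theorem a_low {G Ω : Type*} [Group G] [MulAction G Ω] {g : ℕ → G} {pt : ℕ → Ω}
    (M : Md g pt H16.J2.P 100 5 H16.J2.B 604800) : SLow (gi (wds g ah_W)) pt 100 [al0, al1, al2, al3, al4, al5] :=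
  ((((((SLow.nil).cons al5_ok (ah_act M) a_f5).cons al4_ok (ah_act M) a_f4).cons al3_ok (ah_act M) a_f3).cons al2_ok (ah_act M) a_f2).cons al1_ok (ah_act M) a_f1).cons al0_ok (ah_act M) a_f0
theorem a_S0 {G Ω : Type*} [Group G] [MulAction G Ω] {g : ℕ → G} {pt : ℕ → Ω}
    (M : Md g pt H16.J2.P 100 5 H16.J2.B 604800) : Stage ⊤ (wds g ah_W) pt 100 [al0, al1, al2, al3, al4, al5] [] :=
  M.stage (a_low M) a_c
theorem a_S1 {G Ω : Type*} [Group G] [MulAction G Ω] {g : ℕ → G} {pt : ℕ → Ω}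
    (M : Md g pt H16.J2.P 100 5 H16.J2.B 604800) : Stage ⊤ (wds g ah_W) pt 100 [al1, al2, al3, al4, al5] [al0.Pt 0] :=
  (a_S0 M).next
theorem a_S2 {G Ω : Type*} [Group G] [MulAction G Ω] {g : ℕ → G} {pt : ℕ → Ω}
    (M : Md g pt H16.J2.P 100 5 H16.J2.B 604800) : Stage ⊤ (wds g ah_W) pt 100 [al2, al3, al4, al5] [al1.Pt 0, al0.Pt 0] :=
  (a_S1 M).next
theorem a_S3 {G Ω : Type*} [Group G] [MulAction G Ω] {g : ℕ → G} {pt : ℕ → Ω}
    (M : Md g pt H16.J2.P 100 5 H16.J2.B 604800) : Stage ⊤ (wds g ah_W) pt 100 [al3, al4, al5] [al2.Pt 0, al1.Pt 0, al0.Pt 0] :=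
  (a_S2 M).next
theorem a_S4 {G Ω : Type*} [Group G] [MulAction G Ω] {g : ℕ → G} {pt : ℕ → Ω}
    (M : Md g pt H16.J2.P 100 5 H16.J2.B 604800) : Stage ⊤ (wds g ah_W) pt 100 [al4, al5] [al3.Pt 0, al2.Pt 0, al1.Pt 0, al0.Pt 0] :=
  (a_S3 M).next
theorem a_S5 {G Ω : Type*} [Group G] [MulAction G Ω] {g : ℕ → G} {pt : ℕ → Ω}
    (M : Md g pt H16.J2.P 100 5 H16.J2.B 604800) : Stage ⊤ (wds g ah_W) pt 100 [al5] [al4.Pt 0, al3.Pt 0, al2.Pt 0, al1.Pt 0, al0.Pt 0] :=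
  (a_S4 M).next
theorem a_S6 {G Ω : Type*} [Group G] [MulAction G Ω] {g : ℕ → G} {pt : ℕ → Ω}
    (M : Md g pt H16.J2.P 100 5 H16.J2.B 604800) : Stage ⊤ (wds g ah_W) pt 100 [] [al5.Pt 0, al4.Pt 0, al3.Pt 0, al2.Pt 0, al1.Pt 0, al0.Pt 0] :=
  (a_S5 M).next
theorem ce_act {G Ω : Type*} [Group G] [MulAction G Ω] {g : ℕ → G} {pt : ℕ → Ω}
    (M : Md g pt H16.J2.P 100 5 H16.J2.B 604800) : Act (wds g ce_W) pt ce_P 100 4 :=
  M.wact ce_lt
theorem cc4_e : ∀ i < 1, (dent cc4 ce_P (nat_lit 100)) i = 0 := allZ_sound0 cc4_e_0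
theorem cc4_ok : DOK cc4 ce_P 100 := ⟨cc4_h, cc4_e⟩
theorem an0_1 : ∀ i < 2, (an0.ent H16.J2.P ah_P x_P x_P ce_P (nat_lit 5) (nat_lit 1) H16.J2.B al4 [al5] (memO cc4)) i = 0 := allZ_sound0 an0_1_0
theorem an0_t {G Ω : Type*} [Group G] [MulAction G Ω] {g : ℕ → G} {pt : ℕ → Ω}
    (M : Md g pt H16.J2.P 100 5 H16.J2.B 604800) : TrO (gen (wds g ah_W) al4.K) (wds g x_W) (wds g x_W) 1 pt 100 (al4.Pt 0) (memO cc4) :=
  node M (a_S4 M) (ah_act M) (x_act M) (x_act M) an0 ((ce_act M).mono (by decide)) (fun _ _ => trivial) an0_0 an0_1 (List.forall_mem_nil _)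
theorem cc3_e : ∀ i < 1, (dent cc3 ce_P (nat_lit 100)) i = 0 := allZ_sound0 cc3_e_0
theorem cc3_ok : DOK cc3 ce_P 100 := ⟨cc3_h, cc3_e⟩
theorem an1_1 : ∀ i < 2, (an1.ent H16.J2.P ah_P x_P x_P ce_P (nat_lit 5) (nat_lit 1) H16.J2.B al3 [al4, al5] (memO cc3)) i = 0 := allZ_sound0 an1_1_0
theorem an1_t {G Ω : Type*} [Group G] [MulAction G Ω] {g : ℕ → G} {pt : ℕ → Ω}
    (M : Md g pt H16.J2.P 100 5 H16.J2.B 604800) : TrO (gen (wds g ah_W) al3.K) (wds g x_W) (wds g x_W) 1 pt 100 (al3.Pt 0) (memO cc3) :=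
  node M (a_S3 M) (ah_act M) (x_act M) (x_act M) an1 ((ce_act M).mono (by decide)) (fun _ _ => trivial) an1_0 an1_1 (List.forall_mem_nil _)
theorem cc1_e : ∀ i < 23, (dent cc1 ce_P (nat_lit 100)) i = 0 := allZ_sound0 cc1_e_0
theorem cc1_ok : DOK cc1 ce_P 100 := ⟨cc1_h, cc1_e⟩
theorem an2_1 : ∀ i < 36, (an2.ent H16.J2.P ah_P x_P x_P ce_P (nat_lit 5) (nat_lit 1) H16.J2.B al1 [al2, al3, al4, al5] (memO cc1)) i = 0 := allZ_sound0 an2_1_0
theorem an2_t {G Ω : Type*} [Group G] [MulAction G Ω] {g : ℕ → G} {pt : ℕ → Ω}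
    (M : Md g pt H16.J2.P 100 5 H16.J2.B 604800) : TrO (gen (wds g ah_W) al1.K) (wds g x_W) (wds g x_W) 1 pt 100 (al1.Pt 0) (memO cc1) :=
  node M (a_S1 M) (ah_act M) (x_act M) (x_act M) an2 ((ce_act M).mono (by decide)) (fun _ _ => trivial) an2_0 an2_1 (List.forall_mem_nil _)
theorem cc0_e : ∀ i < 19, (dent cc0 ce_P (nat_lit 100)) i = 0 := allZ_sound0 cc0_e_0
theorem cc0_ok : DOK cc0 ce_P 100 := ⟨cc0_h, cc0_e⟩
theorem an3_1 : ∀ i < 100, (an3.ent H16.J2.P ah_P x_P x_P ce_P (nat_lit 5) (nat_lit 1) H16.J2.B al0 [al1, al2, al3, al4, al5] (memO cc0)) i = 0 := allZ_sound0 an3_1_0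
theorem an3_t {G Ω : Type*} [Group G] [MulAction G Ω] {g : ℕ → G} {pt : ℕ → Ω}
    (M : Md g pt H16.J2.P 100 5 H16.J2.B 604800) : TrO (gen (wds g ah_W) al0.K) (wds g x_W) (wds g x_W) 1 pt 100 (al0.Pt 0) (memO cc0) :=
  node M (a_S0 M) (ah_act M) (x_act M) (x_act M) an3 ((ce_act M).mono (by decide)) (fun _ _ => trivial) an3_0 an3_1 (List.forall_mem_nil _)
theorem c {G Ω : Type*} [Group G] [MulAction G Ω] {g : ℕ → G} {pt : ℕ → Ω}
    (M : Md g pt H16.J2.P 100 5 H16.J2.B 604800) : Cen ⊤ (wds g x_W) 1 (wds g ce_W) pt 100 [cc0, cc1, cc3, cc4] :=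
  (a_S0 M).top ▸ Cen.lev M (a_S0 M) (Cen.lev M (a_S1 M) (Cen.triv (a_S2 M) (Cen.lev M (a_S3 M) (Cen.lev M (a_S4 M) (Cen.triv (a_S5 M) (Cen.bot) (forced (a_S5 M) (ah_act M) (x_act M) _ _ c_f5)) (an0_t M) (x_act M) (ce_act M) (fun _ _ => trivial) cc4_ok c_f4) (an1_t M) (x_act M) (ce_act M) (fun _ _ => trivial) cc3_ok c_f3) (forced (a_S2 M) (ah_act M) (x_act M) _ _ c_f2)) (an2_t M) (x_act M) (ce_act M) (fun _ _ => trivial) cc1_ok c_f1) (an3_t M) (x_act M) (ce_act M) (fun _ _ => trivial) cc0_ok c_f0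
theorem c_card {G Ω : Type*} [Group G] [MulAction G Ω] {g : ℕ → G} {pt : ℕ → Ω}
    (M : Md g pt H16.J2.P 100 5 H16.J2.B 604800) : Nat.card (Subgroup.centralizer {(wds g x_W) 0}) = 1920 :=
  (c M).card_cent1 M.inj c_c.1
theorem c_eq {G Ω : Type*} [Group G] [MulAction G Ω] {g : ℕ → G} {pt : ℕ → Ω}
    (M : Md g pt H16.J2.P 100 5 H16.J2.B 604800) : Subgroup.centralizer (gen (wds g x_W) 1) = gen (wds g ce_W) 4 ∧ Nat.card (gen (wds g ce_W) 4) = 1920 :=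
  c_c.1 ▸ c_c.2 ▸ ⟨(c M).cent, (c M).card M.inj⟩
theorem sub_m : ∀ k < 5, ∀ i < 100, (matEnt (wdsP H16.J2.P sub_W) H15.XJ2I.P) k i = 0 := allZ2_sound sub_m_a
theorem sub_act {G Ω : Type*} [Group G] [MulAction G Ω] {g : ℕ → G} {pt : ℕ → Ω}
    (M : Md g pt H16.J2.P 100 5 H16.J2.B 604800) : Act (wds g sub_W) pt H15.XJ2I.P 100 5 :=
  act_mat (M.wact sub_lt) sub_m
theorem sub {G Ω : Type*} [Group G] [MulAction G Ω] {g : ℕ → G} {pt : ℕ → Ω}
    (M : Md g pt H16.J2.P 100 5 H16.J2.B 604800) : ∃ (_ : MulAction (Subgroup.centralizer {(wds g x_W) 0}) Ω) (h : ℕ → Subgroup.centralizer {(wds g x_W) 0}),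
      Md h pt H15.XJ2I.P 100 5 H15.XJ2I.B 1920 ∧ (∀ k < 5, (h k : G) = (wds g sub_W) k) ∧ ((evA h sub_Z : Subgroup.centralizer {(wds g x_W) 0}) : G) = (wds g x_W) 0 :=
  by
    have e := (M.eqw (sub_act M) (x_act M) Nat.one_pos sub_z).1
    obtain ⟨i, h, h1, h2⟩ := H15.CS.sub_md M (sub_act M) (H := Subgroup.centralizer {(wds g x_W) 0})
      (e ▸ H15.CS.gen_le_cent M (sub_act M) sub_c) (c_card M)
      (H15.XJ2I.chain_of (sub_act M) (H15.CS.rels M (sub_act M) sub_r)) sub_e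
    exact ⟨i, h, h1, h2, (H15.CS.coe_evA h2 sub_cc.2).trans e.symm⟩
theorem q_m : ∀ k < 5, ∀ i < 16, (matEnt (wdsP H15.XW4m.P q_W) q_P) k i = 0 := allZ2_sound q_m_a
theorem q_act {G Ω : Type*} [Group G] [MulAction G Ω] {g : ℕ → G} {pt : ℕ → Ω}
    (M : Md g pt H15.XW4m.P 16 3 H15.XW4m.B 60) : Act (wds g q_W) pt q_P 16 5 :=
  act_mat (M.wact q_lt) q_m
theorem q {G Ω : Type*} [Group G] [MulAction G Ω] {g : ℕ → G} {pt : ℕ → Ω}
    (M : Md g pt H15.XJ2I.P 100 5 H15.XJ2I.B 1920) {T Ω' : Type*} [Group T] [MulAction T Ω'] {t : ℕ → T} {pt' : ℕ → Ω'}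
    (Mt : Md t pt' H15.XW4m.P 16 3 H15.XW4m.B 60) :
    ∃ f : G →* T, Function.Surjective f ∧ ∀ W, ltAll 5 W = 0 → f (evA g W) = evA (wds t q_W) W :=
  H15.CS.quot M H15.XJ2I.bound sub_rc Mt (q_act Mt) q_r q_g
theorem e_m : ∀ k < 5, ∀ i < 100, (matEnt (wdsP H15.XJ2I.P e_W) e_P) k i = 0 := allZ2_sound e_m_a
theorem e_act {G Ω : Type*} [Group G] [MulAction G Ω] {g : ℕ → G} {pt : ℕ → Ω}
    (M : Md g pt H15.XJ2I.P 100 5 H15.XJ2I.B 1920) : Act (wds g e_W) pt e_P 100 5 :=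
  act_mat (M.wact e_lt) e_m
theorem e_e1 : ∀ i < 31, (H15.CS.incEnt e_P (nat_lit 100) (nat_lit 5) H15.XJ2I.B e_s) i = 0 := allZ_sound0 e_e1_0
theorem e_e2 : ∀ i < 32, (H15.CS.esEnt e_P (nat_lit 100) (nat_lit 5) H15.XJ2I.B e_s e_h) i = 0 := allZ_sound0 e_e2_0
theorem e_0 {G Ω : Type*} [Group G] [MulAction G Ω] {g : ℕ → G} {pt : ℕ → Ω}
    (M : Md g pt H15.XJ2I.P 100 5 H15.XJ2I.B 1920) : (wds g e_W) 0 = evA g sub_Z :=
  (M.eqw M.act (e_act M) (by decide) e_z).1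
theorem e_es {G Ω : Type*} [Group G] [MulAction G Ω] {g : ℕ → G} {pt : ℕ → Ω}
    (M : Md g pt H15.XJ2I.P 100 5 H15.XJ2I.B 1920) {Q : Subgroup G} (hc : Nat.card Q = 31 + 1) (hQ : ∀ j < 5, (wds g e_W) j ∈ Q) : H0.ES Q (evA g sub_Z) :=
  e_0 M ▸ H15.CS.es_of M (e_act M) hc hQ (fun x => e_0 M ▸ H15.CS.central M sub_cc.1 x)
    e_e1 e_e2 e_e3
theorem y_act {G Ω : Type*} [Group G] [MulAction G Ω] {g : ℕ → G} {pt : ℕ → Ω}
    (M : Md g pt H16.J2.P 100 5 H16.J2.B 604800) : Act (wds g y_W) pt y_P 100 3 :=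
  M.wact y_lt
theorem hyp {G Ω : Type*} [Group G] [MulAction G Ω] {g : ℕ → G} {pt : ℕ → Ω}
    (M : Md g pt H16.J2.P 100 5 H16.J2.B 604800) : ¬ IsMulCommutative G ∧ ∃ z : G, orderOf z = 2 ∧ ∃ (Q : Subgroup (Subgroup.centralizer ({z} : Set G))) (_ : Q.Normal),
      Cfsg.generalizedFittingSubgroup (Subgroup.centralizer ({z} : Set G)) = Q ∧ Cfsg.IsExtraspecial 2 Q ∧ Nat.card Q = 2 ^ 5 ∧
      Nonempty ((Subgroup.centralizer ({z} : Set G)) ⧸ Q ≃* Cfsg.Omega (ZMod 2) (Cfsg.quadFormMinus 1 (ZMod 2) 1 1)) ∧ ∃ g : G, (∃ hq : g * z * g⁻¹ ∈ Subgroup.centralizer ({z} : Set G),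
        (⟨g * z * g⁻¹, hq⟩ : Subgroup.centralizer ({z} : Set G)) ∈ Q) ∧ g * z * g⁻¹ ≠ z := by
  have := M.fin
  obtain ⟨_, h, C, e, hz⟩ := sub M
  obtain ⟨_, t, T, -⟩ := H15.XW4m.md
  have : IsSimpleGroup (commutator (Cfsg.isometryGroup (ZMod 2) (Cfsg.quadFormMinus 1 (ZMod 2) 1 1))) := H15.XW4m.simple
  obtain ⟨f, hf, hw⟩ := q C T
  have c := H15.CS.card_ker f hf (b := 32) C.card T.card (by decide)
  have k := H15.CS.ker_wds T (q_act T) hw e_k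
  have es := e_es C c k
  have n1 := H15.CS.ne_of_key C C.act ne.2.1
  have n2 := H15.CS.ne_of_key C C.act ne.2.2
  simp only [evA_append, evA_cons, evA_nil, one_mul, ← mul_assoc, List.cons_append] at n1 n2
  have e1 : wds g y_W 1 * wds g x_W 0 * (wds g y_W 1)⁻¹ = (evA h (nth [] qW 0) :) := by
    have a1 := M.eq_of (y_act M) y_e.1
    have a2 := H15.H2.eq2 M (y_act M) (x_act M) y_e.2.1
    have a3 := H15.H2.eq2 M (y_act M) (sub_act M) y_e.2.2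
    simp only [evA_cons, evA_nil, one_mul] at a1 a2 a3
    rw [H15.CS.coe_evA e y_e.2.2.2.1, ← a2, a1, mul_inv_cancel_right, a3]
  refine ⟨fun hc => n1 (Subtype.ext (hc.is_comm.comm _ _)), _, orderOf_eq_prime
    (by rw [sq, ← hz]; exact congrArg Subtype.val es.zz) fun e => es.z1 (Subtype.ext (hz.trans e)), f.ker,
    inferInstance, H15.CS.gf_eq f hf es (H15.CS.not_pgroup T.card 3 (by decide)) (k 1 (by decide)) n1
    (mul_assoc (evA h sub_Z) _ _ ▸ n2), es.extraspecial, c, ⟨QuotientGroup.quotientKerEquivOfSurjective f hf⟩,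
    wds g y_W 1, ⟨e1 ▸ (evA h _).2, ?_⟩,
    fun e => H15.CS.ne_of_key C C.act ne.1 (Subtype.ext (e1.symm.trans (e.trans hz.symm)))⟩
  convert H15.CS.ker_wds T (q_act T) hw q_k 0 Nat.one_pos using 1
  exact Subtype.ext e1

end H15.XTJ2I
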