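import Cfsg.Agent.H15.T.Sec5.C0
import Cfsg.Agent.H15.T.Sec5.C1

/-! Generated by tools/h0/tr.py. -/

set_option maxRecDepth 100000
set_option maxHeartbeats 0

namespace H15.XSec5
open H16 H0.TR
open scoped Pointwise

theorem ml : H15.ML h C 11 := H15.ml_of mlc
theorem o0b25 : H15.Bd (evA h [5]) o0F25 1 := H15.Bd.fin o0f
theorem o0b24 : H15.Bd (evA h [5]) o0F24 1 := H15.Bd.lev (c := 1) o0b25 o0e24 o0s24
theorem o0b23 : H15.Bd (evA h [5]) o0F23 1 := H15.Bd.lev (c := 1) o0b24 o0e23 o0s23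
theorem o0b22 : H15.Bd (evA h [5]) o0F22 1 := H15.Bd.lev (c := 1) o0b23 o0e22 o0s22
theorem o0b21 : H15.Bd (evA h [5]) o0F21 1 := H15.Bd.lev (c := 1) o0b22 o0e21 o0s21
theorem o0b20 : H15.Bd (evA h [5]) o0F20 1 := H15.Bd.lev (c := 1) o0b21 o0e20 o0s20
theorem o0b19 : H15.Bd (evA h [5]) o0F19 1 := H15.Bd.lev (c := 1) o0b20 o0e19 o0s19
theorem o0b18 : H15.Bd (evA h [5]) o0F18 1 := o0b19.ext ml o0e18
theorem o0b17 : H15.Bd (evA h [5]) o0F17 1 := o0b18.ext ml o0e17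
theorem o0b16 : H15.Bd (evA h [5]) o0F16 1 := o0b17.ext ml o0e16
theorem o0b15 : H15.Bd (evA h [5]) o0F15 1 := H15.Bd.lev (c := 1) o0b16 o0e15 o0s15
theorem o0b14 : H15.Bd (evA h [5]) o0F14 1 := o0b15.ext ml o0e14
theorem o0b13 : H15.Bd (evA h [5]) o0F13 1 := o0b14.ext ml o0e13
theorem o0b12 : H15.Bd (evA h [5]) o0F12 1 := o0b13.ext ml o0e12
theorem o0b11 : H15.Bd (evA h [5]) o0F11 1 := H15.Bd.lev (c := 1) o0b12 o0e11 o0s11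
theorem o0b10 : H15.Bd (evA h [5]) o0F10 1 := o0b11.ext ml o0e10
theorem o0b9 : H15.Bd (evA h [5]) o0F9 1 := o0b10.ext ml o0e9
theorem o0b8 : H15.Bd (evA h [5]) o0F8 1 := o0b9.ext ml o0e8
theorem o0b7 : H15.Bd (evA h [5]) o0F7 2 := H15.Bd.lev (c := 2) o0b8 o0e7 o0s7
theorem o0b6 : H15.Bd (evA h [5]) o0F6 2 := o0b7.ext ml o0e6
theorem o0b5 : H15.Bd (evA h [5]) o0F5 2 := o0b6.ext ml o0e5
theorem o0b4 : H15.Bd (evA h [5]) o0F4 2 := o0b5.ext ml o0e4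
theorem o0b3 : H15.Bd (evA h [5]) o0F3 50 := H15.Bd.lev (c := 25) o0b4 o0e3 o0s3
theorem o0b2 : H15.Bd (evA h [5]) o0F2 50 := o0b3.ext ml o0e2
theorem o0b1 : H15.Bd (evA h [5]) o0F1 50 := o0b2.ext ml o0e1
theorem o0b0 : H15.Bd (evA h [5]) o0F0 50 := o0b1.ext ml o0e0
theorem o0 : Nat.card (Subgroup.centralizer {evA h [5]}) ≤ (H15.Sq (evA h [5]) (8 * (7 : ℕ) - 64)).ncard * 50 :=
  H15.Bd.orb ml o0b0 o0c
theorem o1b29 : H15.Bd (evA h [8]) o1F29 1 := H15.Bd.fin o1f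
theorem o1b28 : H15.Bd (evA h [8]) o1F28 1 := H15.Bd.lev (c := 1) o1b29 o1e28 o1s28
theorem o1b27 : H15.Bd (evA h [8]) o1F27 1 := H15.Bd.lev (c := 1) o1b28 o1e27 o1s27
theorem o1b26 : H15.Bd (evA h [8]) o1F26 1 := H15.Bd.lev (c := 1) o1b27 o1e26 o1s26
theorem o1b25 : H15.Bd (evA h [8]) o1F25 1 := H15.Bd.lev (c := 1) o1b26 o1e25 o1s25
theorem o1b24 : H15.Bd (evA h [8]) o1F24 1 := H15.Bd.lev (c := 1) o1b25 o1e24 o1s24
theorem o1b23 : H15.Bd (evA h [8]) o1F23 1 := H15.Bd.lev (c := 1) o1b24 o1e23 o1s23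
theorem o1b22 : H15.Bd (evA h [8]) o1F22 1 := o1b23.ext ml o1e22
theorem o1b21 : H15.Bd (evA h [8]) o1F21 1 := o1b22.ext ml o1e21
theorem o1b20 : H15.Bd (evA h [8]) o1F20 1 := o1b21.ext ml o1e20
theorem o1b19 : H15.Bd (evA h [8]) o1F19 1 := H15.Bd.lev (c := 1) o1b20 o1e19 o1s19
theorem o1b18 : H15.Bd (evA h [8]) o1F18 1 := o1b19.ext ml o1e18
theorem o1b17 : H15.Bd (evA h [8]) o1F17 1 := o1b18.ext ml o1e17
theorem o1b16 : H15.Bd (evA h [8]) o1F16 1 := o1b17.ext ml o1e16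
theorem o1b15 : H15.Bd (evA h [8]) o1F15 1 := H15.Bd.lev (c := 1) o1b16 o1e15 o1s15
theorem o1b14 : H15.Bd (evA h [8]) o1F14 1 := o1b15.ext ml o1e14
theorem o1b13 : H15.Bd (evA h [8]) o1F13 1 := o1b14.ext ml o1e13
theorem o1b12 : H15.Bd (evA h [8]) o1F12 1 := o1b13.ext ml o1e12
theorem o1b11 : H15.Bd (evA h [8]) o1F11 1 := H15.Bd.lev (c := 1) o1b12 o1e11 o1s11
theorem o1b10 : H15.Bd (evA h [8]) o1F10 1 := o1b11.ext ml o1e10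
theorem o1b9 : H15.Bd (evA h [8]) o1F9 1 := o1b10.ext ml o1e9
theorem o1b8 : H15.Bd (evA h [8]) o1F8 1 := o1b9.ext ml o1e8
theorem o1b7 : H15.Bd (evA h [8]) o1F7 5 := H15.Bd.lev (c := 5) o1b8 o1e7 o1s7
theorem o1b6 : H15.Bd (evA h [8]) o1F6 5 := o1b7.ext ml o1e6
theorem o1b5 : H15.Bd (evA h [8]) o1F5 5 := o1b6.ext ml o1e5
theorem o1b4 : H15.Bd (evA h [8]) o1F4 5 := o1b5.ext ml o1e4
theorem o1b3 : H15.Bd (evA h [8]) o1F3 160 := H15.Bd.lev (c := 32) o1b4 o1e3 o1s3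
theorem o1b2 : H15.Bd (evA h [8]) o1F2 160 := o1b3.ext ml o1e2
theorem o1b1 : H15.Bd (evA h [8]) o1F1 160 := o1b2.ext ml o1e1
theorem o1b0 : H15.Bd (evA h [8]) o1F0 160 := o1b1.ext ml o1e0
theorem o1 : Nat.card (Subgroup.centralizer {evA h [5]}) ≤ (H15.Sq (evA h [5]) (8 * (8 : ℕ) - 64)).ncard * 160 :=
  H15.Bd.orb ml o1b0 o1c
theorem o2b25 : H15.Bd (evA h [10]) o2F25 1 := H15.Bd.fin o2f
theorem o2b24 : H15.Bd (evA h [10]) o2F24 1 := H15.Bd.lev (c := 1) o2b25 o2e24 o2s24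
theorem o2b23 : H15.Bd (evA h [10]) o2F23 1 := H15.Bd.lev (c := 1) o2b24 o2e23 o2s23
theorem o2b22 : H15.Bd (evA h [10]) o2F22 1 := H15.Bd.lev (c := 1) o2b23 o2e22 o2s22
theorem o2b21 : H15.Bd (evA h [10]) o2F21 1 := H15.Bd.lev (c := 1) o2b22 o2e21 o2s21
theorem o2b20 : H15.Bd (evA h [10]) o2F20 1 := H15.Bd.lev (c := 1) o2b21 o2e20 o2s20
theorem o2b19 : H15.Bd (evA h [10]) o2F19 1 := H15.Bd.lev (c := 1) o2b20 o2e19 o2s19
theorem o2b18 : H15.Bd (evA h [10]) o2F18 1 := o2b19.ext ml o2e18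
theorem o2b17 : H15.Bd (evA h [10]) o2F17 1 := o2b18.ext ml o2e17
theorem o2b16 : H15.Bd (evA h [10]) o2F16 1 := o2b17.ext ml o2e16
theorem o2b15 : H15.Bd (evA h [10]) o2F15 1 := H15.Bd.lev (c := 1) o2b16 o2e15 o2s15
theorem o2b14 : H15.Bd (evA h [10]) o2F14 1 := o2b15.ext ml o2e14
theorem o2b13 : H15.Bd (evA h [10]) o2F13 1 := o2b14.ext ml o2e13
theorem o2b12 : H15.Bd (evA h [10]) o2F12 1 := o2b13.ext ml o2e12
theorem o2b11 : H15.Bd (evA h [10]) o2F11 1 := H15.Bd.lev (c := 1) o2b12 o2e11 o2s11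
theorem o2b10 : H15.Bd (evA h [10]) o2F10 1 := o2b11.ext ml o2e10
theorem o2b9 : H15.Bd (evA h [10]) o2F9 1 := o2b10.ext ml o2e9
theorem o2b8 : H15.Bd (evA h [10]) o2F8 1 := o2b9.ext ml o2e8
theorem o2b7 : H15.Bd (evA h [10]) o2F7 5 := H15.Bd.lev (c := 5) o2b8 o2e7 o2s7
theorem o2b6 : H15.Bd (evA h [10]) o2F6 5 := o2b7.ext ml o2e6
theorem o2b5 : H15.Bd (evA h [10]) o2F5 5 := o2b6.ext ml o2e5
theorem o2b4 : H15.Bd (evA h [10]) o2F4 5 := o2b5.ext ml o2e4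
theorem o2b3 : H15.Bd (evA h [10]) o2F3 160 := H15.Bd.lev (c := 32) o2b4 o2e3 o2s3
theorem o2b2 : H15.Bd (evA h [10]) o2F2 160 := o2b3.ext ml o2e2
theorem o2b1 : H15.Bd (evA h [10]) o2F1 160 := o2b2.ext ml o2e1
theorem o2b0 : H15.Bd (evA h [10]) o2F0 160 := o2b1.ext ml o2e0
theorem o2 : Nat.card (Subgroup.centralizer {evA h [5]}) ≤ (H15.Sq (evA h [5]) (8 * (6 : ℕ) - 64)).ncard * 160 :=
  H15.Bd.orb ml o2b0 o2c
theorem cardC : Nat.card (Subgroup.centralizer {h 5}) ≤ 2 * 5 * 604800 := by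
  have e : evA h [5] = h 5 := one_mul _
  have := H15.Sq_le (a := h 5) (d := 8 * (7 : ℕ) - 64) (e := 8 * (8 : ℕ) - 64) (f := 8 * (6 : ℕ) - 64) (by decide)
  have := e ▸ o0
  have := e ▸ o1
  have := e ▸ o2
  omega
theorem sect {G Ω : Type*} [Group G] [MulAction G Ω] {g : ℕ → G} {pt : ℕ → Ω} [IsSimpleGroup G]
    (M : Md g pt H16.J2.P 100 5 H16.J2.B 604800) : ∃ A : Subgroup Cfsg.Co0, Nat.card A = 5 ∧
      ∃ _ : ((A ⊔ Subgroup.center Cfsg.Co0).subgroupOf (Subgroup.centralizer (A : Set Cfsg.Co0))).Normal,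
      Nonempty (G ≃* Subgroup.centralizer (A : Set Cfsg.Co0) ⧸
        (A ⊔ Subgroup.center Cfsg.Co0).subgroupOf (Subgroup.centralizer (A : Set Cfsg.Co0))) :=
  have := Fact.mk (by norm_num : Nat.Prime 5)
  H15.sect (fun k hk => ml k (by omega)) M H16.J2.bound (H15.CS.rels M M.act s5)
    ((one_mul _).symm.trans (H15.eq_coN_of ml s4)) cardC s1 s2 s3

end H15.XSec5
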