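import Cfsg.Agent.H0.TRP
import Cfsg.Agent.H15.MM
import Cfsg.Agent.H15.M.A8
import Cfsg.Agent.H15.M.S8
import Cfsg.Agent.H15.M.O6m
import Cfsg.Agent.H15.M.W6m
import Cfsg.Agent.H15.M.YA8
import Cfsg.Agent.H15.M.YS8
import Cfsg.Agent.H15.M.YO6
import Cfsg.Agent.H15.M.YW6

/-! Generated by tools/h0/tr.py. -/

set_option maxRecDepth 100000
set_option maxHeartbeats 0

namespace H15.XTSyl8
open H16 H0.TR
open scoped Pointwise

noncomputable def sA8_W : List (List ℕ) := [[nat_lit 2, nat_lit 3, nat_lit 4, nat_lit 5, nat_lit 4, nat_lit 3, nat_lit 2],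
  [nat_lit 0, nat_lit 2, nat_lit 1, nat_lit 3, nat_lit 4, nat_lit 3, nat_lit 2, nat_lit 1],
  [nat_lit 0, nat_lit 2, nat_lit 3, nat_lit 2, nat_lit 5, nat_lit 4, nat_lit 3, nat_lit 2, nat_lit 1, nat_lit 6, nat_lit 5]]
noncomputable def sS8_W : List (List ℕ) := [[nat_lit 4, nat_lit 0, nat_lit 1, nat_lit 2, nat_lit 1, nat_lit 4],
  [nat_lit 4, nat_lit 3, nat_lit 2, nat_lit 3, nat_lit 4],
  [nat_lit 1, nat_lit 2, nat_lit 1, nat_lit 4, nat_lit 5, nat_lit 4, nat_lit 2, nat_lit 1],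
  [nat_lit 1, nat_lit 2, nat_lit 4, nat_lit 2, nat_lit 1, nat_lit 6]]
noncomputable def sO6_W : List (List ℕ) := [[nat_lit 2, nat_lit 1, nat_lit 0, nat_lit 2, nat_lit 1, nat_lit 3, nat_lit 2, nat_lit 0, nat_lit 2, nat_lit 1, nat_lit 3, nat_lit 2, nat_lit 0, nat_lit 1, nat_lit 2],
  [nat_lit 0, nat_lit 1, nat_lit 0, nat_lit 1, nat_lit 2, nat_lit 3, nat_lit 2, nat_lit 1],
  [nat_lit 3, nat_lit 4, nat_lit 2, nat_lit 0, nat_lit 2, nat_lit 1, nat_lit 4, nat_lit 2, nat_lit 0, nat_lit 2, nat_lit 3, nat_lit 4]]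
noncomputable def sW6_W : List (List ℕ) := [[nat_lit 2, nat_lit 0, nat_lit 1, nat_lit 3, nat_lit 1, nat_lit 2, nat_lit 0, nat_lit 3],
  [nat_lit 1, nat_lit 2, nat_lit 0, nat_lit 3, nat_lit 2, nat_lit 0, nat_lit 1, nat_lit 3],
  [nat_lit 0, nat_lit 1, nat_lit 3, nat_lit 4, nat_lit 1]]
noncomputable def qa_W : List (List ℕ) := [[nat_lit 0],
  [nat_lit 2],
  [nat_lit 0, nat_lit 2, nat_lit 0, nat_lit 2, nat_lit 1, nat_lit 2, nat_lit 0, nat_lit 2]]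
noncomputable def qa_V : List (List ℕ) := [[nat_lit 0],
  [nat_lit 0, nat_lit 1, nat_lit 0, nat_lit 1, nat_lit 2, nat_lit 1, nat_lit 0, nat_lit 1],
  [nat_lit 1]]
noncomputable def qa_Pd : List ℕ := [nat_lit 0xbeed74aeac709e6f7c8e2e78ffe964efa860df6b6ccf2a681c675c0c26583ce5542ca4505d634c4d22487de1446da040,
  nat_lit 0x5155d6ebbe7875c79fcf2c31144187aeaa2930d3ce8a3860d35df669b658f7cfbf4d24119649a72ca209b2dbee083040,
  nat_lit 0x38fd74083e78187f7c28bc70597b6c69b86079f964493a689a775caab450baf5548a3658fbf144cb3248db734cebb040]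
noncomputable def qa_P (k u : ℕ) : ℕ := Nat.land (Nat.shiftRight (nth (nat_lit 0) qa_Pd k) (Nat.mul u (nat_lit 6))) (nat_lit 63)
noncomputable def qs_W : List (List ℕ) := [[nat_lit 0, nat_lit 1, nat_lit 2, nat_lit 0, nat_lit 2, nat_lit 1, nat_lit 2, nat_lit 0, nat_lit 2],
  [nat_lit 1, nat_lit 0, nat_lit 1, nat_lit 2, nat_lit 0, nat_lit 2],
  [nat_lit 2],
  [nat_lit 2, nat_lit 1, nat_lit 2]]
noncomputable def qs_V : List (List ℕ) := [[nat_lit 0, nat_lit 3, nat_lit 2, nat_lit 1, nat_lit 2, nat_lit 3],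
  [nat_lit 2, nat_lit 3, nat_lit 2],
  [nat_lit 2]]
noncomputable def qs_Pd : List ℕ := [nat_lit 0xb2d5d6083e7896479f2cac31144fbfaea41130ddf68a3658d353ce69b860f7c1874d2a2975c9a7cf2209515beeebb040,
  nat_lit 0x515baf0c2e783ced746198a3f3d187aea4509e675cc3128b7de964209cb3105fbf4d2a68df634c82169bb2d597efa040,
  nat_lit 0x71d79fefae785545d6cb3c3134c3ceaaba291051878e2860f3dfbf6da658d74df6493411b6cbee28b2099259a70c2040,
  nat_lit 0xffe96420949310579fcf2a6871d187aeac709e6f7c41128bd35baf0c26583ce554e398a35d634c821ebbb2ddb76da040]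
noncomputable def qs_P (k u : ℕ) : ℕ := Nat.land (Nat.shiftRight (nth (nat_lit 0) qs_Pd k) (Nat.mul u (nat_lit 6))) (nat_lit 63)

theorem mda_b : ltAll 8 H15.XA8.B = 0 ∧ 20160 ≠ 0 := by decide +kernel
theorem mds_b : ltAll 8 H15.XS8.B = 0 ∧ 40320 ≠ 0 := by decide +kernel
theorem sA8_lt : H16.allL (ltAll 7) sA8_W = true := by decide +kernel
theorem sA8_m_a : allZ2 (matEnt (wdsP H15.XA8.P sA8_W) H15.XYA8.P) (nat_lit 3) (nat_lit 8) = true := by decide +kernel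
theorem sA8_r : H16.allL (fixL H15.XYA8.P 3 H15.XA8.B) H15.XYA8.Rl = true := by decide +kernel
theorem sA8_rc : H16.allL (fixL H15.XYA8.P 3 H15.XYA8.B) H15.XYA8.Rl = true := by decide +kernel
theorem sA8_e : topK H15.XYA8.L = 3 ∧ chainCard H15.XYA8.L = 2 ^ 6 ∧ chainBase H15.XYA8.L = H15.XYA8.B ∧ ltAll 8 H15.XYA8.B = 0 ∧ ¬ 2 ^ (6 + 1) ∣ 20160 := by decide +kernel
theorem sS8_lt : H16.allL (ltAll 7) sS8_W = true := by decide +kernel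
theorem sS8_m_a : allZ2 (matEnt (wdsP H15.XS8.P sS8_W) H15.XYS8.P) (nat_lit 4) (nat_lit 8) = true := by decide +kernel
theorem sS8_r : H16.allL (fixL H15.XYS8.P 4 H15.XS8.B) H15.XYS8.Rl = true := by decide +kernel
theorem sS8_rc : H16.allL (fixL H15.XYS8.P 4 H15.XYS8.B) H15.XYS8.Rl = true := by decide +kernel
theorem sS8_e : topK H15.XYS8.L = 4 ∧ chainCard H15.XYS8.L = 2 ^ 7 ∧ chainBase H15.XYS8.L = H15.XYS8.B ∧ ltAll 8 H15.XYS8.B = 0 ∧ ¬ 2 ^ (7 + 1) ∣ 40320 := by decide +kernel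
theorem sO6_lt : H16.allL (ltAll 5) sO6_W = true := by decide +kernel
theorem sO6_m_a : allZ2 (matEnt (wdsP H15.XO6m.P sO6_W) H15.XYO6.P) (nat_lit 3) (nat_lit 64) = true := by decide +kernel
theorem sO6_r : H16.allL (fixL H15.XYO6.P 3 H15.XO6m.B) H15.XYO6.Rl = true := by decide +kernel
theorem sO6_rc : H16.allL (fixL H15.XYO6.P 3 H15.XYO6.B) H15.XYO6.Rl = true := by decide +kernel
theorem sO6_e : topK H15.XYO6.L = 3 ∧ chainCard H15.XYO6.L = 2 ^ 7 ∧ chainBase H15.XYO6.L = H15.XYO6.B ∧ ltAll 64 H15.XYO6.B = 0 ∧ ¬ 2 ^ (7 + 1) ∣ 51840 := by decide +kernel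
theorem sW6_lt : H16.allL (ltAll 5) sW6_W = true := by decide +kernel
theorem sW6_m_a : allZ2 (matEnt (wdsP H15.XW6m.P sW6_W) H15.XYW6.P) (nat_lit 3) (nat_lit 64) = true := by decide +kernel
theorem sW6_r : H16.allL (fixL H15.XYW6.P 3 H15.XW6m.B) H15.XYW6.Rl = true := by decide +kernel
theorem sW6_rc : H16.allL (fixL H15.XYW6.P 3 H15.XYW6.B) H15.XYW6.Rl = true := by decide +kernel
theorem sW6_e : topK H15.XYW6.L = 3 ∧ chainCard H15.XYW6.L = 2 ^ 6 ∧ chainBase H15.XYW6.L = H15.XYW6.B ∧ ltAll 64 H15.XYW6.B = 0 ∧ ¬ 2 ^ (6 + 1) ∣ 25920 := by decide +kernel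
theorem qa_lt : H16.allL (ltAll 3) qa_W = true := by decide +kernel
theorem qa_m_a : allZ2 (matEnt (wdsP H15.XYW6.P qa_W) qa_P) (nat_lit 3) (nat_lit 64) = true := by decide +kernel
theorem qa_r : H16.allL (fixL qa_P 3 H15.XYW6.B) H15.XYA8.Rl = true := by decide +kernel
theorem qa_g : allZ (fun k => Nat.add (ltAll 3 (nth [] qa_V k))
    (sumL (fun β => Nat.xor (H15.XYW6.P k β) (apW qa_P (nth [] qa_V k) β)) H15.XYW6.B)) 0 3 = true := by decide +kernel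
theorem qs_lt : H16.allL (ltAll 3) qs_W = true := by decide +kernel
theorem qs_m_a : allZ2 (matEnt (wdsP H15.XYO6.P qs_W) qs_P) (nat_lit 4) (nat_lit 64) = true := by decide +kernel
theorem qs_r : H16.allL (fixL qs_P 4 H15.XYO6.B) H15.XYS8.Rl = true := by decide +kernel
theorem qs_g : allZ (fun k => Nat.add (ltAll 4 (nth [] qs_V k))
    (sumL (fun β => Nat.xor (H15.XYO6.P k β) (apW qs_P (nth [] qs_V k) β)) H15.XYO6.B)) 0 3 = true := by decide +kernel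

theorem mda {G : Type*} [Group G] (e : gen H15.XA8.g 7 ≃* G) :
    ∃ (_ : MulAction G (Fin 8)) (g : ℕ → G), Md g (ptF 8) H15.XA8.P 8 7 H15.XA8.B 20160 ∧
      ∀ k < 7, (e.symm (g k)).1 = H15.XA8.g k :=
  exists_md H15.XA8.act (ptF_inj 8) H15.XA8.card H15.XA8.isBase mda_b e
theorem mds {G : Type*} [Group G] (e : gen H15.XS8.g 7 ≃* G) :
    ∃ (_ : MulAction G (Fin 8)) (g : ℕ → G), Md g (ptF 8) H15.XS8.P 8 7 H15.XS8.B 40320 ∧
      ∀ k < 7, (e.symm (g k)).1 = H15.XS8.g k :=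
  exists_md H15.XS8.act (ptF_inj 8) H15.XS8.card H15.XS8.isBase mds_b e
theorem sA8_m : ∀ k < 3, ∀ i < 8, (matEnt (wdsP H15.XA8.P sA8_W) H15.XYA8.P) k i = 0 := allZ2_sound sA8_m_a
theorem sA8_act {G Ω : Type*} [Group G] [MulAction G Ω] {g : ℕ → G} {pt : ℕ → Ω}
    (M : Md g pt H15.XA8.P 8 7 H15.XA8.B 20160) : Act (wds g sA8_W) pt H15.XYA8.P 8 3 :=
  act_mat (M.wact sA8_lt) sA8_m
theorem sA8_ch {G Ω : Type*} [Group G] [MulAction G Ω] {g : ℕ → G} {pt : ℕ → Ω}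
    (M : Md g pt H15.XA8.P 8 7 H15.XA8.B 20160) : IsChain (wds g sA8_W) pt 8 H15.XYA8.L :=
  H15.XYA8.chain_of (sA8_act M) (H15.CS.rels M (sA8_act M) sA8_r)
theorem sA8 {G Ω : Type*} [Group G] [MulAction G Ω] {g : ℕ → G} {pt : ℕ → Ω}
    (M : Md g pt H15.XA8.P 8 7 H15.XA8.B 20160) (S : Sylow 2 G) : ∃ (_ : MulAction S Ω) (h : ℕ → S), Md h pt H15.XYA8.P 8 3 H15.XYA8.B 64 :=
  have := Fact.mk Nat.prime_two
  MM.md_syl M (sA8_act M) (sA8_ch M) sA8_e S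
theorem sS8_m : ∀ k < 4, ∀ i < 8, (matEnt (wdsP H15.XS8.P sS8_W) H15.XYS8.P) k i = 0 := allZ2_sound sS8_m_a
theorem sS8_act {G Ω : Type*} [Group G] [MulAction G Ω] {g : ℕ → G} {pt : ℕ → Ω}
    (M : Md g pt H15.XS8.P 8 7 H15.XS8.B 40320) : Act (wds g sS8_W) pt H15.XYS8.P 8 4 :=
  act_mat (M.wact sS8_lt) sS8_m
theorem sS8_ch {G Ω : Type*} [Group G] [MulAction G Ω] {g : ℕ → G} {pt : ℕ → Ω}
    (M : Md g pt H15.XS8.P 8 7 H15.XS8.B 40320) : IsChain (wds g sS8_W) pt 8 H15.XYS8.L :=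
  H15.XYS8.chain_of (sS8_act M) (H15.CS.rels M (sS8_act M) sS8_r)
theorem sS8 {G Ω : Type*} [Group G] [MulAction G Ω] {g : ℕ → G} {pt : ℕ → Ω}
    (M : Md g pt H15.XS8.P 8 7 H15.XS8.B 40320) (S : Sylow 2 G) : ∃ (_ : MulAction S Ω) (h : ℕ → S), Md h pt H15.XYS8.P 8 4 H15.XYS8.B 128 :=
  have := Fact.mk Nat.prime_two
  MM.md_syl M (sS8_act M) (sS8_ch M) sS8_e S
theorem sO6_m : ∀ k < 3, ∀ i < 64, (matEnt (wdsP H15.XO6m.P sO6_W) H15.XYO6.P) k i = 0 := allZ2_sound sO6_m_a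
theorem sO6_act {G Ω : Type*} [Group G] [MulAction G Ω] {g : ℕ → G} {pt : ℕ → Ω}
    (M : Md g pt H15.XO6m.P 64 5 H15.XO6m.B 51840) : Act (wds g sO6_W) pt H15.XYO6.P 64 3 :=
  act_mat (M.wact sO6_lt) sO6_m
theorem sO6_ch {G Ω : Type*} [Group G] [MulAction G Ω] {g : ℕ → G} {pt : ℕ → Ω}
    (M : Md g pt H15.XO6m.P 64 5 H15.XO6m.B 51840) : IsChain (wds g sO6_W) pt 64 H15.XYO6.L :=
  H15.XYO6.chain_of (sO6_act M) (H15.CS.rels M (sO6_act M) sO6_r)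
theorem sO6 {G Ω : Type*} [Group G] [MulAction G Ω] {g : ℕ → G} {pt : ℕ → Ω}
    (M : Md g pt H15.XO6m.P 64 5 H15.XO6m.B 51840) (S : Sylow 2 G) : ∃ (_ : MulAction S Ω) (h : ℕ → S), Md h pt H15.XYO6.P 64 3 H15.XYO6.B 128 :=
  have := Fact.mk Nat.prime_two
  MM.md_syl M (sO6_act M) (sO6_ch M) sO6_e S
theorem sW6_m : ∀ k < 3, ∀ i < 64, (matEnt (wdsP H15.XW6m.P sW6_W) H15.XYW6.P) k i = 0 := allZ2_sound sW6_m_a
theorem sW6_act {G Ω : Type*} [Group G] [MulAction G Ω] {g : ℕ → G} {pt : ℕ → Ω}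
    (M : Md g pt H15.XW6m.P 64 5 H15.XW6m.B 25920) : Act (wds g sW6_W) pt H15.XYW6.P 64 3 :=
  act_mat (M.wact sW6_lt) sW6_m
theorem sW6_ch {G Ω : Type*} [Group G] [MulAction G Ω] {g : ℕ → G} {pt : ℕ → Ω}
    (M : Md g pt H15.XW6m.P 64 5 H15.XW6m.B 25920) : IsChain (wds g sW6_W) pt 64 H15.XYW6.L :=
  H15.XYW6.chain_of (sW6_act M) (H15.CS.rels M (sW6_act M) sW6_r)
theorem sW6 {G Ω : Type*} [Group G] [MulAction G Ω] {g : ℕ → G} {pt : ℕ → Ω}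
    (M : Md g pt H15.XW6m.P 64 5 H15.XW6m.B 25920) (S : Sylow 2 G) : ∃ (_ : MulAction S Ω) (h : ℕ → S), Md h pt H15.XYW6.P 64 3 H15.XYW6.B 64 :=
  have := Fact.mk Nat.prime_two
  MM.md_syl M (sW6_act M) (sW6_ch M) sW6_e S
theorem qa_m : ∀ k < 3, ∀ i < 64, (matEnt (wdsP H15.XYW6.P qa_W) qa_P) k i = 0 := allZ2_sound qa_m_a
theorem qa_act {G Ω : Type*} [Group G] [MulAction G Ω] {g : ℕ → G} {pt : ℕ → Ω}
    (M : Md g pt H15.XYW6.P 64 3 H15.XYW6.B 64) : Act (wds g qa_W) pt qa_P 64 3 :=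
  act_mat (M.wact qa_lt) qa_m
theorem qa {G Ω : Type*} [Group G] [MulAction G Ω] {g : ℕ → G} {pt : ℕ → Ω}
    (M : Md g pt H15.XYA8.P 8 3 H15.XYA8.B 64) {T Ω' : Type*} [Group T] [MulAction T Ω'] {t : ℕ → T} {pt' : ℕ → Ω'}
    (Mt : Md t pt' H15.XYW6.P 64 3 H15.XYW6.B 64) :
    ∃ f : G →* T, Function.Surjective f ∧ ∀ W, ltAll 3 W = 0 → f (evA g W) = evA (wds t qa_W) W :=
  H15.CS.quot M H15.XYA8.bound sA8_rc Mt (qa_act Mt) qa_r qa_g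
theorem qs_m : ∀ k < 4, ∀ i < 64, (matEnt (wdsP H15.XYO6.P qs_W) qs_P) k i = 0 := allZ2_sound qs_m_a
theorem qs_act {G Ω : Type*} [Group G] [MulAction G Ω] {g : ℕ → G} {pt : ℕ → Ω}
    (M : Md g pt H15.XYO6.P 64 3 H15.XYO6.B 128) : Act (wds g qs_W) pt qs_P 64 4 :=
  act_mat (M.wact qs_lt) qs_m
theorem qs {G Ω : Type*} [Group G] [MulAction G Ω] {g : ℕ → G} {pt : ℕ → Ω}
    (M : Md g pt H15.XYS8.P 8 4 H15.XYS8.B 128) {T Ω' : Type*} [Group T] [MulAction T Ω'] {t : ℕ → T} {pt' : ℕ → Ω'}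
    (Mt : Md t pt' H15.XYO6.P 64 3 H15.XYO6.B 128) :
    ∃ f : G →* T, Function.Surjective f ∧ ∀ W, ltAll 4 W = 0 → f (evA g W) = evA (wds t qs_W) W :=
  H15.CS.quot M H15.XYS8.bound sS8_rc Mt (qs_act Mt) qs_r qs_g

end H15.XTSyl8
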