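import Cfsg.Agent.H0.TRP
import Cfsg.Agent.H16.M.U43

/-! Generated by tools/h0/tr.py. -/

set_option maxRecDepth 100000
set_option maxHeartbeats 0

namespace H15.TU43
open H16 H0.TR

noncomputable def x7_W : List (List ℕ) := [[nat_lit 1, nat_lit 2, nat_lit 5, nat_lit 2, nat_lit 8, nat_lit 6, nat_lit 4, nat_lit 8, nat_lit 3, nat_lit 8, nat_lit 0, nat_lit 4, nat_lit 3]]
noncomputable def x7_P : ℕ → ℕ → ℕ := wdsP H16.U43.P x7_W
noncomputable def ah_W : List (List ℕ) := [[nat_lit 3, nat_lit 1, nat_lit 2, nat_lit 7, nat_lit 5, nat_lit 2],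
  [nat_lit 0, nat_lit 4, nat_lit 3, nat_lit 7],
  [nat_lit 0, nat_lit 5, nat_lit 3, nat_lit 3, nat_lit 7, nat_lit 5, nat_lit 2],
  [nat_lit 0, nat_lit 3, nat_lit 0, nat_lit 3, nat_lit 4, nat_lit 7, nat_lit 4],
  [nat_lit 3, nat_lit 7, nat_lit 5, nat_lit 2],
  [nat_lit 0],
  [nat_lit 1],
  [nat_lit 2],
  [nat_lit 3],
  [nat_lit 4],
  [nat_lit 5],
  [nat_lit 6],
  [nat_lit 7],
  [nat_lit 8],
  [nat_lit 0, nat_lit 0, nat_lit 2, nat_lit 7, nat_lit 4, nat_lit 8, nat_lit 6, nat_lit 4, nat_lit 7, nat_lit 5]]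
noncomputable def ah_P : ℕ → ℕ → ℕ := wdsP H16.U43.P ah_W
noncomputable def al0Dd : ℕ := nat_lit 0x82f53588698e98343b7006f167a5c76456114f66ff6f068866a54a6fa65b3b472b71c6fe6785283ef65a4423c236935a4dd3813726595a64c74a131e30f48b3e839e10d0fe46d46545638f3363183092dd5d25384d542d3622e25a54a833b2b53e70d14fc4223d33352be3614c543f4b14f149847a3e63d73cf3c03aa2af0b346644d3884c443e2884394974793e53d639346a42038435144c42a36635f32e3102f243d39a27941f4104013ee37c35033933232a31430c2f62e33b236d35e2b628225b0862df2733943313223133042f52ba37636c35d2a736735829825a39834e3302d72ab2a326336b35c34931c30d2fe2ef29c29434d32f2aa28d2c22b329b27a2382d528c26b0682a424627e27621020b23c26f26704a26025821928627d20f26e25f2181de1c02771c51a226819302c2591ce23e1c424223a2111cd21520d18424117516621415714823b1c620e1ca1c212a11b10c0fd0ee1c90df0d00c10b20a30940850760a506708105804908f06903a06402b08d08802104604406102806002703405f04c02601e04102e02502401f02301200e01b01301700f01601000d000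
noncomputable def al0D (u : ℕ) : ℕ := Nat.land (Nat.shiftRight al0Dd (Nat.mul u (nat_lit 12))) (nat_lit 4095)
noncomputable def al0Pd : ℕ := nat_lit 0x7bb0df28b82221daa36134d40ca5943a290742c0dc2dc80b798b0b87a91a2a15ec15d4ff4b9f93ee58ab3e04b15a29e1a957b2ccc4e48b9998ca96c9c15cd64d3997e9c66a59e4b86939cc70a46be130c8862d960ad8b34092a578b80e68243c21e67f712f1e0727ea48945f5f14918a65d3d0eefb60440da7c30aaddcf565971d87d7420df4dd48278dcda661d982692c2dca7003cbad885e44a4cde8e7e180ba9b8311d326832c4ca891401a8546b63ad5d2db6fc4474e377ab1023d5528876d81f12078a82d3f8665657b5c4cd52da111e283a941a857361d052511791a24942233898c943104f45518c24e2402727496320d8fc9e2c1ba28b2bb212e45c4d320c042433391472183c09c6a0f0e050320912834700a091ec401d0f08c44080d0402c06088905613058b43e17038d01c1502014040c018d80200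
noncomputable def al0P (u : ℕ) : ℕ := Nat.land (Nat.shiftRight al0Pd (Nat.mul u (nat_lit 9))) (nat_lit 511)
noncomputable def al0Qd : ℕ := nat_lit 0x73b2de70941144ecae7fc29dacf803508cc28421df513833c606947c199768b582862ad28bbad50b260b658ebd39aa622a5493e4f2a36b379e8e83a2fe0ac63bc0941043c271c66c31380c0598735dfaca79139b69b53c3098d03db9602918b43d32af6eaddf6be1c2cc6cd84b338f4ef7542de0cd31b859872551bdc868772d190fe881b9f90d7aa7884dc4437d0ad17bb69d850472e9009f2ea31a6b58a0e91f126192e0e5e51310e27f603d948ac0f125262b58a68b65662af08ae246a755a573e1f9308417b9906336aba5568a5c24112a62f99c72972c19090814aad8a85a1e90c684d20ae5926a431485c4f180dc94441f1ace069369d45a211d808520a329008e32298d41c3c089f4aa5c1518446120d064621d0686c38271f85c4a2c0605410260807c2616140244404078804818058500c07018140200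
noncomputable def al0Q (u : ℕ) : ℕ := Nat.land (Nat.shiftRight al0Qd (Nat.mul u (nat_lit 9))) (nat_lit 511)
noncomputable def al0 : Lev := ⟨280, 15, al0D, al0P, al0Q⟩
noncomputable def al1Dd : ℕ := nat_lit 0xc3a9f8ef75bb6476371031483424182b171e221a3521150d2c141b0e0c0a090807060500
noncomputable def al1D (u : ℕ) : ℕ := Nat.land (Nat.shiftRight al1Dd (Nat.mul u (nat_lit 8))) (nat_lit 255)
noncomputable def al1Pd : ℕ := nat_lit 0x181099e077c358a8f621126415ad1735539d2d211c810ade32d4e2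
noncomputable def al1P (u : ℕ) : ℕ := Nat.land (Nat.shiftRight al1Pd (Nat.mul u (nat_lit 6))) (nat_lit 63)
noncomputable def al1Qd : ℕ := nat_lit 0x1f01801100000000008014000000001464000774430801280041b38004a58600d3c32da5577a34c9721880
noncomputable def al1Q (u : ℕ) : ℕ := Nat.land (Nat.shiftRight al1Qd (Nat.mul u (nat_lit 6))) (nat_lit 63)
noncomputable def al1 : Lev := ⟨36, 13, al1D, al1P, al1Q⟩
noncomputable def al2Dd : ℕ := nat_lit 0xc1dfab7529c4ba49168fcea18f37e3dddb136cb3e1b0881add5af477ad9d4e55627530a94f9e99c95381b0ce6b2ead50c813914cda57291249a3f2f10cb2541a9a894451a0bc5446209004a3c1d8846e3623908622c1009c5a28118cc442e0d85c2c120e844300d0a04c180f040382007050240c03010100200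
noncomputable def al2D (u : ℕ) : ℕ := Nat.land (Nat.shiftRight al2Dd (Nat.mul u (nat_lit 9))) (nat_lit 511)
noncomputable def al2Pd : ℕ := nat_lit 0x6b251a8b04291e2059699cd96c858b64f03c8b2811830888ed6c7b3ebe62ab91ea4504802daadfead4428c5cf86e8bcdec756405c27f74af45072200f92e4a5727dca435f9e5bede19a9988524cb89c6a760aa9ea5578185fa51593159a6577a41262c63191981b3e178cefc0c1ace0377b905db1785b0ced07
noncomputable def al2P (u : ℕ) : ℕ := Nat.land (Nat.shiftRight al2Pd (Nat.mul u (nat_lit 9))) (nat_lit 511)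
noncomputable def al2Qd : ℕ := nat_lit 0x96e8800002be50000000060000000000000001f009200e8c00029440e01080000001f2e002800001d8000018804a99e805ab21800002f0001ac069c6000000000c91c200060804cd2904011805e01d0000028000154000006efe800ce43f948800048a80008c0005a640000000013806a0006a2a02716000005900000470003380013404c780298fa80175d0004000c4e0009820000014000001a00c120000f0000380009603200000100000a0e00000000000d0000cc00000600033700da7dcac000001000000560005885140140000039000000000000000000000200000b000000000000000000000000000000000000000000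
noncomputable def al2Q (u : ℕ) : ℕ := Nat.land (Nat.shiftRight al2Qd (Nat.mul u (nat_lit 7))) (nat_lit 127)
noncomputable def al2 : Lev := ⟨108, 5, al2D, al2P, al2Q⟩
noncomputable def al3Dd : ℕ := nat_lit 4
noncomputable def al3D (u : ℕ) : ℕ := Nat.land (Nat.shiftRight al3Dd (Nat.mul u (nat_lit 1))) (nat_lit 1)
noncomputable def al3Pd : ℕ := nat_lit 0x149f90b
noncomputable def al3P (u : ℕ) : ℕ := Nat.land (Nat.shiftRight al3Pd (Nat.mul u (nat_lit 9))) (nat_lit 511)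
noncomputable def al3Qd : ℕ := nat_lit 0x1000000000000000000000000000000000000000000000000000000000000000000000000000000000000200000000000000000000000000000000000000000
noncomputable def al3Q (u : ℕ) : ℕ := Nat.land (Nat.shiftRight al3Qd (Nat.mul u (nat_lit 2))) (nat_lit 3)
noncomputable def al3 : Lev := ⟨3, 1, al3D, al3P, al3Q⟩
noncomputable def c7e_W : List (List ℕ) := [[nat_lit 1, nat_lit 2, nat_lit 7, nat_lit 5, nat_lit 8, nat_lit 7, nat_lit 4, nat_lit 8, nat_lit 6, nat_lit 4, nat_lit 7]]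
noncomputable def c7e_P : ℕ → ℕ → ℕ := wdsP H16.U43.P c7e_W
noncomputable def c7c0Dd : ℕ := nat_lit 0x163440
noncomputable def c7c0D (u : ℕ) : ℕ := Nat.land (Nat.shiftRight c7c0Dd (Nat.mul u (nat_lit 3))) (nat_lit 7)
noncomputable def c7c0Pd : ℕ := nat_lit 0x42c10ca838893000
noncomputable def c7c0P (u : ℕ) : ℕ := Nat.land (Nat.shiftRight c7c0Pd (Nat.mul u (nat_lit 9))) (nat_lit 511)
noncomputable def c7c0Qd : ℕ := nat_lit 0xc00600000000000000000000000000000000000000000000100000000000000000000000000000000000001000000000000000000000000000000000000000000000000000000000000000000000000000000000000000080000000000000000005000000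
noncomputable def c7c0Q (u : ℕ) : ℕ := Nat.land (Nat.shiftRight c7c0Qd (Nat.mul u (nat_lit 3))) (nat_lit 7)
noncomputable def c7c0 : Lev := ⟨7, 1, c7c0D, c7c0P, c7c0Q⟩
noncomputable def an0Fd : ℕ := nat_lit 0x66ca4a4828806820aa6a84a068ac6662868acc822244a2846aa424a86ac8468ca844480a6a4cc44ac224846aa266c28a466288424c24c6c28ac2824cc64888a8c4c42628626c862ac868c14a8c666a2a86246aca6c82c2c82a4422aa8c22a6cc668c821c22464c86acc1211ca411a114416221c6c121a11811468a11a11c21001411114a4c41111111111110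
noncomputable def an0F (u : ℕ) : ℕ := Nat.land (Nat.shiftRight an0Fd (Nat.mul u (nat_lit 4))) (nat_lit 15)
noncomputable def an0 : Nd := ⟨an0F, (nat_lit 2), (nat_lit 1), [], [((nat_lit 0), []), ((nat_lit 0), [nat_lit 0, nat_lit 0, nat_lit 0]), ((nat_lit 0), [nat_lit 0]), ((nat_lit 0), [nat_lit 0, nat_lit 0])], []⟩

theorem md_b : ltAll 280 H16.U43.B = 0 ∧ 3265920 ≠ 0 := by decide +kernel
theorem x7_lt : allL (ltAll 9) x7_W = true := by decide +kernel
theorem ah_lt : allL (ltAll 9) ah_W = true := by decide +kernel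
theorem al0_e_0 : allZ (dent al0 ah_P (nat_lit 280)) (nat_lit 0) (nat_lit 279) = true := by decide +kernel
theorem al0_h : 0 < al0.n ∧ 0 < al0.K ∧ al0.Pt 0 < 280 ∧ al0.Q (al0.Pt 0) = 0 := by decide +kernel
theorem al1_e_0 : allZ (dent al1 ah_P (nat_lit 280)) (nat_lit 0) (nat_lit 35) = true := by decide +kernel
theorem al1_h : 0 < al1.n ∧ 0 < al1.K ∧ al1.Pt 0 < 280 ∧ al1.Q (al1.Pt 0) = 0 := by decide +kernel
theorem al2_e_0 : allZ (dent al2 ah_P (nat_lit 280)) (nat_lit 0) (nat_lit 107) = true := by decide +kernel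
theorem al2_h : 0 < al2.n ∧ 0 < al2.K ∧ al2.Pt 0 < 280 ∧ al2.Q (al2.Pt 0) = 0 := by decide +kernel
theorem al3_e_0 : allZ (dent al3 ah_P (nat_lit 280)) (nat_lit 0) (nat_lit 2) = true := by decide +kernel
theorem al3_h : 0 < al3.n ∧ 0 < al3.K ∧ al3.Pt 0 < 280 ∧ al3.Q (al3.Pt 0) = 0 := by decide +kernel
theorem a_f3 : (Nat.ble al3.K 15 && Nat.ble (topK []) al3.K && fixLetters ah_P (topK []) (al3.Pt 0)) = true := by decide +kernel
theorem a_f2 : (Nat.ble al2.K 15 && Nat.ble (topK [al3]) al2.K && fixLetters ah_P (topK [al3]) (al2.Pt 0)) = true := by decide +kernel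
theorem a_f1 : (Nat.ble al1.K 15 && Nat.ble (topK [al2, al3]) al1.K && fixLetters ah_P (topK [al2, al3]) (al1.Pt 0)) = true := by decide +kernel
theorem a_f0 : (Nat.ble al0.K 15 && Nat.ble (topK [al1, al2, al3]) al0.K && fixLetters ah_P (topK [al1, al2, al3]) (al0.Pt 0)) = true := by decide +kernel
theorem a_c : chainCard [al0, al1, al2, al3] = 3265920 := by decide +kernel
theorem c7e_lt : allL (ltAll 9) c7e_W = true := by decide +kernel
theorem c7_f3 : (Nat.ble al3.K 15 && Nat.blt (nat_lit 0) 280 && fixLetters ah_P al3.K (nat_lit 0) && Nat.beq (ltAll 1 [nat_lit 0, nat_lit 0]) 0 && Nat.beq (apW x7_P [nat_lit 0, nat_lit 0] (nat_lit 0)) (al3.Pt 0)) = true := by decide +kernel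
theorem c7_f2 : (Nat.ble al2.K 15 && Nat.blt (nat_lit 0) 280 && fixLetters ah_P al2.K (nat_lit 0) && Nat.beq (ltAll 1 [nat_lit 0]) 0 && Nat.beq (apW x7_P [nat_lit 0] (nat_lit 0)) (al2.Pt 0)) = true := by decide +kernel
theorem c7_f1 : (Nat.ble al1.K 15 && Nat.blt (nat_lit 0) 280 && fixLetters ah_P al1.K (nat_lit 0) && Nat.beq (ltAll 1 [nat_lit 0, nat_lit 0, nat_lit 0]) 0 && Nat.beq (apW x7_P [nat_lit 0, nat_lit 0, nat_lit 0] (nat_lit 0)) (al1.Pt 0)) = true := by decide +kernel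
theorem c7c0_e_0 : allZ (dent c7c0 c7e_P (nat_lit 280)) (nat_lit 0) (nat_lit 6) = true := by decide +kernel
theorem c7c0_h : 0 < c7c0.n ∧ 0 < c7c0.K ∧ c7c0.Pt 0 < 280 ∧ c7c0.Q (c7c0.Pt 0) = 0 := by decide +kernel
theorem an0_0 : (Nat.ble al0.K 15 && Nat.beq (ltAll 280 []) 0 && kChk c7e_P x7_P an0.Kn 1 H16.U43.B [] && allL (ltAll 1) an0.pre && planOK ah_P x7_P 1 (al0.Pt 0) an0.plan [al0, al1, al2, al3]) = true := by decide +kernel
theorem an0_1_0 : allZ (an0.ent H16.U43.P ah_P x7_P x7_P c7e_P (nat_lit 9) (nat_lit 1) H16.U43.B al0 [al1, al2, al3] (memO c7c0)) (nat_lit 0) (nat_lit 280) = true := by decide +kernel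
theorem c7_f0 : (Nat.ble c7c0.K 1 && Nat.ble (topK []) c7c0.K && Nat.beq (c7c0.Pt 0) (al0.Pt 0) && Nat.beq (ltAll 280 []) 0 && kChk c7e_P x7_P c7c0.K 1 H16.U43.B []) = true := by decide +kernel
theorem c7_c : chainCard [c7c0] = 7 ∧ topK [c7c0] = 1 := by decide +kernel

theorem md {G : Type*} [Group G] (e : gen H16.U43.g 9 ≃* G) :
    ∃ (_ : MulAction G (Fin 280)) (g : ℕ → G), Md g (ptF 280) H16.U43.P 280 9 H16.U43.B 3265920 ∧
      ∀ k < 9, (e.symm (g k)).1 = H16.U43.g k :=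
  exists_md H16.U43.act (ptF_inj 280) H16.U43.card H16.U43.isBase md_b e
theorem x7_act {G Ω : Type*} [Group G] [MulAction G Ω] {g : ℕ → G} {pt : ℕ → Ω}
    (M : Md g pt H16.U43.P 280 9 H16.U43.B 3265920) : Act (wds g x7_W) pt x7_P 280 1 :=
  M.wact x7_lt
theorem ah_act {G Ω : Type*} [Group G] [MulAction G Ω] {g : ℕ → G} {pt : ℕ → Ω}
    (M : Md g pt H16.U43.P 280 9 H16.U43.B 3265920) : Act (wds g ah_W) pt ah_P 280 15 :=
  M.wact ah_lt
theorem al0_e : ∀ i < 279, (dent al0 ah_P (nat_lit 280)) i = 0 := allZ_sound0 al0_e_0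
theorem al0_ok : DOK al0 ah_P 280 := ⟨al0_h, al0_e⟩
theorem al1_e : ∀ i < 35, (dent al1 ah_P (nat_lit 280)) i = 0 := allZ_sound0 al1_e_0
theorem al1_ok : DOK al1 ah_P 280 := ⟨al1_h, al1_e⟩
theorem al2_e : ∀ i < 107, (dent al2 ah_P (nat_lit 280)) i = 0 := allZ_sound0 al2_e_0
theorem al2_ok : DOK al2 ah_P 280 := ⟨al2_h, al2_e⟩
theorem al3_e : ∀ i < 2, (dent al3 ah_P (nat_lit 280)) i = 0 := allZ_sound0 al3_e_0
theorem al3_ok : DOK al3 ah_P 280 := ⟨al3_h, al3_e⟩
theorem a_low {G Ω : Type*} [Group G] [MulAction G Ω] {g : ℕ → G} {pt : ℕ → Ω}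
    (M : Md g pt H16.U43.P 280 9 H16.U43.B 3265920) : SLow (gi (wds g ah_W)) pt 280 [al0, al1, al2, al3] :=
  ((((SLow.nil).cons al3_ok (ah_act M) a_f3).cons al2_ok (ah_act M) a_f2).cons al1_ok (ah_act M) a_f1).cons al0_ok (ah_act M) a_f0
theorem a_S0 {G Ω : Type*} [Group G] [MulAction G Ω] {g : ℕ → G} {pt : ℕ → Ω}
    (M : Md g pt H16.U43.P 280 9 H16.U43.B 3265920) : Stage ⊤ (wds g ah_W) pt 280 [al0, al1, al2, al3] [] :=
  M.stage (a_low M) a_c
theorem a_S1 {G Ω : Type*} [Group G] [MulAction G Ω] {g : ℕ → G} {pt : ℕ → Ω}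
    (M : Md g pt H16.U43.P 280 9 H16.U43.B 3265920) : Stage ⊤ (wds g ah_W) pt 280 [al1, al2, al3] [al0.Pt 0] :=
  (a_S0 M).next
theorem a_S2 {G Ω : Type*} [Group G] [MulAction G Ω] {g : ℕ → G} {pt : ℕ → Ω}
    (M : Md g pt H16.U43.P 280 9 H16.U43.B 3265920) : Stage ⊤ (wds g ah_W) pt 280 [al2, al3] [al1.Pt 0, al0.Pt 0] :=
  (a_S1 M).next
theorem a_S3 {G Ω : Type*} [Group G] [MulAction G Ω] {g : ℕ → G} {pt : ℕ → Ω}
    (M : Md g pt H16.U43.P 280 9 H16.U43.B 3265920) : Stage ⊤ (wds g ah_W) pt 280 [al3] [al2.Pt 0, al1.Pt 0, al0.Pt 0] :=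
  (a_S2 M).next
theorem a_S4 {G Ω : Type*} [Group G] [MulAction G Ω] {g : ℕ → G} {pt : ℕ → Ω}
    (M : Md g pt H16.U43.P 280 9 H16.U43.B 3265920) : Stage ⊤ (wds g ah_W) pt 280 [] [al3.Pt 0, al2.Pt 0, al1.Pt 0, al0.Pt 0] :=
  (a_S3 M).next
theorem c7e_act {G Ω : Type*} [Group G] [MulAction G Ω] {g : ℕ → G} {pt : ℕ → Ω}
    (M : Md g pt H16.U43.P 280 9 H16.U43.B 3265920) : Act (wds g c7e_W) pt c7e_P 280 1 :=
  M.wact c7e_lt
theorem c7c0_e : ∀ i < 6, (dent c7c0 c7e_P (nat_lit 280)) i = 0 := allZ_sound0 c7c0_e_0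
theorem c7c0_ok : DOK c7c0 c7e_P 280 := ⟨c7c0_h, c7c0_e⟩
theorem an0_1 : ∀ i < 280, (an0.ent H16.U43.P ah_P x7_P x7_P c7e_P (nat_lit 9) (nat_lit 1) H16.U43.B al0 [al1, al2, al3] (memO c7c0)) i = 0 := allZ_sound0 an0_1_0
theorem an0_t {G Ω : Type*} [Group G] [MulAction G Ω] {g : ℕ → G} {pt : ℕ → Ω}
    (M : Md g pt H16.U43.P 280 9 H16.U43.B 3265920) : TrO (gen (wds g ah_W) al0.K) (wds g x7_W) (wds g x7_W) 1 pt 280 (al0.Pt 0) (memO c7c0) :=
  node M (a_S0 M) (ah_act M) (x7_act M) (x7_act M) an0 ((c7e_act M).mono (by decide)) (fun _ _ => trivial) an0_0 an0_1 (List.forall_mem_nil _)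
theorem c7 {G Ω : Type*} [Group G] [MulAction G Ω] {g : ℕ → G} {pt : ℕ → Ω}
    (M : Md g pt H16.U43.P 280 9 H16.U43.B 3265920) : Cen ⊤ (wds g x7_W) 1 (wds g c7e_W) pt 280 [c7c0] :=
  (a_S0 M).top ▸ Cen.lev M (a_S0 M) (Cen.triv (a_S1 M) (Cen.triv (a_S2 M) (Cen.triv (a_S3 M) (Cen.bot) (forced (a_S3 M) (ah_act M) (x7_act M) _ _ c7_f3)) (forced (a_S2 M) (ah_act M) (x7_act M) _ _ c7_f2)) (forced (a_S1 M) (ah_act M) (x7_act M) _ _ c7_f1)) (an0_t M) (x7_act M) (c7e_act M) (fun _ _ => trivial) c7c0_ok c7_f0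
theorem c7_card {G Ω : Type*} [Group G] [MulAction G Ω] {g : ℕ → G} {pt : ℕ → Ω}
    (M : Md g pt H16.U43.P 280 9 H16.U43.B 3265920) : Nat.card (Subgroup.centralizer {(wds g x7_W) 0}) = 7 :=
  (c7 M).card_cent1 M.inj c7_c.1
theorem c7_eq {G Ω : Type*} [Group G] [MulAction G Ω] {g : ℕ → G} {pt : ℕ → Ω}
    (M : Md g pt H16.U43.P 280 9 H16.U43.B 3265920) : Subgroup.centralizer (gen (wds g x7_W) 1) = gen (wds g c7e_W) 1 ∧ Nat.card (gen (wds g c7e_W) 1) = 7 :=
  c7_c.1 ▸ c7_c.2 ▸ ⟨(c7 M).cent, (c7 M).card M.inj⟩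

end H15.TU43
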